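import Cfsg.Agent.SubdegThree.SdOrder
import Cfsg.Agent.Chars.Values
import Cfsg.Agent.Chars.Gallagher

/-!
The core of the centraliser is trivial in a simple group.
-/

set_option autoImplicit false
set_option linter.unusedSectionVars false
set_option linter.style.haveILetI false
set_option maxRecDepth 8000

namespace Cfsg.Lib.SubdegThree

open Subgroup Cfsg.Lib.Chars Cfsg.Lib.GLTwoThree Cfsg.Lib.Order9
open scoped ComplexConjugate

universe u

variable {G : Type u} [Group G] [Fintype G]

/-- A reflection of the model. -/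
def rk : K48 := ⟨((1, 0), (0, -1)), by decide⟩

/-- A four-group of the model. -/
def V4 : Subgroup K48 where
  carrier := {k | k = 1 ∨ k = zk ∨ k = rk ∨ k = zk * rk}
  one_mem' := Or.inl rfl
  mul_mem' := fun {a b} ha hb => (by decide +kernel : ∀ a b : K48, (a = 1 ∨ a = zk ∨ a = rk ∨ a = zk * rk) →
    (b = 1 ∨ b = zk ∨ b = rk ∨ b = zk * rk) → (a * b = 1 ∨ a * b = zk ∨ a * b = rk ∨ a * b = zk * rk)) a b ha hb
  inv_mem' := fun {a} ha => (by decide +kernel : ∀ a : K48, (a = 1 ∨ a = zk ∨ a = rk ∨ a = zk * rk) →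
    (a⁻¹ = 1 ∨ a⁻¹ = zk ∨ a⁻¹ = rk ∨ a⁻¹ = zk * rk)) a ha

/-- An element of order four of the model. -/
def fk : K48 := ⟨((0, 1), (-1, 0)), by decide⟩

/-- The cyclic subgroup of order four of the model. -/
def C4 : Subgroup K48 where
  carrier := {k | k = 1 ∨ k = fk ∨ k = zk ∨ k = zk * fk}
  one_mem' := Or.inl rfl
  mul_mem' := fun {a b} ha hb => (by decide +kernel : ∀ a b : K48, (a = 1 ∨ a = fk ∨ a = zk ∨ a = zk * fk) →
    (b = 1 ∨ b = fk ∨ b = zk ∨ b = zk * fk) → (a * b = 1 ∨ a * b = fk ∨ a * b = zk ∨ a * b = zk * fk)) a b ha hb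
  inv_mem' := fun {a} ha => (by decide +kernel : ∀ a : K48, (a = 1 ∨ a = fk ∨ a = zk ∨ a = zk * fk) →
    (a⁻¹ = 1 ∨ a⁻¹ = fk ∨ a⁻¹ = zk ∨ a⁻¹ = zk * fk)) a ha

instance : DecidablePred (· ∈ V4) := fun k => inferInstanceAs (Decidable (k = 1 ∨ k = zk ∨ k = rk ∨ k = zk * rk))

instance : DecidablePred (· ∈ C4) := fun k => inferInstanceAs (Decidable (k = 1 ∨ k = fk ∨ k = zk ∨ k = zk * fk))

theorem card_V4 : (Finset.univ.filter fun k : K48 => k ∈ V4).card = 4 := by decide +kernel

theorem card_C4 : (Finset.univ.filter fun k : K48 => k ∈ C4).card = 4 := by decide +kernel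

theorem C4_abelian : ∀ a ∈ C4, det a.m = 1 ∧ ∀ b ∈ C4, a * b = b * a ∧ a ^ 4 = 1 ∧
    (a = 1 ∨ a = zk ∨ Ord4 a) := by decide +kernel

namespace CoreSetup

variable (D : CoreSetup G)

theorem comm_C4 {x y : D.X} (hx : D.π x ∈ C4) (hy : D.π y ∈ C4) : x * y = y * x := by
  -- both are products of a power of one lift and kernel elements
  obtain ⟨f0, hf0⟩ := D.surj fk
  have hdec : ∀ x : D.X, D.π x ∈ C4 → ∃ (i : ℕ) (u : D.X), D.π u = 1 ∧ x = f0 ^ i * u := by
    intro x hx
    obtain ⟨i, hi⟩ : ∃ i : ℕ, D.π x = fk ^ i := by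
      obtain ⟨i, hi⟩ := (by decide +kernel : ∀ k ∈ C4, ∃ i : Fin 4, k = fk ^ (i : ℕ)) _ hx
      exact ⟨i, hi⟩
    exact ⟨i, (f0 ^ i)⁻¹ * x, by rw [map_mul, map_inv, map_pow, hf0, hi, inv_mul_cancel],
      (mul_inv_cancel_left _ _).symm⟩
  obtain ⟨i, u, hu, rfl⟩ := hdec x hx
  obtain ⟨j, v, hv, rfl⟩ := hdec y hy
  have hf : ∀ u : D.X, D.π u = 1 → Commute f0 u := fun u hu =>
    D.comm f0 u hu (by rw [hf0]; decide +kernel)
  exact (((Commute.refl f0).pow_pow i j).mul_right ((hf v hv).pow_left i)).mul_left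
    (((hf u hu).pow_left j).symm.mul_right (D.ker_comm hu hv : Commute u v))

theorem sum_split [Fintype D.X] [Fintype D.π.ker] (H : Subgroup K48) [DecidablePred (· ∈ H)] [Fintype (H.comap D.π)]
    (F : D.X → ℂ) (c : K48 → ℂ) (hF : ∀ x : D.X, D.π x ∈ H → D.π x ≠ 1 → F x = c (D.π x)) :
    ∑ x : H.comap D.π, F x = (∑ y : D.π.ker, F y) +
      (Nat.card D.π.ker : ℂ) * ∑ k ∈ Finset.univ.filter (fun k => k ∈ H ∧ k ≠ 1), c k := by
  classical
  rw [← Finset.sum_subtype (Finset.univ.filter fun x : D.X => D.π x ∈ H) (fun x => by simp) F,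
    ← Finset.sum_filter_add_sum_filter_not _ (fun x => D.π x = 1)]
  congr 1
  · rw [Finset.filter_filter]
    exact Finset.sum_subtype _ (fun x => by
      rw [Finset.mem_filter, MonoidHom.mem_ker]
      exact ⟨fun h => h.2.2, fun h => ⟨Finset.mem_univ _, h ▸ H.one_mem, h⟩⟩) F
  · rw [Finset.filter_filter, Finset.sum_congr rfl (g := fun x : D.X => c (D.π x)) fun x hx =>
        hF x (Finset.mem_filter.1 hx).2.1 (Finset.mem_filter.1 hx).2.2, Finset.sum_filter, Finset.sum_filter,
      ← oc.eq_def D]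
    exact D.sum_fib (fun k => if k ∈ H ∧ k ≠ 1 then c k else 0)

/-- The core is trivial. -/
theorem ker_bot (hs : IsSimpleGroup G) : D.π.ker = ⊥ := by
  classical
  obtain ⟨χ, a, ha, hcase, hconst⟩ := D.exists_small
  haveI : Fintype D.X := Fintype.ofFinite _
  haveI : Fintype D.π.ker := Fintype.ofFinite _
  haveI : Fintype (V4.comap D.π) := Fintype.ofFinite _
  haveI : Fintype (C4.comap D.π) := Fintype.ofFinite _
  set o := Nat.card D.π.ker with ho
  have ho0 : (o : ℂ) ≠ 0 := Nat.cast_ne_zero.2 Nat.card_pos.ne'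
  set F : D.X → ℂ := fun x => (χ : G → ℂ) (x : G) with hFdef
  have hFz : ∀ x : D.X, D.π x = zk → F x = (a : ℂ) := fun x hx => by
    rw [← ha]; exact hconst D.zX x (Or.inl D.π_zX) (hx.trans D.π_zX.symm)
  have hR : Cfsg.IsCharacter D.π.ker (fun y : D.π.ker => F y) :=
    IsCharacter.comp_hom (isCharacter_of_irr χ.2) (D.X.subtype.comp D.π.ker.subtype)
  have hab : ∀ x ∈ D.π.ker, ∀ y ∈ D.π.ker, x * y = y * x := fun x hx y hy =>
    D.ker_comm (D.mem_ker.1 hx) (D.mem_ker.1 hy)
  choose m hm using fun s : Cfsg.IrrCharacter D.π.ker => classInner_char_nat hR (isCharacter_of_irr s.2)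
  set d := deg (χ : G → ℂ) with hd
  have hsumm : ∑ s, m s = d := by
    apply Nat.cast_injective (R := ℂ)
    rw [hd, ← irr_apply_one_eq_deg χ]
    have h := classFunction_expand_apply (isClassFunction_isChar hR) (1 : D.π.ker)
    have e : F ((1 : D.π.ker) : D.X) = (χ : G → ℂ) 1 := rfl
    rw [← e, h, Nat.cast_sum]
    exact Finset.sum_congr rfl fun s _ => by rw [hm, ExtOdd.apply_one' hab s, mul_one]
  set p0 := Chars.principal D.π.ker with hp0
  have hd1 : ∑ y : D.π.ker, F y = (o : ℂ) * (m p0 : ℂ) := by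
    rw [← hm, classInner_def, mul_inv_cancel_left₀ ho0]
    exact Finset.sum_congr rfl fun y _ => by simp [hp0, Chars.principal]
  -- the four-group
  have hV : 0 ≤ (m p0 : ℤ) + 3 * a := by
    have hr : Cfsg.IsCharacter (V4.comap D.π) (fun x : V4.comap D.π => F x) :=
      IsCharacter.comp_hom (isCharacter_of_irr χ.2) (D.X.subtype.comp (V4.comap D.π).subtype)
    obtain ⟨w, hw⟩ := classInner_char_nat hr (isCharacter_one (G := V4.comap D.π))
    have hc : (Nat.card (V4.comap D.π) : ℂ) = (o : ℂ) * 4 := by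
      have h1 := D.card_lift (· ∈ V4)
      rw [card_V4] at h1
      rw [show Nat.card (V4.comap D.π) = o * 4 from h1]; push_cast; ring
    rw [classInner_def, hc, inv_mul_eq_iff_eq_mul₀ (mul_ne_zero ho0 (by norm_num))] at hw
    simp only [map_one, mul_one] at hw
    rw [D.sum_split V4 F (fun _ => (a : ℂ)) (fun x hx h1 => ?_), hd1, Finset.sum_const, nsmul_eq_mul,
      show (Finset.univ.filter fun k : K48 => k ∈ V4 ∧ k ≠ 1).card = 3 by decide +kernel] at hw
    · have h2 : ((m p0 : ℤ) : ℂ) + 3 * (a : ℂ) = ((4 * w : ℤ) : ℂ) := by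
        refine mul_left_cancel₀ ho0 ?_
        push_cast at hw ⊢
        linear_combination hw
      have h3 : (m p0 : ℤ) + 3 * a = 4 * w := by exact_mod_cast h2
      omega
    · by_cases hz : D.π x = zk
      · exact hFz x hz
      · rw [← ha]
        refine (classFunction_eq_of_isConj (isClassFunction_irr χ) (D.isConj_refl ?_ hz)).symm
        exact (by decide +kernel : ∀ k ∈ V4, k ≠ 1 → Invol k) _ hx h1
  -- characters outside the principal one come in fours
  have hfour : ∀ s, s ≠ p0 → 4 ∣ m s := by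
    intro s hs0
    obtain ⟨f, hf⟩ := ExtOdd.exists_hom hab s
    obtain ⟨j, hj4, hjo⟩ : ∃ j, 4 ∣ j ∧ ∃ t, j = t * o + 1 := by
      have h2 := Nat.odd_iff.1 D.odd
      rw [← ho] at h2
      rcases (show o % 4 = 3 ∨ o % 4 = 1 by omega) with h | h
      · exact ⟨o + 1, by omega, 1, by ring⟩
      · exact ⟨3 * o + 1, by omega, 3, rfl⟩
    let pw : (C4.comap D.π) →* D.π.ker := MonoidHom.mk' (fun x => ⟨(x : D.X) ^ j, by
        obtain ⟨q, rfl⟩ := hj4
        rw [MonoidHom.mem_ker, map_pow, pow_mul, ((C4_abelian _ x.2).2 _ x.2).2.1, one_pow]⟩)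
      fun x y => Subtype.ext (Commute.mul_pow (D.comm_C4 x.2 y.2) j)
    let g : (C4.comap D.π) →* ℂˣ := f.comp pw
    have hgker : ∀ (y : D.π.ker) (hy : D.π (y : D.X) ∈ C4), g ⟨y, hy⟩ = f y := fun y hy => by
      refine congrArg f (Subtype.ext ?_)
      obtain ⟨t, ht⟩ := hjo
      show (y : D.X) ^ j = y
      rw [ht, pow_succ, mul_comm t, pow_mul, D.ker_pow (D.mem_ker.1 y.2), one_pow, one_mul]
    have hr : Cfsg.IsCharacter (C4.comap D.π) (fun x : C4.comap D.π => F x) :=
      IsCharacter.comp_hom (isCharacter_of_irr χ.2) (D.X.subtype.comp (C4.comap D.π).subtype)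
    obtain ⟨w, hw⟩ := classInner_char_nat hr (isCharacter_linear g)
    have hc : (Nat.card (C4.comap D.π) : ℂ) = (o : ℂ) * 4 := by
      have h1 := D.card_lift (· ∈ C4)
      rw [card_C4] at h1
      rw [show Nat.card (C4.comap D.π) = o * 4 from h1]; push_cast; ring
    rw [classInner_def, hc, inv_mul_eq_iff_eq_mul₀ (mul_ne_zero ho0 (by norm_num))] at hw
    -- off the kernel the twisted values cancel
    have hzero : ∑ y : D.π.ker, conj ((s : D.π.ker → ℂ) y) = 0 := by
      have h := classInner_irrCharacter p0 s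
      rw [if_neg (Ne.symm hs0), classInner_def, mul_eq_zero] at h
      rcases h with h | h
      · exact absurd h (inv_ne_zero ho0)
      · simpa [hp0, Chars.principal] using h
    have hsum : ∑ x : C4.comap D.π, F x * conj ((g x : ℂ)) = ∑ y : D.π.ker, F y * conj ((s : D.π.ker → ℂ) y) := by
      have hsplit : ∀ x : C4.comap D.π, F x * conj ((g x : ℂ)) =
          (if D.π (x : D.X) = 1 then F x * conj ((g x : ℂ)) else 0) +
          ∑ k ∈ Finset.univ.filter (fun k => k ∈ C4 ∧ k ≠ 1),
            (if D.π (x : D.X) = k then F x * conj ((g x : ℂ)) else 0) := by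
        intro x
        by_cases h1 : D.π (x : D.X) = 1
        · rw [if_pos h1, Finset.sum_eq_zero fun k hk => if_neg fun e => (Finset.mem_filter.1 hk).2.2 (e.symm.trans h1),
            add_zero]
        · rw [if_neg h1, zero_add, Finset.sum_ite_eq]
          exact (if_pos (Finset.mem_filter.2 ⟨Finset.mem_univ _, x.2, h1⟩)).symm
      rw [Finset.sum_congr rfl fun x _ => hsplit x, Finset.sum_add_distrib, Finset.sum_comm]
      rw [Finset.sum_eq_zero (s := Finset.univ.filter fun k => k ∈ C4 ∧ k ≠ 1) fun k hk => ?_, add_zero]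
      · rw [← Finset.sum_filter]
        refine Finset.sum_bij' (fun x hx => ⟨(x : D.X), (Finset.mem_filter.1 hx).2⟩)
          (fun y _ => ⟨(y : D.X), by rw [mem_comap, D.mem_ker.1 y.2]; exact C4.one_mem⟩) ?_ ?_ ?_ ?_ ?_
        · intro x _; exact Finset.mem_univ _
        · intro y _; exact Finset.mem_filter.2 ⟨Finset.mem_univ _, D.mem_ker.1 y.2⟩
        · intro x _; rfl
        · intro y _; rfl
        · intro x hx
          have := hgker ⟨(x : D.X), (Finset.mem_filter.1 hx).2⟩ x.2
          rw [hf, ← this]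
      · obtain ⟨hk4, hk1⟩ := (Finset.mem_filter.1 hk).2
        obtain ⟨x0, rfl⟩ := D.surj k
        rw [← Finset.sum_filter]
        have hcase' : D.π x0 = zk ∨ Ord4 (D.π x0) ∨ Ord8 (D.π x0) := by
          rcases ((C4_abelian _ hk4).2 _ hk4).2.2 with h | h | h
          exacts [absurd h hk1, Or.inl h, Or.inr (Or.inl h)]
        let xx : C4.comap D.π := ⟨x0, hk4⟩
        let inc : D.π.ker → C4.comap D.π := fun y => ⟨(y : D.X), by rw [mem_comap, D.mem_ker.1 y.2]; exact C4.one_mem⟩
        have e : ∑ x ∈ Finset.univ.filter (fun x : C4.comap D.π => D.π (x : D.X) = D.π x0), F x * conj ((g x : ℂ)) =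
            ∑ y : D.π.ker, F x0 * (conj ((g xx : ℂ)) * conj ((s : D.π.ker → ℂ) y)) := by
          refine Finset.sum_bij' (fun x hx => ⟨x0⁻¹ * (x : D.X), D.mem_ker.2 (by
            rw [map_mul, map_inv, (Finset.mem_filter.1 hx).2, inv_mul_cancel])⟩)
            (fun y _ => xx * inc y) ?_ ?_ ?_ ?_ ?_
          · intro x _; exact Finset.mem_univ _
          · intro y _
            refine Finset.mem_filter.2 ⟨Finset.mem_univ _, ?_⟩
            show D.π (x0 * (y : D.X)) = D.π x0
            rw [map_mul, D.mem_ker.1 y.2, mul_one]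
          · intro x _; exact Subtype.ext (mul_inv_cancel_left x0 (x : D.X))
          · intro y _; exact Subtype.ext (inv_mul_cancel_left x0 (y : D.X))
          · intro x hx
            have hxk := (Finset.mem_filter.1 hx).2
            have hy : D.π (x0⁻¹ * (x : D.X)) = 1 := by rw [map_mul, map_inv, hxk, inv_mul_cancel]
            rw [show F (x : D.X) = F x0 from hconst x0 x hcase' hxk]
            have ex : x = xx * inc ⟨x0⁻¹ * (x : D.X), D.mem_ker.2 hy⟩ :=
              Subtype.ext (mul_inv_cancel_left x0 (x : D.X)).symm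
            conv_lhs => rw [ex, map_mul, Units.val_mul, map_mul]
            rw [show g (inc ⟨x0⁻¹ * (x : D.X), D.mem_ker.2 hy⟩) = f ⟨x0⁻¹ * (x : D.X), D.mem_ker.2 hy⟩ from
              hgker _ _, hf]
        rw [e, ← Finset.mul_sum, ← Finset.mul_sum, hzero, mul_zero, mul_zero]
    rw [hsum] at hw
    refine ⟨w, ?_⟩
    apply Nat.cast_injective (R := ℂ)
    push_cast
    rw [← hm, classInner_def, ← ho, hw]
    field_simp
  -- nothing outside the principal character
  have honly : ∀ s, s ≠ p0 → m s = 0 := by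
    intro s hs0
    by_contra hne
    obtain ⟨f, hf⟩ := ExtOdd.exists_hom hab s
    let s' : Cfsg.IrrCharacter D.π.ker := ⟨fun y => ((f⁻¹) y : ℂ), isIrrCharacter_linear f⁻¹⟩
    have hs' : ∀ y, (s' : D.π.ker → ℂ) y = conj ((s : D.π.ker → ℂ) y) := fun y => by
      rw [← IsCharacter.conj_inv (isCharacter_of_irr s.2), hf, map_inv]; rfl
    have hne' : s' ≠ s := by
      intro e
      refine hs0 (Subtype.ext (funext fun y => ?_))
      show (s : D.π.ker → ℂ) y = 1
      have h2 : f y * f y = 1 := by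
        have h3 : (((f⁻¹) y : ℂˣ) : ℂ) = (f y : ℂ) := by
          rw [← hf]; exact congrFun (congrArg Subtype.val e) y
        have h4 : (f y)⁻¹ = f y := Units.ext h3
        nth_rewrite 1 [← h4]
        exact inv_mul_cancel _
      have h5 : Odd (orderOf (f y)) := (D.odd.of_dvd_nat (orderOf_dvd_natCard y)).of_dvd_nat (orderOf_map_dvd f y)
      rw [hf, orderOf_eq_one_iff.1 (Nat.eq_one_of_dvd_coprimes (Nat.coprime_two_right.2 h5) dvd_rfl
        (orderOf_dvd_of_pow_eq_one (show f y ^ 2 = 1 by rw [pow_two, h2])))]; rfl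
    have hm' : m s' = m s := by
      apply Nat.cast_injective (R := ℂ)
      rw [← hm, ← hm, classInner_def, classInner_def, ← Equiv.sum_comp (Equiv.inv D.π.ker)]
      congr 1
      refine Finset.sum_congr rfl fun y _ => ?_
      have hFi : F ((y⁻¹ : D.π.ker) : D.X) = F (y : D.X) := by
        obtain ⟨x1, hx1⟩ := D.surj rk
        have hi := D.inv x1 (y : D.X) (D.mem_ker.1 y.2) (by rw [hx1]; decide +kernel)
        rw [InvMemClass.coe_inv, ← hi]
        simp only [hFdef, Subgroup.coe_mul, InvMemClass.coe_inv]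
        exact isClassFunction_irr χ _ _
      show F ((y⁻¹ : D.π.ker) : D.X) * conj ((s' : D.π.ker → ℂ) y⁻¹) = _
      rw [hFi, hs', IsCharacter.conj_inv (isCharacter_of_irr s.2), Complex.conj_conj]
    have hp' : s' ≠ p0 := by
      intro e
      refine hs0 (Subtype.ext (funext fun y => ?_))
      show (s : D.π.ker → ℂ) y = 1
      rw [← Complex.conj_conj ((s : D.π.ker → ℂ) y), ← hs', e]
      simp [hp0, Chars.principal]
    have hle : m p0 + (m s + m s') ≤ d := by
      rw [← hsumm, ← Finset.sum_pair (Ne.symm hne'), ← Finset.sum_insert (a := p0) (by simp [Ne.symm hs0, Ne.symm hp'])]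
      exact Finset.sum_le_sum_of_subset (Finset.subset_univ _)
    obtain ⟨q, hq⟩ := hfour s hs0
    omega
  have hfull : ∀ y : D.π.ker, F y = (d : ℂ) := by
    intro y
    rw [classFunction_expand_apply (isClassFunction_isChar hR) y, ← hsumm, Nat.cast_sum]
    refine Finset.sum_congr rfl fun s _ => ?_
    rw [hm]
    by_cases hs0 : s = p0
    · rw [hs0]; simp [hp0, Chars.principal]
    · rw [honly s hs0]; simp
  -- the kernel of the character
  set K := kerSubgroup (χ : G → ℂ) (isCharacter_of_irr χ.2) with hK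
  haveI : K.Normal := kerSubgroup_normal _
  rcases hs.eq_bot_or_eq_top_of_normal K inferInstance with e | e
  · refine (eq_bot_iff_forall _).2 fun y hy => ?_
    have hyK : (y : G) ∈ K := by
      rw [hK, mem_kerSubgroup, irr_apply_one_eq_deg]
      exact hfull ⟨y, hy⟩
    rw [e, mem_bot] at hyK
    exact Subtype.ext hyK
  · exfalso
    have hn := classInner_self_irr χ.2
    have hval : ∀ g : G, (χ : G → ℂ) g = (d : ℂ) := fun g => by
      have := e ▸ mem_top g
      rw [hK, mem_kerSubgroup, irr_apply_one_eq_deg] at this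
      exact this
    rw [classInner_def, Finset.sum_congr rfl fun g _ => by rw [hval g, map_natCast], Finset.sum_const,
      Finset.card_univ, nsmul_eq_mul, ← Nat.card_eq_fintype_card,
      inv_mul_cancel_left₀ (Nat.cast_ne_zero.2 Nat.card_pos.ne')] at hn
    have : d * d = 1 := by exact_mod_cast hn
    have := Nat.eq_one_of_mul_eq_one_right this
    omega

end CoreSetup

end Cfsg.Lib.SubdegThree
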