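import Cfsg.Agent.S3224

/-!
Two-groups with a small involution centraliser.
-/

set_option autoImplicit false

namespace Cfsg.Lib.SubdegThree

open Subgroup

variable {G : Type*} [Group G] [Finite G]

/-- A two-group with an involution whose centraliser has order four is dihedral or quasi-dihedral. -/
theorem dihedral_or_semi (S : Subgroup G) (hS : IsPGroup 2 S) {x : G} (hx : x ∈ S) (hx2 : orderOf x = 2)
    (h8 : 4 < Nat.card S) (hc : Nat.card (S ⊓ centralizer ({x} : Set G) : Subgroup G) = 4) :
    (∃ n : ℕ, Nonempty (S ≃* DihedralGroup n)) ∨ Cfsg.IsQuasiDihedral S := by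
  have hC : Nat.card (centralizer ({(⟨x, hx⟩ : S)} : Set S)) = 4 := by
    rw [← hc]
    refine Nat.card_congr
      { toFun := fun a => ⟨a.1, a.1.2, mem_centralizer_singleton_iff.2
          (congrArg Subtype.val (mem_centralizer_singleton_iff.1 a.2))⟩
        invFun := fun a => ⟨⟨a.1, a.2.1⟩, mem_centralizer_singleton_iff.2
          (Subtype.ext (mem_centralizer_singleton_iff.1 a.2.2))⟩
        left_inv := fun a => rfl
        right_inv := fun a => rfl }
  rcases Cfsg.Agent.S3224.result hS ⟨x, hx⟩ (by rw [← Subgroup.orderOf_coe]; exact hx2) hC with h | h | h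
  · exact Or.inl h
  · exact Or.inr h
  · omega

/-- Such a group has a cyclic subgroup of index two. -/
theorem exists_half (S : Subgroup G)
    (h : (∃ n : ℕ, Nonempty (S ≃* DihedralGroup n)) ∨ Cfsg.IsQuasiDihedral S) :
    ∃ r ∈ S, 2 * orderOf r = Nat.card S := by
  rcases h with ⟨n, ⟨e⟩⟩ | ⟨n, -, hn, x, y, hx, -⟩
  · refine ⟨(e.symm (DihedralGroup.r 1) : G), (e.symm _).2, ?_⟩
    rw [Subgroup.orderOf_coe, MulEquiv.orderOf_eq, DihedralGroup.orderOf_r_one, Nat.card_congr e.toEquiv,
      DihedralGroup.nat_card]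
  · refine ⟨(x : G), x.2, ?_⟩
    rw [Subgroup.orderOf_coe, hx, hn, pow_succ, mul_comm]

end Cfsg.Lib.SubdegThree
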