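import Cfsg.Agent.SubdegThree.Small
import Cfsg.Agent.SubdegThree.TwoGroups

/-!
The dihedral stabiliser of order twelve.
-/

set_option autoImplicit false
set_option linter.style.haveILetI false

namespace Cfsg.Lib.SubdegThree

open Subgroup DihedralGroup

universe u

variable {G : Type u} [Group G] [Finite G] {A : Subgroup G}

/-- A stabiliser `D₁₂`. -/
theorem Prim.d_twelve (h : Prim A) (e : A ≃* DihedralGroup 6) {P : Subgroup G} (hPA : P ≤ A)
    (hrel : P.relIndex A = 3) (hP : IsPGroup 2 P) {g : G} (hg : g ∉ A) (hgP : ∀ x, g * x * g⁻¹ ∈ P ↔ x ∈ P) :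
    Nonempty (G ≃* Equiv.Perm (Fin 5)) ∨
      Nonempty (G ≃* GL (Fin 2) (ZMod 7) ⧸ Subgroup.center (GL (Fin 2) (ZMod 7))) ∨
      Nonempty (G ≃* Matrix.ProjectiveSpecialLinearGroup (Fin 2) (ZMod 11)) ∨
      Nonempty (G ≃* Matrix.ProjectiveSpecialLinearGroup (Fin 2) (ZMod 13)) := by
  classical
  haveI : Fact (Nat.Prime 2) := ⟨Nat.prime_two⟩
  have h12 : Nat.card A = 12 := by rw [Nat.card_congr e.toEquiv, DihedralGroup.nat_card]
  have hP4 : Nat.card P = 4 := by
    have := Subgroup.relIndex_mul_relIndex ⊥ _ _ (bot_le (a := P)) hPA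
    simp only [Subgroup.relIndex_bot_left] at this
    rw [hrel, h12] at this
    omega
  let ι : DihedralGroup 6 →* G := A.subtype.comp e.symm.toMonoidHom
  have hι : Function.Injective ι := Subtype.val_injective.comp e.symm.injective
  have hιA : ∀ k, ι k ∈ A := fun k => (e.symm k).2
  have hsur : ∀ a ∈ A, ∃ k, ι k = a := fun a ha => ⟨e ⟨a, ha⟩, by simp [ι]⟩
  have hpow : ∀ k, ι k ∈ P → k ^ 4 = 1 := by
    intro k hk
    refine hι ?_
    rw [map_pow, map_one, ← hP4]
    have := congrArg Subtype.val (pow_card_eq_one' (G := P) (x := ⟨ι k, hk⟩))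
    rwa [Subgroup.coe_pow] at this
  set z := ι (r 3) with hz
  have hzP : z ∈ P := by
    obtain ⟨⟨a, ha⟩, ⟨b, hb⟩, hab⟩ : ∃ a b : {x : P // x ≠ 1}, a ≠ b := by
      haveI := Fintype.ofFinite P
      have : 1 < Nat.card {x : P // x ≠ 1} := by
        rw [Nat.card_eq_fintype_card, Fintype.card_subtype_compl, Fintype.card_subtype_eq,
          ← Nat.card_eq_fintype_card, hP4]
        norm_num
      obtain ⟨a, b, hab⟩ := (Finite.one_lt_card_iff_nontrivial.1 this).exists_pair_ne
      exact ⟨a, b, hab⟩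
    obtain ⟨ka, hka⟩ := hsur a (hPA a.2)
    obtain ⟨kb, hkb⟩ := hsur b (hPA b.2)
    have key := (by decide +kernel : ∀ x y : DihedralGroup 6, x ^ 4 = 1 → y ^ 4 = 1 → x ≠ 1 → y ≠ 1 → x ≠ y →
      (x * y) ^ 4 = 1 → x = r 3 ∨ y = r 3 ∨ x * y = r 3) ka kb (hpow _ (hka ▸ a.2)) (hpow _ (hkb ▸ b.2))
      (fun e' => ha (Subtype.ext (by rw [← hka, e', map_one]; rfl)))
      (fun e' => hb (Subtype.ext (by rw [← hkb, e', map_one]; rfl)))
      (fun e' => hab (Subtype.ext (Subtype.ext (by rw [← hka, e', hkb]))))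
      (hpow _ (by rw [map_mul, hka, hkb]; exact mul_mem a.2 b.2))
    rcases key with k | k | k
    · rw [hz, ← k, hka]; exact a.2
    · rw [hz, ← k, hkb]; exact b.2
    · rw [hz, ← k, map_mul, hka, hkb]; exact mul_mem a.2 b.2
  have hz1 : z ≠ 1 := fun e' => absurd (hι (e'.trans (map_one ι).symm)) (by decide)
  have hzc : ∀ a ∈ A, a * z = z * a := by
    intro a ha
    obtain ⟨k, rfl⟩ := hsur a ha
    rw [hz, ← map_mul, ← map_mul, (by decide +kernel : ∀ k : DihedralGroup 6, k * r 3 = r 3 * k) k]
  have hzo : orderOf z = 2 := by rw [hz, orderOf_injective _ hι]; exact orderOf_eq_prime (by decide) (by decide)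
  have hCz := h.centralizer_eq (hιA _) hz1 hzc
  -- the conjugate of the central involution
  set t := g * z * g⁻¹ with ht
  have htP : t ∈ P := (hgP z).2 hzP
  have htz : t ≠ z := fun e' => hg (hCz ▸ mem_centralizer_singleton_iff.2 (mul_inv_eq_iff_eq_mul.1 e'))
  obtain ⟨i, hi⟩ : ∃ i, ι (sr i) = t := by
    obtain ⟨k, hk⟩ := hsur t (hPA htP)
    have hk2 : k * k = 1 := hι (by
      rw [map_mul, map_one, hk, ht, show g * z * g⁻¹ * (g * z * g⁻¹) = g * (z * z) * g⁻¹ by group, hz, ← map_mul,
        (by decide : (r 3 : DihedralGroup 6) * r 3 = 1), map_one, mul_one, mul_inv_cancel])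
    rcases (by decide +kernel : ∀ k : DihedralGroup 6, k * k = 1 → k = 1 ∨ k = r 3 ∨ ∃ i, k = sr i) k hk2 with
      rfl | rfl | ⟨i, rfl⟩
    · exact absurd (conj_eq_one_iff.1 (hk.symm.trans (map_one ι))) hz1
    · exact absurd hk.symm htz
    · exact ⟨i, hk⟩
  have hmem : ∀ k, k * sr i = sr i * k → ι k = 1 ∨ ι k = z ∨ ι k = t ∨ ι k = z * t := by
    intro k hk
    rcases (by decide +kernel : ∀ (i : ZMod 6) (k : DihedralGroup 6), k * sr i = sr i * k →
      k = 1 ∨ k = r 3 ∨ k = sr i ∨ k = r 3 * sr i) i k hk with rfl | rfl | rfl | rfl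
    · exact Or.inl (map_one ι)
    · exact Or.inr (Or.inl rfl)
    · exact Or.inr (Or.inr (Or.inl hi))
    · exact Or.inr (Or.inr (Or.inr (by rw [map_mul, hi])))
  haveI hPc : IsMulCommutative P := IsPGroup.isMulCommutative_of_card_eq_prime_sq (p := 2) (by rw [hP4]; rfl)
  have hcomm : ∀ a ∈ P, ∀ b ∈ P, a * b = b * a := fun a ha b hb =>
    congrArg Subtype.val (mul_comm' (⟨a, ha⟩ : P) ⟨b, hb⟩)
  have hPmem : ∀ a ∈ P, a = 1 ∨ a = z ∨ a = t ∨ a = z * t := by
    intro a ha
    obtain ⟨k, rfl⟩ := hsur a (hPA ha)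
    exact hmem k (hι (by rw [map_mul, map_mul, hi]; exact hcomm _ ha _ htP))
  have hfour : ∀ a, a = 1 ∨ a = z ∨ a = t ∨ a = z * t → a ∈ P := by
    rintro a (rfl | rfl | rfl | rfl)
    exacts [one_mem _, hzP, htP, mul_mem hzP htP]
  have hCP : ∀ c, c * z = z * c → c * t = t * c → c ∈ P := by
    intro c h1 h2
    obtain ⟨k, rfl⟩ := hsur c (hCz ▸ mem_centralizer_singleton_iff.2 h1)
    exact hfour _ (hmem k (hι (by rw [map_mul, map_mul, hi]; exact h2)))
  have hNP : ∀ a ∈ A, a * t * a⁻¹ ∈ P → a ∈ P := by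
    intro a ha hat
    obtain ⟨k, rfl⟩ := hsur a ha
    have hk : k * sr i * k⁻¹ = sr i ∨ k * sr i * k⁻¹ = r 3 * sr i := by
      rcases hPmem _ hat with q | q | q | q
      · exact absurd (conj_eq_one_iff.1 q) (fun e' => hz1 (conj_eq_one_iff.1 e'))
      · exact absurd (mul_inv_eq_iff_eq_mul.1 q) (fun e' => htz (by
          rw [← hzc _ ha] at e'; exact mul_left_cancel e'))
      · exact Or.inl (hι (by rw [map_mul, map_mul, map_inv, hi]; exact q))
      · exact Or.inr (hι (by rw [map_mul, map_mul, map_inv, map_mul, hi]; exact q))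
    refine hfour _ ((by decide +kernel : ∀ (i : ZMod 6) (k : DihedralGroup 6),
      (k * sr i * k⁻¹ = sr i ∨ k * sr i * k⁻¹ = r 3 * sr i) → k = 1 ∨ k = r 3 ∨ k = sr i ∨ k = r 3 * sr i) i k hk
      |>.imp (fun q => by rw [q, map_one]) (Or.imp (fun q => by rw [q]) (Or.imp (fun q => by rw [q, hi])
        (fun q => by rw [q, map_mul, hi]))))
  -- the cyclic subgroup of order three
  set x := ι (r 2) with hx
  have hx3 : Nat.card (zpowers x) = 3 := by
    haveI : Fact (Nat.Prime 3) := ⟨Nat.prime_three⟩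
    rw [Nat.card_zpowers, hx, orderOf_injective _ hι]
    exact orderOf_eq_prime (by decide) (by decide)
  have hx0 : zpowers x ≠ ⊥ := fun e' => by rw [e', Subgroup.card_bot] at hx3; omega
  have hxA : zpowers x ≤ A := zpowers_le.2 (hιA _)
  have hAx : A ≤ normalizer (zpowers x : Set G) := by
    intro a ha
    obtain ⟨k, rfl⟩ := hsur a ha
    rw [mem_normalizer_iff_map_conj_eq, MonoidHom.map_zpowers]
    show zpowers (ι k * ι (r 2) * (ι k)⁻¹) = _
    rw [← map_inv, ← map_mul, ← map_mul]
    rcases (by decide +kernel : ∀ k : DihedralGroup 6, k * r 2 * k⁻¹ = r 2 ∨ k * r 2 * k⁻¹ = (r 2)⁻¹) k with q | q <;>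
      rw [q]
    rw [map_inv, zpowers_inv]
  have hNX := h.normalizer_eq hx0 hxA hAx
  by_cases hsyl : 2 ∣ P.index
  · -- a larger Sylow subgroup
    obtain ⟨S, hS⟩ := hP.exists_le_sylow
    have hS8 : 4 < Nat.card (S : Subgroup G) := by
      rw [← hP4]
      refine lt_of_le_of_ne (Subgroup.card_le_of_le hS) fun e' => ?_
      have := Subgroup.eq_of_le_of_card_ge hS e'.ge
      rw [this] at hsyl
      exact S.not_dvd_index hsyl
    have hSA : ((S : Subgroup G) ⊓ centralizer ({z} : Set G)) = P := by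
      rw [hCz]
      have hle : P ≤ (S : Subgroup G) ⊓ A := le_inf hS hPA
      refine (Subgroup.eq_of_le_of_card_ge hle ?_).symm
      obtain ⟨k, hk⟩ := (S.2.to_le (inf_le_left : (S : Subgroup G) ⊓ A ≤ S)).exists_card_eq
      have hd : Nat.card ((S : Subgroup G) ⊓ A : Subgroup G) ∣ 12 := h12 ▸ card_dvd_of_le inf_le_right
      rw [hP4, hk]
      rw [hk] at hd
      by_contra hlt
      have h8 : 2 ^ 3 ∣ 2 ^ k := pow_dvd_pow 2 (by
        by_contra hk3
        interval_cases k <;> simp at hlt)
      exact absurd (h8.trans hd) (by norm_num)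
    have hds := dihedral_or_semi (S : Subgroup G) S.2 (hS hzP) hzo hS8 (by rw [hSA, hP4])
    obtain ⟨q, hqS, hq⟩ := exists_half (S : Subgroup G) hds
    have hno : ∀ a : G, a * z * a⁻¹ ∉ zpowers q := by
      intro a ha
      have hqc : a⁻¹ * q * a ∈ centralizer ({z} : Set G) := by
        rw [mem_centralizer_singleton_iff]
        obtain ⟨j, hj⟩ := mem_zpowers_iff.1 ha
        have h1 : q * (a * z * a⁻¹) = a * z * a⁻¹ * q := by
          rw [← hj]; exact (Commute.self_zpow q j).eq
        calc a⁻¹ * q * a * z = a⁻¹ * (q * (a * z * a⁻¹)) * a := by group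
          _ = a⁻¹ * (a * z * a⁻¹ * q) * a := by rw [h1]
          _ = z * (a⁻¹ * q * a) := by group
      obtain ⟨k, hk⟩ := hsur _ (hCz ▸ hqc)
      obtain ⟨j, hj⟩ := S.2.exists_card_eq
      obtain ⟨m, hm⟩ : ∃ m, orderOf q = 2 ^ m := by
        obtain ⟨m, -, hm⟩ := (Nat.dvd_prime_pow Nat.prime_two).1 (show orderOf q ∣ 2 ^ j by
          rw [← hj, ← hq]; exact dvd_mul_left _ _)
        exact ⟨m, hm⟩
      have hko : orderOf k = 2 ^ m := by
        rw [← orderOf_injective ι hι, hk, show a⁻¹ * q * a = a⁻¹ * q * a⁻¹⁻¹ by rw [inv_inv],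
          ← MulAut.conj_apply, MulEquiv.orderOf_eq, hm]
      have hk4 : 4 ∣ orderOf k := by
        rw [hko]
        refine pow_dvd_pow 2 (m := 2) ?_
        by_contra hm2
        rw [hm] at hq
        interval_cases m <;> omega
      have : ∀ k : DihedralGroup 6, k ^ 6 = 1 := by decide +kernel
      exact absurd (hk4.trans (orderOf_dvd_of_pow_eq_one (this k))) (by norm_num)
    have hrel2 : (zpowers q).relIndex (S : Subgroup G) = 2 := by
      have := Subgroup.relIndex_mul_relIndex ⊥ _ _ (bot_le (a := zpowers q)) (zpowers_le.2 hqS)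
      simp only [Subgroup.relIndex_bot_left, Nat.card_zpowers] at this
      rw [← hq, mul_comm 2] at this
      exact Nat.eq_of_mul_eq_mul_left (orderOf_pos q) this
    obtain ⟨N, hN, hN2, hzN⟩ : ∃ N : Subgroup G, N.Normal ∧ N.index = 2 ∧ z ∉ N := by
      refine (Cfsg.Agent.S0111.result S (zpowers q) (zpowers_le.2 hqS) hrel2 z hzo (hS hzP) ?_).resolve_right
        (fun ⟨a, ha⟩ => hno a ha)
      intro hzq
      exact hno 1 (by simpa using hzq)
    haveI := hN
    have hxN : zpowers x ≤ N := by
      rw [zpowers_le, hx, (by decide : (r 2 : DihedralGroup 6) = r 1 ^ 2), map_pow]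
      exact Subgroup.sq_mem_of_index_two hN2 _
    have hNns : ¬ Group.IsSolvable N := fun hs => h.insol (by
      haveI : Group.IsSolvable (G ⧸ N) := by
        haveI := IsPGroup.isNilpotent (p := 2) (IsPGroup.of_card (n := 1)
          (show Nat.card (G ⧸ N) = 2 ^ 1 by rw [← Subgroup.index_eq_card, hN2, pow_one]))
        infer_instance
      haveI := hs
      exact Group.isSolvable_of_ker_le_range N.subtype (QuotientGroup.mk' N) (by simp))
    have hNss : ∀ E : Subgroup N, E.Normal → IsMulCommutative E → (∀ n ∈ E, n ^ 2 = 1) → E = ⊥ := by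
      intro E hE hc h2
      haveI := hE
      have hEp : IsPGroup 2 E := fun n => ⟨1, Subtype.ext (by simpa using h2 n n.2)⟩
      haveI : ((Cfsg.pCore 2 N).map N.subtype).Normal := inferInstance
      have hb : (Cfsg.pCore 2 N).map N.subtype = ⊥ := h.eq_bot_of_solvable _ (by
        haveI := ((Cfsg.Lib.Components.isPGroup_pCore (G := N) 2).map N.subtype).isNilpotent
        infer_instance)
      rw [Subgroup.map_eq_bot_iff_of_injective _ N.subtype_injective] at hb
      exact le_bot_iff.1 (hb ▸ Cfsg.Lib.Components.le_pCore hEp)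
    have hX3 : Nat.card ((zpowers x).subgroupOf N) = 3 := by
      rw [Nat.card_congr (Subgroup.subgroupOfEquivOfLe hxN).toEquiv, hx3]
    have hXC : centralizer (((zpowers x).subgroupOf N : Subgroup N) : Set N) = (zpowers x).subgroupOf N := by
      refine le_antisymm (fun a ha => ?_) (le_centralizer _)
      rw [mem_subgroupOf]
      have hax : (a : G) * x = x * a :=
        (congrArg Subtype.val (mem_centralizer_iff.1 ha ⟨x, hxN (mem_zpowers x)⟩
          (mem_subgroupOf.2 (mem_zpowers x)))).symm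
      have haA : (a : G) ∈ A := hNX ▸ centralizer_le_normalizer _ (mem_centralizer_iff.2 fun y hy => by
        obtain ⟨j, rfl⟩ := mem_zpowers_iff.1 hy
        exact (Commute.zpow_right (show Commute (a : G) x from hax) j).eq.symm)
      obtain ⟨k, hk⟩ := hsur _ haA
      have hkx : k * r 2 = r 2 * k := hι (by rw [map_mul, map_mul, hk]; exact hax)
      rcases (by decide +kernel : ∀ k : DihedralGroup 6, k * r 2 = r 2 * k → k = 1 ∨ k = r 2 ∨ k = r 2 * r 2 ∨
        k = r 3 ∨ k = r 2 * r 3 ∨ k = r 2 * r 2 * r 3) k hkx with rfl | rfl | rfl | rfl | rfl | rfl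
      · rw [← hk, map_one]; exact one_mem _
      · rw [← hk]; exact mem_zpowers _
      · rw [← hk, map_mul]; exact mul_mem (mem_zpowers _) (mem_zpowers _)
      · exact absurd (show ι (r 3) ∈ N from hk ▸ a.2) hzN
      · refine absurd ?_ hzN
        have := mul_mem (inv_mem (hxN (mem_zpowers x))) (hk ▸ a.2 : ι (r 2 * r 3) ∈ N)
        rwa [map_mul, inv_mul_cancel_left] at this
      · refine absurd ?_ hzN
        have := mul_mem (inv_mem (mul_mem (hxN (mem_zpowers x)) (hxN (mem_zpowers x))))
          (hk ▸ a.2 : ι (r 2 * r 2 * r 3) ∈ N)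
        rwa [map_mul, map_mul, inv_mul_cancel_left] at this
    have hCN : centralizer (N : Set G) = ⊥ := by
      haveI : (centralizer (N : Set G)).Normal := Subgroup.normal_centralizer
      by_contra hne
      refine hne (h.eq_bot_of_solvable _ ?_)
      have hint : centralizer (N : Set G) ⊓ N = ⊥ := by
        haveI : ((centralizer (N : Set G)) ⊓ N).Normal := inferInstance
        refine h.no_abelian_normal _ inferInstance ⟨⟨fun u v => Subtype.ext ?_⟩⟩
        exact (mem_centralizer_iff.1 u.2.1 v v.2.2).symm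
      have hinj : Function.Injective ((QuotientGroup.mk' N).comp (centralizer (N : Set G)).subtype) := by
        rw [injective_iff_map_eq_one]
        intro u hu
        exact Subtype.ext (mem_bot.1 (hint ▸ ⟨u.2, (QuotientGroup.eq_one_iff _).1 hu⟩ :
          (u : G) ∈ (⊥ : Subgroup G)))
      haveI : Group.IsSolvable (G ⧸ N) := by
        haveI := IsPGroup.isNilpotent (p := 2) (IsPGroup.of_card (n := 1)
          (show Nat.card (G ⧸ N) = 2 ^ 1 by rw [← Subgroup.index_eq_card, hN2, pow_one]))
        infer_instance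
      exact Group.isSolvable_of_isSolvable_injective hinj
    have hGN : Nat.card G = 2 * Nat.card N := by rw [← N.card_mul_index, hN2, mul_comm]
    have hinj : Function.Injective (MulAut.conjNormal : G →* MulAut N) := by
      rw [injective_iff_map_eq_one]
      intro a ha
      have : a ∈ centralizer (N : Set G) := mem_centralizer_iff.2 fun n hn => by
        have h1 := congrArg Subtype.val (MulEquiv.congr_fun ha ⟨n, hn⟩)
        rw [MulAut.conjNormal_apply] at h1
        simp only [MulAut.one_apply] at h1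
        exact (mul_inv_eq_iff_eq_mul.1 h1).symm
      rwa [hCN, mem_bot] at this
    rcases three_outcomes hNns hNss _ hX3 hXC with ⟨⟨e5⟩⟩ | ⟨⟨e7⟩⟩
    · left
      let f : G →* Equiv.Perm (Fin 5) :=
        (Cfsg.Lib.M12Cent.conjAlt.symm.toMonoidHom.comp (MulAut.congr e5).toMonoidHom).comp MulAut.conjNormal
      have hfi : Function.Injective f :=
        (Cfsg.Lib.M12Cent.conjAlt.symm.injective.comp (MulAut.congr e5).injective).comp hinj
      refine ⟨MulEquiv.ofBijective f ⟨hfi, ((Nat.bijective_iff_injective_and_card f).2 ⟨hfi, ?_⟩).2⟩⟩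
      rw [hGN, Nat.card_congr e5.toEquiv, nat_card_alternatingGroup, Nat.card_perm, Nat.card_fin]
      rfl
    · right; left
      haveI : Fact (Nat.Prime 7) := ⟨by norm_num⟩
      obtain ⟨r7⟩ := aut_psl_prime (p := 7)
      let f : G →* GL (Fin 2) (ZMod 7) ⧸ Subgroup.center (GL (Fin 2) (ZMod 7)) :=
        (r7.toMonoidHom.comp (MulAut.congr e7).toMonoidHom).comp MulAut.conjNormal
      have hfi : Function.Injective f := (r7.injective.comp (MulAut.congr e7).injective).comp hinj
      refine ⟨MulEquiv.ofBijective f ⟨hfi, ((Nat.bijective_iff_injective_and_card f).2 ⟨hfi, ?_⟩).2⟩⟩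
      rw [hGN, Nat.card_congr e7.toEquiv, Cfsg.Lib.AltNineLocal.card_psl_seven]
      have hc := (Subgroup.center (GL (Fin 2) (ZMod 7))).card_eq_card_quotient_mul_card_subgroup
      rw [Cfsg.Lib.Classical.card_center_GL, Matrix.card_GL_field, Fin.prod_univ_two, ZMod.card,
        Nat.card_zmod] at hc
      norm_num at hc
      rw [Nat.card_eq_fintype_card]
      omega
  · -- the four-group is a Sylow subgroup
    let S : Sylow 2 G := hP.toSylow hsyl
    have hSP : (S : Subgroup G) = P := IsPGroup.toSylow_coe _ _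
    have hu : g * t * g⁻¹ = z * t := by
      rcases hPmem _ ((hgP t).2 htP) with q | q | q | q
      · exact absurd (conj_eq_one_iff.1 q) (fun e' => hz1 (conj_eq_one_iff.1 e'))
      · exfalso
        have hg2 : g * g ∈ A := by
          refine hCz ▸ mem_centralizer_singleton_iff.2 ?_
          rw [← mul_inv_eq_iff_eq_mul, show g * g * z * (g * g)⁻¹ = g * (g * z * g⁻¹) * g⁻¹ by group]
          exact q
        have hg2P : g * g ∈ P := hNP _ hg2 (by
          rw [show g * g * t * (g * g)⁻¹ = g * (g * t * g⁻¹) * g⁻¹ by group, q]; exact htP)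
        have hgp : IsPGroup 2 (zpowers g) := by
          refine IsPGroup.iff_card.2 ?_
          rw [Nat.card_zpowers]
          have h4 : g ^ 8 = 1 := by
            have : (g * g) ^ 4 = 1 := by
              have h0 := congrArg Subtype.val (pow_card_eq_one' (G := P) (x := ⟨_, hg2P⟩))
              rwa [Subgroup.coe_pow, hP4] at h0
            rw [← this, show g * g = g ^ 2 by rw [pow_two], ← pow_mul]
          obtain ⟨m, -, hm⟩ := (Nat.dvd_prime_pow Nat.prime_two (m := 3)).1 (orderOf_dvd_of_pow_eq_one h4)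
          exact ⟨m, hm⟩
        have hsup : IsPGroup 2 (zpowers g ⊔ P : Subgroup G) :=
          IsPGroup.to_sup_of_normal_right' hgp hP (zpowers_le.2 (mem_normalizer_iff.2 fun y => (hgP y).symm))
        have := S.3 hsup (by rw [hSP]; exact le_sup_right)
        exact hg (hPA (hSP ▸ this ▸ mem_sup_left (mem_zpowers g)))
      · exact absurd (conj_eq_one_iff.1 (show g * (t * z⁻¹) * g⁻¹ = 1 by
          rw [show g * (t * z⁻¹) * g⁻¹ = (g * t * g⁻¹) * (g * z * g⁻¹)⁻¹ by group, q, ← ht, mul_inv_cancel]))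
          (fun e' => htz (mul_inv_eq_one.1 e'))
      · exact q
    have hu2 : g * (z * t) * g⁻¹ = z := by
      rw [show g * (z * t) * g⁻¹ = g * z * g⁻¹ * (g * t * g⁻¹) by group, hu, ← ht, ← mul_assoc,
        hcomm t htP z hzP, mul_assoc, show t * t = 1 by rw [← hi, ← map_mul, sr_mul_self, map_one], mul_one]
    haveI : Nontrivial G := ⟨⟨z, 1, hz1⟩⟩
    haveI hsimple : IsSimpleGroup G := by
      refine ⟨fun N hN => ?_⟩
      haveI := hN
      by_cases hN0 : N = ⊥
      · exact Or.inl hN0
      right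
      have hne := h.inf_ne_bot hPA hP (fun c hc => hPA (hCP c (mem_centralizer_iff.1 hc z hzP).symm
        (mem_centralizer_iff.1 hc t htP).symm)) N hN0
      obtain ⟨a, ⟨haN, haA⟩, ha1⟩ := (Subgroup.ne_bot_iff_exists_ne_one.1 hne).elim
        fun a ha => (⟨a.1, a.2, fun e' => ha (Subtype.ext e')⟩ : ∃ a, a ∈ N ⊓ A ∧ a ≠ 1)
      obtain ⟨k, rfl⟩ := hsur a haA
      have hk : ι (r 2) ∈ N ∨ z ∈ N := by
        have hk1 : k ≠ 1 := fun e' => ha1 (by rw [e', map_one])
        rcases (by decide +kernel : ∀ k : DihedralGroup 6, k ≠ 1 → k = r 3 ∨ k * k = r 2 ∨ k * k = r 4 ∨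
          r 1 * k * (r 1)⁻¹ * k⁻¹ = r 2) k hk1 with q | q | q | q
        · exact Or.inr (hz ▸ q ▸ haN)
        · exact Or.inl (by rw [← q, map_mul]; exact mul_mem haN haN)
        · refine Or.inl ?_
          rw [(by decide : (r 2 : DihedralGroup 6) = r 4 * r 4), map_mul, ← q, map_mul]
          exact mul_mem (mul_mem haN haN) (mul_mem haN haN)
        · refine Or.inl ?_
          rw [← q, map_mul, map_mul, map_mul, map_inv, map_inv]
          exact mul_mem (hN.conj_mem _ haN _) (inv_mem haN)
      have hzN : z ∈ N := by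
        by_contra hzN
        refine hN0 (h.eq_bot_of_odd N (Nat.odd_iff.2 (Nat.two_dvd_ne_zero.1 fun hev => ?_)))
        obtain ⟨u, hu'⟩ := exists_prime_orderOf_dvd_card' (G := N) 2 hev
        obtain ⟨R, hR⟩ := (IsPGroup.of_card (n := 1) (show Nat.card (zpowers (u : G)) = 2 ^ 1 by
          rw [Nat.card_zpowers, Subgroup.orderOf_coe, hu', pow_one])).exists_le_sylow
        obtain ⟨a, ha⟩ := MulAction.exists_smul_eq G R S
        have huS : a * u * a⁻¹ ∈ P := by
          rw [← hSP, ← ha, Sylow.coe_subgroup_smul]; exact ⟨u, hR (mem_zpowers _), rfl⟩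
        have huN := hN.conj_mem _ u.2 a
        rcases hPmem _ huS with q | q | q | q <;> rw [q] at huN
        · rw [conj_eq_one_iff] at q
          rw [show u = 1 from Subtype.ext q, orderOf_one] at hu'
          omega
        · exact hzN huN
        · refine hzN ?_
          have := hN.conj_mem _ huN g⁻¹
          rwa [ht, show g⁻¹ * (g * z * g⁻¹) * g⁻¹⁻¹ = z by group] at this
        · refine hzN ?_
          have := hN.conj_mem _ huN g
          rwa [hu2] at this
      have htN : t ∈ N := hN.conj_mem _ hzN g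
      have hx2 : ι (r 2) ∈ N := by
        rw [(by decide +kernel : ∀ i : ZMod 6, (r 2 : DihedralGroup 6) = r 1 * sr i * (r 1)⁻¹ * sr i) i, map_mul,
          map_mul, map_mul, map_inv, hi]
        exact mul_mem (hN.conj_mem _ htN _) htN
      have hgen : ∀ k : DihedralGroup 6, ι k ∈ N := by
        intro k
        obtain ⟨a, b, c, hk⟩ := (by decide +kernel : ∀ (i : ZMod 6) (k : DihedralGroup 6), ∃ a b : Fin 3, ∃ c : Fin 2,
          k = r 2 ^ (a : ℕ) * r 3 ^ (b : ℕ) * sr i ^ (c : ℕ)) i k
        rw [hk, map_mul, map_mul, map_pow, map_pow, map_pow, hi]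
        exact mul_mem (mul_mem (pow_mem hx2 _) (pow_mem hzN _)) (pow_mem htN _)
      have hAN : A ≤ N := fun a ha => by obtain ⟨k, rfl⟩ := hsur a ha; exact hgen k
      refine h.coatom.2 N (lt_of_le_of_ne hAN fun e' => ?_)
      subst e'
      exact hne (by rw [inf_idem]; exact h.core A le_rfl hN)
    let W := centralizer ({z} : Set G)
    have hdih : Nonempty ((S : Subgroup G) ≃* DihedralGroup 2) := by
      haveI : IsKleinFour (S : Subgroup G) := by
        refine ⟨by rw [hSP, hP4], ?_⟩
        refine (Nat.prime_two.eq_one_or_self_of_dvd _ (Monoid.exponent_dvd_of_forall_pow_eq_one fun a => ?_)).resolve_left ?_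
        · apply Subtype.ext
          have h2 : ∀ b ∈ P, b * b = 1 := by
            have hz2 : z * z = 1 := by rw [hz, ← map_mul, (by decide : (r 3 : DihedralGroup 6) * r 3 = 1), map_one]
            have ht2 : t * t = 1 := by rw [← hi, ← map_mul, sr_mul_self, map_one]
            intro b hb
            rcases hPmem b hb with rfl | rfl | rfl | rfl
            exacts [one_mul 1, hz2, ht2, by
              rw [show z * t * (z * t) = z * (t * z) * t by group, hcomm t htP z hzP, mul_assoc, mul_assoc, ht2, mul_one, hz2]]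
          simpa [pow_two] using h2 a (hSP ▸ a.2)
        · intro e'
          haveI := Monoid.exp_eq_one_iff.1 e'
          have := Finite.card_le_one_iff_subsingleton.2 (inferInstance : Subsingleton (S : Subgroup G))
          rw [hSP, hP4] at this
          omega
      exact IsKleinFour.nonempty_mulEquiv
    set O := (Cfsg.oddCore W).map W.subtype with hO
    have hOodd : Odd (Nat.card O) := by
      rw [hO, Nat.card_congr (Subgroup.equivMapOfInjective _ _ W.subtype_injective).toEquiv.symm]
      exact Nat.coprime_two_right.1 (Cfsg.Lib.Components.coprime_card_pPrimeCore 2)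
    have hOX : O ≤ zpowers x := by
      intro a ha
      have haA : a ∈ A := by
        have h1 : a ∈ centralizer ({z} : Set G) := (map_subtype_le _) ha
        rwa [hCz] at h1
      obtain ⟨k, rfl⟩ := hsur a haA
      have hko : Odd (orderOf k) := by
        rw [← orderOf_injective ι hι, ← Subgroup.orderOf_mk _ ha]
        exact hOodd.of_dvd_nat (orderOf_dvd_natCard _)
      rcases (by decide +kernel : ∀ k : DihedralGroup 6, k = 1 ∨ k = r 2 ∨ k = r 2 * r 2 ∨ k ^ 3 ≠ 1) k with
        rfl | rfl | rfl | q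
      · rw [map_one]; exact one_mem _
      · exact mem_zpowers _
      · rw [map_mul]; exact mul_mem (mem_zpowers _) (mem_zpowers _)
      · exfalso
        have h6 : orderOf k ∣ 6 := orderOf_dvd_of_pow_eq_one ((by decide +kernel : ∀ k : DihedralGroup 6, k ^ 6 = 1) k)
        have h3 : orderOf k ∣ 3 :=
          (Nat.Coprime.dvd_mul_left (n := 3) (m := 2) (Nat.coprime_two_right.2 hko)).1 h6
        exact q (orderOf_dvd_iff_pow_eq_one.1 h3)
    have hOeq : O ≠ ⊥ → O = zpowers x := fun hne => by
      haveI : Fact (Nat.Prime 3) := ⟨Nat.prime_three⟩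
      refine Subgroup.eq_of_le_of_card_ge hOX ?_
      rcases (Nat.dvd_prime Nat.prime_three).1 (hx3 ▸ card_dvd_of_le hOX) with q | q
      · exact absurd (Subgroup.card_eq_one.1 q) hne
      · rw [q, hx3]
    have htx : t * x * t⁻¹ = x⁻¹ := by
      rw [← hi, hx, ← map_inv, ← map_inv, ← map_mul, ← map_mul]
      exact congrArg ι ((by decide +kernel : ∀ i : ZMod 6, sr i * r 2 * (sr i)⁻¹ = (r 2 : DihedralGroup 6)⁻¹) i)
    have hxne : x ≠ x⁻¹ := fun e' => absurd (hι (e'.trans (map_inv ι _).symm)) (by decide)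
    obtain ⟨F, i1, i2, hodd, ⟨eF⟩⟩ := Cfsg.Agent.S0508.result S 2 le_rfl hdih z hzo (hSP ▸ hzP)
      (fun s hs => hcomm s (hSP ▸ hs) z hzP) O hO
      (fun hne => by
        rw [hOeq hne, hSP]
        have hS0 : P ⊓ centralizer (zpowers x : Set G) = zpowers z := by
          refine le_antisymm (fun a ha => ?_) (zpowers_le.2 ⟨hzP, mem_centralizer_iff.2 fun y hy => hzc y (hxA hy)⟩)
          have hax := mem_centralizer_iff.1 ha.2 x (mem_zpowers x)
          rcases hPmem a ha.1 with rfl | rfl | rfl | rfl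
          · exact one_mem _
          · exact mem_zpowers _
          · exact absurd htx (by rw [← hax]; simpa [mul_assoc] using hxne)
          · refine absurd htx ?_
            have hzx : z⁻¹ * x * z = x := by
              rw [mul_assoc, hzc x (hιA _)]; group
            have h1 : t * x * t⁻¹ = z⁻¹ * (z * t * x) * t⁻¹ := by group
            rw [h1, ← hax, show z⁻¹ * (x * (z * t)) * t⁻¹ = z⁻¹ * x * z by group, hzx]
            exact hxne
        rw [hS0]
        refine ⟨inferInstance, ?_⟩
        have := Subgroup.relIndex_mul_relIndex ⊥ _ _ (bot_le (a := zpowers z)) (zpowers_le.2 hzP)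
        simp only [Subgroup.relIndex_bot_left, Nat.card_zpowers, hzo, hP4] at this
        omega)
      (fun s hs hsc y hy => by
        have hyA : y ∈ A := hxA (hOX hy)
        obtain ⟨j, rfl⟩ := mem_zpowers_iff.1 (hOX hy)
        rcases hPmem s (hSP ▸ hs) with rfl | rfl | rfl | rfl
        · exact absurd (one_mem _) hsc
        · exact absurd (mem_centralizer_iff.2 fun w hw => hzc w (hxA (hOX hw))) hsc
        · rw [← conj_zpow, htx, inv_zpow]
        · rw [← conj_zpow, show z * t * x * (z * t)⁻¹ = z * (t * x * t⁻¹) * z⁻¹ by group, htx,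
            ← hzc _ (inv_mem (hιA _)), mul_inv_cancel_right, inv_zpow])
      (fun Y hY hY0 => by
        have hYx : Y = zpowers x := by
          haveI : Fact (Nat.Prime 3) := ⟨Nat.prime_three⟩
          refine Subgroup.eq_of_le_of_card_ge (hY.trans hOX) ?_
          rcases (Nat.dvd_prime Nat.prime_three).1 (hx3 ▸ card_dvd_of_le (hY.trans hOX)) with q | q
          · exact absurd (Subgroup.card_eq_one.1 q) hY0
          · rw [q, hx3]
        rw [hYx, hNX, hCz])
    have hcF := psl_invol_cent hodd (eF z) (by rw [MulEquiv.orderOf_eq, hzo])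
    have he : Nat.card (centralizer ({eF z} : Set _)) = 12 := by
      rw [← h12, ← hCz]
      exact (Nat.card_congr (eF.toEquiv.subtypeEquiv fun a => by
        rw [mem_centralizer_singleton_iff, mem_centralizer_singleton_iff]
        show a * z = z * a ↔ eF a * eF z = eF z * eF a
        rw [← map_mul, ← map_mul, eF.injective.eq_iff])).symm
    rw [he] at hcF
    rcases hcF with q | q
    · exact Or.inr (Or.inr (Or.inr (psl_zmod (by norm_num) (show Fintype.card F = 13 by omega) eF)))
    · exact Or.inr (Or.inr (Or.inl (psl_zmod (by norm_num) (show Fintype.card F = 11 by omega) eF)))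

end Cfsg.Lib.SubdegThree
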