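import Cfsg.Agent.LocalEven.Goldschmidt.SubdegreeThree
import Cfsg.Agent.OddChar.PF.OddOrder
import Cfsg.Agent.Classical.Misc.PSLOver

/-!
Primitive insoluble groups with a suborbit of length three: the point stabiliser and its basic properties.
-/

set_option autoImplicit false
set_option linter.style.haveILetI false

namespace Cfsg.Lib.SubdegThree

open Subgroup MulAction Cfsg.Lib.Amalgam Cfsg.Lib.Goldschmidt

universe u

variable {G : Type u} [Group G]

/-- The five possible stabilisers. -/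
def Types (A : Subgroup G) : Prop :=
  Nonempty (A ≃* Multiplicative (ZMod 3)) ∨ Nonempty (A ≃* Equiv.Perm (Fin 3)) ∨
    Nonempty (A ≃* DihedralGroup 6) ∨ Nonempty (A ≃* Equiv.Perm (Fin 4)) ∨
    Nonempty (A ≃* Equiv.Perm (Fin 4) × Multiplicative (ZMod 2))

/-- A maximal core-free subgroup of an insoluble group, solvable. -/
structure Prim (A : Subgroup G) : Prop where
  coatom : IsCoatom A
  core : ∀ N : Subgroup G, N ≤ A → N.Normal → N = ⊥
  insol : ¬ Group.IsSolvable G
  sol : Group.IsSolvable A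

variable [Finite G]

theorem card_types {A : Subgroup G} (h : Types A) : Group.IsSolvable A ∧
    (Nat.card A = 3 * 1 ∨ Nat.card A = 3 * 2 ∨ Nat.card A = 3 * 4 ∨ Nat.card A = 3 * 8 ∨ Nat.card A = 3 * 16) := by
  have h4 : Nat.card (Equiv.Perm (Fin 4)) = 24 := by rw [Nat.card_perm, Nat.card_fin]; rfl
  have hz : ∀ n : ℕ, Nat.card (Multiplicative (ZMod n)) = n := fun n => by
    rw [Nat.card_congr Multiplicative.toAdd, Nat.card_zmod]
  have key : ∀ {Y : Type} [Group Y] [Group.IsSolvable Y] (_ : A ≃* Y), Group.IsSolvable A :=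
    fun e => Group.isSolvable_of_isSolvable_injective (f := e.toMonoidHom) e.injective
  haveI := Cfsg.Lib.Classical.PSLOver.solvable_sym
  rcases h with ⟨⟨e⟩⟩ | ⟨⟨e⟩⟩ | ⟨⟨e⟩⟩ | ⟨⟨e⟩⟩ | ⟨⟨e⟩⟩
  · exact ⟨key e, Or.inl (by rw [Nat.card_congr e.toEquiv, hz])⟩
  · haveI : Group.IsSolvable (Equiv.Perm (Fin 3)) := by
      let f := Equiv.Perm.viaEmbeddingHom (Fin.castSuccEmb : Fin 3 ↪ Fin 4)
      exact Group.isSolvable_of_isSolvable_injective (f := f) (Equiv.Perm.viaEmbeddingHom_injective _)
    exact ⟨key e, Or.inr (Or.inl (by rw [Nat.card_congr e.toEquiv, Nat.card_perm, Nat.card_fin]; rfl))⟩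
  · haveI : Group.IsSolvable (DihedralGroup 6) := by
      haveI : NeZero (6 : ℕ) := ⟨by norm_num⟩
      let f : DihedralGroup 6 →* Multiplicative (ZMod 2) :=
        MonoidHom.mk' (fun x => match x with | .r _ => 1 | .sr _ => Multiplicative.ofAdd 1) (by decide)
      let i : Multiplicative (ZMod 6) →* DihedralGroup 6 :=
        MonoidHom.mk' (fun x => .r x.toAdd) (fun x y => rfl)
      exact Group.isSolvable_of_ker_le_range i f (by
        rintro (j | j) hj
        · exact ⟨Multiplicative.ofAdd j, rfl⟩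
        · exact absurd hj (by simp [MonoidHom.mem_ker, f]))
    exact ⟨key e, Or.inr (Or.inr (Or.inl (by rw [Nat.card_congr e.toEquiv, DihedralGroup.nat_card])))⟩
  · exact ⟨key e, Or.inr (Or.inr (Or.inr (Or.inl (by rw [Nat.card_congr e.toEquiv, h4]))))⟩
  · haveI : Group.IsSolvable (Equiv.Perm (Fin 4) × Multiplicative (ZMod 2)) := inferInstance
    exact ⟨key e, Or.inr (Or.inr (Or.inr (Or.inr (by rw [Nat.card_congr e.toEquiv, Nat.card_prod, h4, hz]))))⟩

/-- The data of a suborbit of length three. -/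
theorem exists_data {Ω : Type*} [MulAction G Ω] [FaithfulSMul G Ω] [Finite Ω]
    (hsol : ¬ Group.IsSolvable G) (hprim : IsPreprimitive G Ω) (a b : Ω)
    (h3 : Nat.card (orbit (stabilizer G a) b) = 3) :
    ∃ (A P : Subgroup G) (g : G), Prim A ∧ Types A ∧ P ≤ A ∧ P.relIndex A = 3 ∧ IsPGroup 2 P ∧ g ∉ A ∧
      ∀ x, g * x * g⁻¹ ∈ P ↔ x ∈ P := by
  haveI := hprim
  haveI : Fact (Nat.Prime 2) := ⟨Nat.prime_two⟩
  haveI : Nontrivial Ω := by
    have h : Nat.card (orbit (stabilizer G a) b) ≤ Nat.card Ω :=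
      Nat.card_le_card_of_injective _ Subtype.val_injective
    exact Finite.one_lt_card_iff_nontrivial.mp (by omega)
  set A := stabilizer G a with hA
  set P := A ⊓ stabilizer G b with hP
  have h31 : P.relIndex A = 3 := by
    show (P.subgroupOf A).index = 3
    have hsub : P.subgroupOf A = stabilizer A b := by
      ext x
      rw [Subgroup.mem_subgroupOf, hP, Subgroup.mem_inf]
      exact ⟨fun h => h.2, fun h => ⟨x.2, h⟩⟩
    rw [hsub, index_stabilizer, ← Nat.card_coe_set_eq]
    exact h3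
  obtain ⟨g₀, hg₀⟩ := exists_smul_eq G a b
  have hM : stabilizer G b = cs g₀ A := hg₀ ▸ stabilizer_smul_eq_stabilizer_map_conj g₀ a
  have hc : Nat.card (stabilizer G b) = Nat.card A := by
    rw [hM]
    exact (Nat.card_congr (A.equivMapOfInjective _ (MulAut.conj g₀).injective).toEquiv).symm
  have hcA : Nat.card P * 3 = Nat.card A := by
    have h1 := Subgroup.relIndex_mul_relIndex ⊥ _ _ (bot_le (a := P)) (inf_le_left : P ≤ A)
    simp only [Subgroup.relIndex_bot_left] at h1
    rw [h31] at h1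
    exact h1
  have h32 : P.relIndex (stabilizer G b) = 3 := by
    have h2 := Subgroup.relIndex_mul_relIndex ⊥ _ _ (bot_le (a := P)) (inf_le_right : P ≤ stabilizer G b)
    simp only [Subgroup.relIndex_bot_left] at h2
    rw [hc, ← hcA] at h2
    exact Nat.eq_of_mul_eq_mul_left Nat.card_pos h2
  have hco := IsPreprimitive.isCoatom_stabilizer_of_isPreprimitive G a
  have hcore : ∀ N : Subgroup G, N ≤ A → N.Normal → N = ⊥ := by
    intro N hN hn
    refine (Subgroup.eq_bot_iff_forall N).mpr fun n hn' => ?_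
    refine eq_of_smul_eq_smul fun c : Ω => ?_
    obtain ⟨y, rfl⟩ := exists_smul_eq G a c
    have h := mem_stabilizer_iff.mp (hN (hn.conj_mem n hn' y⁻¹))
    rw [inv_inv, mul_smul, mul_smul, inv_smul_eq_iff] at h
    rw [h, one_smul]
  have hne : a ≠ b := by
    rintro rfl
    rw [hP, inf_idem, Subgroup.relIndex_self] at h31
    omega
  have htypes : Types A := by
    refine Cfsg.Lib.Goldschmidt.five_types ?_ (fun N hN => hcore N (hN.trans inf_le_left)) h31 h32 g₀ hM
    refine hco.2 _ (lt_of_le_of_ne le_sup_left fun e => ?_)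
    have : stabilizer G b ≤ A := sup_eq_left.mp e.symm
    rw [hP, inf_eq_right.mpr this, Subgroup.relIndex_self] at h32
    omega
  obtain ⟨hsolA, hcard⟩ := card_types htypes
  have hPp : IsPGroup 2 P := by
    rcases hcard with e | e | e | e | e
    exacts [IsPGroup.of_card (n := 0) (by omega), IsPGroup.of_card (n := 1) (by omega),
      IsPGroup.of_card (n := 2) (by omega), IsPGroup.of_card (n := 3) (by omega),
      IsPGroup.of_card (n := 4) (by omega)]
  -- a conjugate of `P` inside the second stabiliser, moved back by Sylow's theorem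
  have hPg : cs g₀ P ≤ stabilizer G b := hM ▸ Subgroup.map_mono inf_le_left
  have hnd : ¬ 2 ∣ (P.subgroupOf (stabilizer G b)).index := by
    show ¬ 2 ∣ P.relIndex (stabilizer G b)
    rw [h32]; norm_num
  let PB : Sylow 2 (stabilizer G b) :=
    (hPp.of_equiv (Subgroup.subgroupOfEquivOfLe inf_le_right).symm).toSylow hnd
  have hPB : (PB : Subgroup (stabilizer G b)) = P.subgroupOf (stabilizer G b) := IsPGroup.toSylow_coe _ _
  obtain ⟨R, hR⟩ := ((hPp.map (MulAut.conj g₀).toMonoidHom).comap_subtype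
    (K := stabilizer G b)).exists_le_sylow
  obtain ⟨k, hk⟩ := exists_smul_eq (stabilizer G b) R PB
  have hmap : ∀ x ∈ P, ((k : G) * g₀) * x * ((k : G) * g₀)⁻¹ ∈ P := by
    intro x hx
    have hxb : g₀ * x * g₀⁻¹ ∈ stabilizer G b := hPg ⟨x, hx, rfl⟩
    have h1 : (⟨_, hxb⟩ : stabilizer G b) ∈ (R : Subgroup (stabilizer G b)) := hR ⟨x, hx, rfl⟩
    have h2 : k * ⟨_, hxb⟩ * k⁻¹ ∈ (PB : Subgroup (stabilizer G b)) := by
      rw [← hk, Sylow.coe_subgroup_smul]
      exact ⟨_, h1, rfl⟩
    rw [hPB, Subgroup.mem_subgroupOf] at h2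
    simpa [mul_assoc] using h2
  have heq : P.map (MulAut.conj ((k : G) * g₀)).toMonoidHom = P := by
    refine Subgroup.eq_of_le_of_card_ge ?_ (le_of_eq
      (Nat.card_congr (P.equivMapOfInjective _ (MulAut.conj _).injective).toEquiv))
    rintro _ ⟨x, hx, rfl⟩
    exact hmap x hx
  refine ⟨A, P, (k : G) * g₀, ⟨hco, hcore, hsol, hsolA⟩, htypes, inf_le_left, h31, hPp, fun hga => hne ?_,
    fun x => ⟨fun h => ?_, hmap x⟩⟩
  · have hkb : (k : G) • b = b := k.2
    rw [← mem_stabilizer_iff.1 hga, mul_smul, hg₀, hkb]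
  · rw [← heq] at h
    obtain ⟨y, hy, hyx⟩ := h
    rwa [show x = y from ((MulAut.conj _).injective hyx).symm]

namespace Prim

variable {A : Subgroup G} (h : Prim A)
include h

/-- A normal solvable subgroup is trivial. -/
theorem eq_bot_of_solvable (N : Subgroup G) [N.Normal] (hN : Group.IsSolvable N) : N = ⊥ := by
  by_cases hNA : N ≤ A
  · exact h.core N hNA inferInstance
  exfalso
  have htop : A ⊔ N = ⊤ := h.coatom.2 _ (lt_of_le_of_ne le_sup_left fun e => hNA (e ▸ le_sup_right))
  apply h.insol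
  haveI := h.sol
  haveI := hN
  haveI : Group.IsSolvable (G ⧸ N) := by
    refine Group.isSolvable_of_surjective (f := (QuotientGroup.mk' N).comp A.subtype) fun q => ?_
    obtain ⟨x, rfl⟩ := QuotientGroup.mk'_surjective N q
    have hx : x ∈ A ⊔ N := htop ▸ mem_top x
    rw [Subgroup.mem_sup_of_normal_right] at hx
    obtain ⟨y, hy, n, hn, rfl⟩ := hx
    exact ⟨⟨y, hy⟩, by simp [QuotientGroup.eq, hn]⟩
  exact Group.isSolvable_of_ker_le_range N.subtype (QuotientGroup.mk' N) (by simp)

theorem eq_bot_of_odd (N : Subgroup G) [N.Normal] (hN : Odd (Nat.card N)) : N = ⊥ :=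
  h.eq_bot_of_solvable N (Cfsg.Agent.PF.isSolvable_of_odd N hN)

/-- The normaliser of a non-trivial subgroup of the stabiliser that it normalises. -/
theorem normalizer_eq {R : Subgroup G} (hR : R ≠ ⊥) (hRA : R ≤ A) (hn : A ≤ normalizer (R : Set G)) :
    normalizer (R : Set G) = A := by
  by_contra hne
  have htop := h.coatom.2 _ (lt_of_le_of_ne hn (Ne.symm hne))
  exact hR (h.core R hRA (Subgroup.normalizer_eq_top_iff.1 htop))

/-- The centraliser of a non-trivial central element of the stabiliser. -/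
theorem centralizer_eq {x : G} (hx : x ∈ A) (hx1 : x ≠ 1) (hc : ∀ y ∈ A, y * x = x * y) :
    centralizer ({x} : Set G) = A := by
  have hn : A ≤ centralizer ({x} : Set G) := fun y hy => mem_centralizer_singleton_iff.2 (hc y hy)
  by_contra hne
  have htop := h.coatom.2 _ (lt_of_le_of_ne hn (Ne.symm hne))
  have hz : zpowers x ≤ A := zpowers_le.2 hx
  refine hx1 (zpowers_eq_bot.1 (h.core _ hz ⟨fun n hn g => ?_⟩))
  obtain ⟨i, rfl⟩ := mem_zpowers_iff.1 hn
  have hg : g * x = x * g := mem_centralizer_singleton_iff.1 (htop ▸ mem_top g)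
  rw [(Commute.zpow_right hg i).eq, mul_inv_cancel_right]
  exact zpow_mem (mem_zpowers x) i

/-- An odd subgroup normalised by the stabiliser is trivial, if the stabiliser has no odd normal subgroup. -/
theorem eq_bot_of_odd_invariant (hA : ∀ N : Subgroup G, N ≤ A → A ≤ normalizer (N : Set G) → Odd (Nat.card N) → N = ⊥)
    {R : Subgroup G} (hR : Odd (Nat.card R)) (hn : A ≤ normalizer (R : Set G)) : R = ⊥ := by
  by_cases hN : normalizer (R : Set G) = A
  · exact hA R (hN ▸ le_normalizer) hn hR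
  · have htop := h.coatom.2 _ (lt_of_le_of_ne hn (Ne.symm hN))
    haveI := Subgroup.normalizer_eq_top_iff.1 htop
    exact h.eq_bot_of_odd R hR

/-- A non-trivial normal subgroup meets the stabiliser. -/
theorem inf_ne_bot {Q : Subgroup G} (hQA : Q ≤ A) (hQ : IsPGroup 2 Q) (hC : centralizer (Q : Set G) ≤ A)
    (N : Subgroup G) [N.Normal] (hN : N ≠ ⊥) : N ⊓ A ≠ ⊥ := by
  haveI : Fact (Nat.Prime 2) := ⟨Nat.prime_two⟩
  intro hNA
  have hev : 2 ∣ Nat.card N := by
    by_contra hodd
    exact hN (h.eq_bot_of_odd N (Nat.odd_iff.2 (Nat.two_dvd_ne_zero.1 hodd)))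
  obtain ⟨t, ht⟩ := exists_prime_orderOf_dvd_card' (G := N) 2 hev
  -- the two-group acts on the involutions and the identity of `N`
  let act : MulAction Q N :=
    MulAction.compHom N ((MulAut.conjNormal (H := N)).comp Q.subtype)
  have hfix : (MulAction.fixedPoints Q N) ⊆ {1} := by
    intro n hn
    have hc : (n : G) ∈ centralizer (Q : Set G) := mem_centralizer_iff.2 fun q hq => by
      have := congrArg Subtype.val (hn ⟨q, hq⟩)
      change q * (n : G) * q⁻¹ = n at this
      calc q * (n : G) = q * (n : G) * q⁻¹ * q := by group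
        _ = n * q := by rw [this]
    exact Subtype.ext (Subgroup.mem_bot.1 (hNA ▸ ⟨n.2, hC hc⟩ : (n : G) ∈ (⊥ : Subgroup G)))
  have h1 : (1 : N) ∈ MulAction.fixedPoints Q N := fun q => map_one (MulAut.conjNormal (H := N) (q : G))
  obtain ⟨m, hm, hm1⟩ := hQ.exists_fixed_point_of_prime_dvd_card_of_fixed_point N hev h1
  exact hm1 (hfix hm).symm

end Prim

end Cfsg.Lib.SubdegThree
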