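import Cfsg.Agent.TwoFusion.GLTwoThree.Chars

/-!
An involution whose centraliser is `GL(2,3)` extended by a core of odd order: the setup and the finite checks.
-/

set_option autoImplicit false
set_option linter.unusedSectionVars false
set_option maxRecDepth 8000

namespace Cfsg.Lib.SubdegThree

open Subgroup Cfsg.Lib.GLTwoThree Cfsg.Lib.Order9

/-- An element of order four of determinant one. -/
abbrev Ord4 (k : K48) : Prop := k * k = zk

/-- An element of order eight. -/
abbrev Ord8 (k : K48) : Prop := k * k * (k * k) = zk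

/-- An element of order six. -/
abbrev Ord6 (k : K48) : Prop := k * (k * k) = zk ∧ k ≠ zk

/-- The function used for the congruence. -/
def cfun (k : K48) : ℤ := -2 * vf 0 k + 2 * vf 1 k + 12 * vf 2 k

/-- The block of a point of the line in the fixed pairing. -/
def pairOf : P4 → Bool
  | .a => true
  | .b => true
  | .c => false
  | .d => false

/-- A Sylow two-subgroup of the model. -/
def P16 : Subgroup K48 where
  carrier := {k | pairOf (k • P4.a) = pairOf (k • P4.b)}
  one_mem' := by show pairOf ((1 : K48) • P4.a) = pairOf ((1 : K48) • P4.b); decide +kernel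
  mul_mem' := fun {a b} ha hb => (by decide +kernel : ∀ a b : K48, pairOf (a • P4.a) = pairOf (a • P4.b) →
    pairOf (b • P4.a) = pairOf (b • P4.b) → pairOf ((a * b) • P4.a) = pairOf ((a * b) • P4.b)) a b ha hb
  inv_mem' := fun {a} ha => (by decide +kernel : ∀ a : K48, pairOf (a • P4.a) = pairOf (a • P4.b) →
    pairOf (a⁻¹ • P4.a) = pairOf (a⁻¹ • P4.b)) a ha

instance : DecidablePred (· ∈ P16) := fun k => decEq (pairOf (k • P4.a)) (pairOf (k • P4.b))

theorem card_P16 : Nat.card P16 = 16 := by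
  rw [Nat.card_eq_fintype_card, Fintype.card_subtype]
  decide +kernel

/-- The weight of the conjugates of the Sylow subgroup. -/
def mcount (k : K48) : ℕ :=
  (Finset.univ.filter fun p : K48 × K48 => p.2 ∈ P16 ∧ p.1 * p.2 * p.1⁻¹ = k).card

theorem mcount_eq : ∀ k, (mcount k : ℤ) =
    cfun k + if k = 1 ∨ k = zk then 48 else if Invol k then 16 else 0 := by decide +kernel

theorem sum_refl : ∑ k, (if k = zk then (48 : ℤ) else if Invol k then 16 else 0) = 240 := by decide +kernel

theorem cfun_supp : ∀ k, cfun k ≠ 0 → Ord4 k ∨ Ord8 k := by decide +kernel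

theorem det_ord4 : ∀ k, Ord4 k → det k.m = 1 := by decide +kernel

theorem det_ord8 : ∀ k, Ord8 k → det k.m ≠ 1 := by decide +kernel

theorem det_zk : det zk.m = 1 := by decide +kernel

theorem invol_cases : ∀ k, Invol k → k = zk ∨ det k.m ≠ 1 := by decide +kernel

theorem insec_cases : ∀ k, InSec k → k = zk ∨ Ord4 k ∨ Ord6 k ∨ Ord8 k := by decide +kernel

theorem vf_ord6 : ∀ i k k', Ord6 k → Ord6 k' → vf i k = vf i k' := by decide +kernel

theorem pair_refl : ∀ c j, InSec c → Invol j → Invol (j⁻¹ * c) → j ≠ zk ∧ j⁻¹ * c ≠ zk := by decide +kernel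

theorem sum_npairs3 : ∑ k, vf 3 k * (npairs k : ℤ) = 96 := by decide +kernel

theorem pow24 : ∀ k : K48, k ^ 24 = 1 := by decide +kernel

theorem zk_pow24 : ∀ k, InSec k → ∀ n : Fin 24, k ^ (n : ℕ) ≠ 1 → k ^ (n : ℕ) * k ^ (n : ℕ) = 1 →
    k ^ (n : ℕ) = zk := by decide +kernel

theorem zk_pow_nat {k : K48} (hk : InSec k) {m : ℕ} (h1 : k ^ m ≠ 1) (h2 : k ^ m * k ^ m = 1) : k ^ m = zk := by
  rw [pow_eq_pow_mod m (pow24 k)] at h1 h2 ⊢
  exact zk_pow24 k hk ⟨m % 24, Nat.mod_lt _ (by norm_num)⟩ h1 h2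

theorem regular_iff : ∀ k : K48, k * (k * k) = 1 → k ≠ 1 → sig k = 0 ∧ Ord6 (zk * k) := by decide +kernel

theorem ord6_shift : ∀ k : K48, (k * (k * k) = 1 ∧ k ≠ 1) ↔ Ord6 (zk * k) := by decide +kernel

theorem sig_one : sig 1 = 3 := by decide +kernel

theorem sig_norm : ∑ k, sig k * sig k = 48 := by decide +kernel

universe u

/-- The centraliser as an extension of the model. -/
structure CoreSetup (G : Type u) [Group G] [Finite G] where
  z : G
  z_ne : z ≠ 1
  z_sq : z * z = 1
  π : centralizer ({z} : Set G) →* K48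
  surj : Function.Surjective π
  odd : Odd (Nat.card π.ker)
  π_z : π ⟨z, mem_centralizer_singleton_iff.2 rfl⟩ = zk
  comm : ∀ x y : centralizer ({z} : Set G), π y = 1 → det (π x).m = 1 → x * y = y * x
  inv : ∀ x y : centralizer ({z} : Set G), π y = 1 → det (π x).m ≠ 1 → x * y * x⁻¹ = y⁻¹
  one : ∀ x : centralizer ({z} : Set G), x * x = 1 → π x ≠ 1 → IsConj z (x : G)

end Cfsg.Lib.SubdegThree
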