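import Cfsg.Agent.SubdegThree.SdNormal
import Cfsg.Agent.SubdegThree.SdModel
import Cfsg.Agent.InvolCalc.QuatCore
import Cfsg.Agent.TwoFusion.GLTwoThree.Order

/-!
The centraliser of the central involution is an odd extension of `GL(2,3)`.
-/

set_option autoImplicit false
set_option linter.style.haveILetI false
set_option linter.unusedSectionVars false

namespace Cfsg.Lib.SubdegThree

open Subgroup

universe u

variable {G : Type u} [Group G] [Finite G]

theorem refl_conj : ∀ r r' : GLTwoThree.K48, GLTwoThree.Invol r ∧ r ≠ GLTwoThree.zk →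
    GLTwoThree.Invol r' ∧ r' ≠ GLTwoThree.zk → ∃ a, a * r * a⁻¹ = r' := by decide +kernel

namespace SdSit

variable (D : SdSit G)

/-- A Sylow element centralising the quaternion subgroup is central. -/
theorem S_cent_Q {y : G} (hy : y ∈ (D.S : Subgroup G)) (hQ : y ∈ centralizer (D.Q : Set G)) :
    y = 1 ∨ y = D.z := by
  haveI : Fact (Nat.Prime 2) := ⟨Nat.prime_two⟩
  have hsmall : ∀ x ∈ D.P, x ∈ centralizer (D.Q : Set G) → x = 1 ∨ x = D.z := by
    intro x hx hxQ
    obtain ⟨k, rfl⟩ := D.P_le hx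
    have h1 : k * pe = pe * k :=
      D.inj (by rw [map_mul, map_mul]; exact (mem_centralizer_iff.1 hxQ D.e D.e_mem_Q).symm)
    rcases (by decide +kernel : ∀ k : Equiv.Perm (Fin 4), k * pa = pa * k → k * pe = pe * k →
        k = 1 ∨ k = pa ∨ k = pe ∨ k = pe⁻¹) k (D.mem_P.1 hx) h1 with rfl | rfl | rfl | rfl
    · exact Or.inl (map_one _)
    · exact Or.inr rfl
    all_goals
      exfalso
      have hc := mem_centralizer_iff.1 hxQ D.w D.w_mem_Q
      have hee : D.e⁻¹ ≠ D.e := fun h => D.z_ne (D.e_sq.symm.trans (by nth_rewrite 1 [← h]; exact inv_mul_cancel _))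
      first
        | exact hee (D.hwe.symm.trans (mul_inv_eq_iff_eq_mul.2 hc))
        | (rw [map_inv] at hc
           have : D.w * D.e * D.w⁻¹ = D.e := by
             rw [← inv_inj]
             calc (D.w * D.e * D.w⁻¹)⁻¹ = D.w * D.e⁻¹ * D.w⁻¹ := by group
               _ = D.e⁻¹ := mul_inv_eq_iff_eq_mul.2 hc
           exact hee (D.hwe.symm.trans this))
  set T := (D.S : Subgroup G) ⊓ centralizer (D.Q : Set G) with hT
  set U := T ⊔ D.V with hU
  have hVS : D.V ≤ (D.S : Subgroup G) := fun v hv => by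
    obtain ⟨k, hk, rfl⟩ := hv
    exact D.hPS (D.four_mem_P hk)
  have hVT : D.V ≤ normalizer (T : Set G) := fun v hv => by
    have h1 : v ∈ normalizer ((D.S : Subgroup G) : Set G) := le_normalizer (hVS hv)
    have h2 : v ∈ normalizer (centralizer (D.Q : Set G) : Set G) :=
      normalizer_le_normalizer_centralizer' D.Q (D.Q_normal (D.S_le_X (hVS hv)))
    exact mem_normalizer_iff.2 fun a => by
      simp only [hT, SetLike.mem_coe, Subgroup.mem_inf, ← mem_normalizer_iff.1 h1 a, ← mem_normalizer_iff.1 h2 a]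
  have hUS : U ≤ (D.S : Subgroup G) := sup_le inf_le_left hVS
  have htop : D.V.subgroupOf U = ⊤ := by
    by_contra hne
    haveI := (D.S.2.to_le hUS).isNilpotent
    obtain ⟨n, hn, hnV⟩ := SetLike.exists_of_lt
      (Group.normalizerCondition_of_isNilpotent (D.V.subgroupOf U) (lt_top_iff_ne_top.2 hne))
    refine hnV (mem_subgroupOf.2 ?_)
    have htU : D.t ∈ U := mem_sup_right (D.mem_V.2 (Or.inr (Or.inr (Or.inl rfl))))
    have hnS : (n : G) ∈ (D.S : Subgroup G) := hUS n.2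
    have hnP : (n : G) ∈ D.P := by
      refine D.mem_P_of_fix (D.S_le_X hnS) ?_
      have h' := D.mem_V.1 (mem_subgroupOf.1 ((mem_normalizer_iff.1 hn ⟨D.t, htU⟩).1
        (mem_subgroupOf.2 (D.mem_V.2 (Or.inr (Or.inr (Or.inl rfl)))))))
      change (n : G) * D.t * (n : G)⁻¹ = 1 ∨ (n : G) * D.t * (n : G)⁻¹ = D.z ∨ (n : G) * D.t * (n : G)⁻¹ = D.t ∨
        (n : G) * D.t * (n : G)⁻¹ = D.z * D.t at h'
      rcases h' with h | h | h | h
      · exact absurd (conj_eq_one_iff.1 h) D.t_ne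
      · exfalso
        refine D.t_ne_z (mul_left_cancel (a := (n : G)) ?_)
        rw [mul_inv_eq_iff_eq_mul.1 h, ← D.z_central D.S.2 D.hPS hnS]
      · exact Or.inl h
      · exact Or.inr h
    obtain ⟨a, ha, v, hv, hav⟩ := (Cfsg.Lib.Coprime.mem_sup_of_le_normalizer hVT).1 n.2
    have haP : a ∈ D.P := by
      rw [eq_mul_inv_of_mul_eq hav]
      refine mul_mem hnP (inv_mem ?_)
      obtain ⟨k, hk, rfl⟩ := hv
      exact D.four_mem_P hk
    rw [← hav]
    rcases hsmall a haP ha.2 with rfl | rfl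
    · rwa [one_mul]
    · exact mul_mem (D.mem_V.2 (Or.inr (Or.inl rfl))) hv
  have hyV : y ∈ D.V := mem_subgroupOf.1 (htop ▸ mem_top (⟨y, mem_sup_left ⟨hy, hQ⟩⟩ : U))
  obtain ⟨k, hk, rfl⟩ := hyV
  exact hsmall _ (D.four_mem_P hk) hQ

set_option maxHeartbeats 1000000 in
/-- The centraliser is an extension of the model by a core inverted by its reflections. -/
theorem exists_core : ∃ C : CoreSetup G, C.z = D.z := by
  classical
  haveI : Fact (Nat.Prime 2) := ⟨Nat.prime_two⟩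
  obtain ⟨θ, hθz, hθQ, -, hθe, hθe'⟩ := D.exists_theta
  let zX : D.X := ⟨D.z, D.mem_X.2 rfl⟩
  let tX : D.X := ⟨D.t, D.P_le_X D.t_mem_P⟩
  let eX : D.X := ⟨D.e, D.P_le_X D.e_mem_P⟩
  let wX : D.X := ⟨D.w, D.S_le_X D.hwS⟩
  let θX : D.X := ⟨θ, D.mem_X.2 hθz⟩
  have hzc : ∀ a : D.X, a * zX = zX * a := fun a => Subtype.ext (D.mem_X.1 a.2)
  have hz2 : zX * zX = 1 := Subtype.ext D.z_sq
  have hz1 : zX ≠ 1 := fun h => D.z_ne (congrArg Subtype.val h)
  set QX := D.Q.subgroupOf D.X with hQX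
  haveI hQn : QX.Normal := (normal_subgroupOf_iff_le_normalizer D.Q_le_X).2 D.Q_normal
  have eQ : QX ≃* QuaternionGroup 2 :=
    (subgroupOfEquivOfLe D.Q_le_X).trans (MonoidHom.ofInjective D.qh_inj).symm
  have hzQ : zX ∈ QX := mem_subgroupOf.2 D.z_mem_Q
  have hQ2 : IsPGroup 2 QX := (D.S.2.to_le D.Q_le_S).of_equiv (subgroupOfEquivOfLe D.Q_le_X).symm
  set CX := centralizer (QX : Set D.X) with hCX
  have hcQ : ∀ {c : D.X}, c ∈ CX → (c : G) ∈ centralizer (D.Q : Set G) := fun {c} hc =>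
    mem_centralizer_iff.2 fun q hq => congrArg Subtype.val (mem_centralizer_iff.1 hc ⟨q, D.Q_le_X hq⟩ hq)
  have hQc : ∀ {c : D.X}, (c : G) ∈ centralizer (D.Q : Set G) → c ∈ CX := fun {c} hc =>
    mem_centralizer_iff.2 fun q hq => Subtype.ext (mem_centralizer_iff.1 hc q hq)
  have hzCX : zX ∈ CX := mem_centralizer_iff.2 fun q _ => hzc q
  let S' : Sylow 2 D.X := D.S.subtype D.S_le_X
  have hS' : (S' : Subgroup D.X) = (D.S : Subgroup G).subgroupOf D.X := Sylow.coe_subtype _ _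
  have htwo : ∀ {c : D.X}, c ∈ CX → (∃ i, orderOf c = 2 ^ i) → c = 1 ∨ c = zX := by
    rintro c hc ⟨i, hi⟩
    obtain ⟨T, hT⟩ := (IsPGroup.of_card (n := i) (G := zpowers c) (by rw [Nat.card_zpowers, hi])).exists_le_sylow
    obtain ⟨g, hg⟩ := MulAction.exists_smul_eq D.X T S'
    have hgS : g * c * g⁻¹ ∈ (S' : Subgroup D.X) := by
      rw [← hg, Sylow.coe_subgroup_smul]; exact ⟨c, hT (mem_zpowers c), rfl⟩
    rw [hS', mem_subgroupOf] at hgS
    have hgC : g * c * g⁻¹ ∈ CX := (inferInstance : CX.Normal).conj_mem c hc g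
    rcases D.S_cent_Q hgS (hcQ hgC) with e | e
    · exact Or.inl (conj_eq_one_iff.1 (Subtype.ext e : g * c * g⁻¹ = 1))
    · right
      have e' : g * c * g⁻¹ = zX := Subtype.ext e
      rw [mul_inv_eq_iff_eq_mul, ← hzc g] at e'
      exact mul_left_cancel e'
  -- the odd core
  obtain ⟨N, hN, hNodd, k0, hk0⟩ : ∃ N : Subgroup CX, N.Normal ∧ Odd (Nat.card N) ∧ ∃ k, N.index = 2 ^ k := by
    obtain ⟨T⟩ : Nonempty (Sylow 2 CX) := inferInstance
    have hT : IsCyclic T := by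
      have hle : ((T : Subgroup CX).map CX.subtype) ≤ zpowers zX := by
        rintro _ ⟨c, hc, rfl⟩
        obtain ⟨i, hi⟩ := IsPGroup.iff_orderOf.1 T.2 ⟨c, hc⟩
        rw [Subgroup.orderOf_mk] at hi
        rcases htwo c.2 ⟨i, (Subgroup.orderOf_coe c).trans hi⟩ with e | e
        · rw [CX.coe_subtype, e]; exact one_mem _
        · rw [CX.coe_subtype, e]; exact mem_zpowers _
      haveI : IsCyclic ((T : Subgroup CX).map CX.subtype) :=
        isCyclic_of_injective (Subgroup.inclusion hle) (Subgroup.inclusion_injective hle)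
      exact isCyclic_of_injective ((T : Subgroup CX).equivMapOfInjective _ CX.subtype_injective).toMonoidHom
        ((T : Subgroup CX).equivMapOfInjective _ CX.subtype_injective).injective
    haveI := hT
    have he : 2 ∣ Nat.card CX := by
      have h : orderOf (⟨zX, hzCX⟩ : CX) = 2 := orderOf_eq_prime (Subtype.ext (by rw [Subgroup.coe_pow, pow_two]; exact hz2))
        fun h => hz1 (congrArg Subtype.val h)
      rw [← h]; exact orderOf_dvd_natCard _
    have hmin := (Nat.minFac_eq_two_iff _).2 he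
    have hle := IsCyclic.normalizer_le_centralizer hmin hT
    refine ⟨_, MonoidHom.normal_ker (MonoidHom.transferSylow T hle), Nat.not_even_iff_odd.1 fun hev =>
      MonoidHom.not_dvd_card_ker_transferSylow T hle hev.two_dvd, ?_⟩
    obtain ⟨k, hk⟩ := T.2.exists_card_eq
    exact ⟨k, ((MonoidHom.ker_transferSylow_isComplement' T hle).symm.index_eq_card).trans hk⟩
  haveI := hN
  have hNmem : ∀ x : CX, Odd (orderOf x) → x ∈ N := by
    intro x hx
    have h1 : orderOf (x : CX ⧸ N) ∣ 2 ^ k0 := by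
      rw [← hk0, Subgroup.index_eq_card]; exact orderOf_dvd_natCard _
    exact (QuotientGroup.eq_one_iff x).1 (orderOf_eq_one_iff.1 (Nat.eq_one_of_dvd_coprimes
      ((Nat.coprime_two_right.2 hx).pow_right k0) (orderOf_map_dvd (QuotientGroup.mk' N) x) h1))
  set O := N.map CX.subtype with hO
  have hOodd : Odd (Nat.card O) := by rwa [hO, card_map_of_injective CX.subtype_injective]
  have hOC : O ≤ CX := map_subtype_le _
  have hOord : ∀ {x : D.X}, x ∈ O → Odd (orderOf x) := fun {x} hx => odd_orderOf_of_mem hOodd hx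
  have hOmem : ∀ {x : D.X}, x ∈ CX → Odd (orderOf x) → x ∈ O := fun {x} hx ho =>
    ⟨⟨x, hx⟩, hNmem _ (by rwa [Subgroup.orderOf_mk]), rfl⟩
  haveI hOn : O.Normal := ⟨fun a ha g => hOmem ((inferInstance : CX.Normal).conj_mem a (hOC ha) g)
    (by rw [orderOf_conj']; exact hOord ha)⟩
  have hCdec : ∀ c ∈ CX, c ∈ O ∨ c * zX ∈ O := by
    intro c hc
    obtain ⟨a, m, hm, hom⟩ := Nat.exists_eq_pow_mul_and_not_dvd (orderOf_pos c).ne' 2 (by norm_num)
    have hm' : Odd m := Nat.odd_iff.2 (by omega)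
    have hd : orderOf (c ^ m) ∣ 2 ^ a := orderOf_dvd_of_pow_eq_one (by
      rw [← pow_mul, mul_comm, ← hom]; exact pow_orderOf_eq_one c)
    obtain ⟨i, -, hi⟩ := (Nat.dvd_prime_pow Nat.prime_two).1 hd
    rcases htwo (pow_mem hc m) ⟨i, hi⟩ with e | e
    · exact Or.inl (hOmem hc (hm'.of_dvd_nat (orderOf_dvd_of_pow_eq_one e)))
    · refine Or.inr (hOmem (mul_mem hc hzCX) (hm'.of_dvd_nat (orderOf_dvd_of_pow_eq_one ?_)))
      rw [(Commute.mul_pow (hzc c) m), e]
      obtain ⟨r, rfl⟩ := hm'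
      rw [pow_succ, pow_mul, pow_two, hz2, one_pow, one_mul, hz2]
  have hQO : ∀ {x : D.X}, x ∈ QX → x ∈ O → x = 1 := by
    intro x hx hxO
    obtain ⟨i, hi⟩ := IsPGroup.iff_orderOf.1 hQ2 ⟨x, hx⟩
    rw [Subgroup.orderOf_mk] at hi
    exact orderOf_eq_one_iff.1 (Nat.eq_one_of_dvd_coprimes ((Nat.coprime_two_right.2 (hOord hxO)).pow_right i) dvd_rfl
      hi.dvd)
  have hzO : zX ∉ O := fun h => hz1 (hQO hzQ h)
  -- the quotient
  set mk := QuotientGroup.mk' O with hmk
  have hmks : Function.Surjective mk := QuotientGroup.mk'_surjective O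
  have hmk1 : ∀ {x : D.X}, mk x = 1 ↔ x ∈ O := fun {x} => QuotientGroup.eq_one_iff x
  set R := QX.map mk with hR
  haveI : R.Normal := hQn.map mk hmks
  have hinjQ : Function.Injective (mk.comp QX.subtype) := by
    rw [injective_iff_map_eq_one]
    exact fun a ha => Subtype.ext (hQO a.2 (hmk1.1 ha))
  have eR : R ≃* QuaternionGroup 2 := by
    refine MulEquiv.trans ?_ eQ
    have e1 : (mk.comp QX.subtype).range = R := by rw [MonoidHom.range_comp, range_subtype]
    exact ((MulEquiv.subgroupCongr e1).symm.trans (MonoidHom.ofInjective hinjQ).symm)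
  have hzR : mk zX ∈ R := ⟨zX, hzQ, rfl⟩
  have hcR : centralizer (R : Set (D.X ⧸ O)) ≤ R := by
    intro q hq
    obtain ⟨x, rfl⟩ := hmks q
    have hxC : x ∈ CX := by
      refine mem_centralizer_iff.2 fun r hr => ?_
      have h := mem_centralizer_iff.1 hq (mk r) ⟨r, hr, rfl⟩
      have hcm : x * r * x⁻¹ * r⁻¹ ∈ O := hmk1.1 (by
        rw [map_mul, map_mul, map_mul, map_inv, map_inv, ← h]; group)
      exact (mul_inv_eq_iff_eq_mul.1 (mul_inv_eq_one.1
        (hQO (mul_mem (hQn.conj_mem r hr x) (inv_mem hr)) hcm))).symm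
    rcases hCdec x hxC with h | h
    · rw [hmk1.2 h]; exact one_mem _
    · have e : mk x = mk zX := by
        rw [← mul_right_cancel_iff (a := mk zX), ← map_mul, ← map_mul, hz2, map_one, hmk1.2 h]
      rw [e]; exact hzR
  -- the involution `t` is outside
  have ht2 : tX * tX = 1 := Subtype.ext D.t_sq
  have htR : mk tX ∉ R := by
    rintro ⟨q, hq, hqt⟩
    have ho : q⁻¹ * tX ∈ O := hmk1.1 (by rw [map_mul, map_inv, hqt, inv_mul_cancel])
    have hc : q * (q⁻¹ * tX) = q⁻¹ * tX * q := mem_centralizer_iff.1 (hOC ho) q hq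
    have h1 : q * q * ((q⁻¹ * tX) * (q⁻¹ * tX)) = 1 := by
      calc q * q * ((q⁻¹ * tX) * (q⁻¹ * tX)) = q * (q * (q⁻¹ * tX)) * (q⁻¹ * tX) := by group
        _ = tX * tX := by rw [hc]; group
        _ = 1 := ht2
    have hqq : q * q = 1 := by
      refine hQO (mul_mem hq hq) ?_
      rw [eq_inv_of_mul_eq_one_left h1]
      exact inv_mem (mul_mem ho ho)
    rw [hqq, one_mul] at h1
    have hqt' : q⁻¹ * tX = 1 :=
      eq_one_of_odd_of_two (hOord ho) h1
    have htQ : tX ∈ QX := by rw [← inv_mul_eq_one.1 hqt']; exact hq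
    rcases D.S_le_X (D.hPS D.t_mem_P) with -
    obtain ⟨v, hv⟩ := mem_subgroupOf.1 htQ
    have hvv : v * v = 1 := D.qh_inj (by rw [map_mul, map_one, hv]; exact D.t_sq)
    rcases (by decide : ∀ v : QuaternionGroup 2, v * v = 1 → v = 1 ∨ v = QuaternionGroup.a 2) v hvv with rfl | rfl
    · exact D.t_ne (hv.symm.trans (map_one _))
    · exact D.t_ne_z (hv.symm.trans D.qh_z)
  -- `t` moves the class of `w`
  have htw : ¬ (D.t * D.w * D.t⁻¹ = D.w ∨ D.t * D.w * D.t⁻¹ = D.w⁻¹) := by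
    intro h
    have hm := D.inner_of_fix (g := D.t) (Or.inr D.toSym4.e_inv) h
    obtain ⟨q, hq, c, hc, hqc⟩ := (Cfsg.Lib.Coprime.mem_sup_of_le_normalizer
      (centralizer_le_normalizer _)).1 hm
    have hqX : q ∈ D.X := D.Q_le_X hq
    have hcX : c ∈ D.X := by
      rw [eq_inv_mul_of_mul_eq hqc]; exact mul_mem (inv_mem hqX) tX.2
    refine htR ?_
    rw [show tX = (⟨q, hqX⟩ : D.X) * ⟨c, hcX⟩ from Subtype.ext hqc.symm, map_mul]
    refine mul_mem ⟨_, hq, rfl⟩ ?_
    rcases hCdec (⟨c, hcX⟩ : D.X) (hQc hc) with e | e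
    · rw [hmk1.2 e]; exact one_mem _
    · have e' : mk (⟨c, hcX⟩ : D.X) = mk zX := by
        rw [← mul_right_cancel_iff (a := mk zX), ← map_mul, ← map_mul, hz2, map_one, hmk1.2 e]
      rw [e']; exact hzR
  -- the model
  obtain ⟨iso⟩ : Nonempty ((D.X ⧸ O) ≃* GLTwoThree.K48) := by
    obtain ⟨e48⟩ := GLTwoThree.exists_iso
    obtain ⟨hk2, hcr⟩ := Cfsg.Lib.QuatCore.card_range eR hcR
    have hd48 : Nat.card (D.X ⧸ O) ∣ 48 := by
      obtain ⟨S34⟩ := Cfsg.Agent.S3742.result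
      rw [hcr, show (48 : ℕ) = 2 * Nat.card (MulAut (QuaternionGroup 2)) by
        rw [Nat.card_congr S34.toEquiv, Nat.card_perm, Nat.card_fin]; rfl]
      exact mul_dvd_mul_left _ (card_subgroup_dvd_card _)
    rcases Cfsg.Lib.QuatCore.structure_of_quaternion_core R hcR eR with ⟨T, hT⟩ | ⟨⟨f⟩⟩ | ⟨-, -, -, hQ16⟩
    · exfalso
      haveI := hT
      have hTmem : ∀ H : Subgroup (D.X ⧸ O), IsPGroup 2 H → H ≤ (T : Subgroup (D.X ⧸ O)) := by
        intro H hH
        obtain ⟨T', hT'⟩ := hH.exists_le_sylow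
        haveI := Sylow.unique_of_normal T hT
        rwa [Subsingleton.elim T' T] at hT'
      have hRT : R ≤ (T : Subgroup (D.X ⧸ O)) := hTmem R (hQ2.map mk)
      have htT : mk tX ∈ (T : Subgroup (D.X ⧸ O)) := hTmem (zpowers (mk tX)) (IsPGroup.of_card (n := 1) (by
        rw [Nat.card_zpowers, pow_one]
        exact orderOf_eq_prime (by rw [← map_pow, pow_two, ht2, map_one]) fun e => htR (e ▸ one_mem R)))
        (mem_zpowers _)
      obtain ⟨i, hi⟩ := T.2.exists_card_eq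
      have hR8 : Nat.card R = 8 := by
        rw [Nat.card_congr eR.toEquiv, Nat.card_eq_fintype_card, QuaternionGroup.card]
      have hidx : (R.subgroupOf (T : Subgroup (D.X ⧸ O))).index = 2 := by
        have h1 := (R.subgroupOf (T : Subgroup (D.X ⧸ O))).card_mul_index
        rw [Nat.card_congr (subgroupOfEquivOfLe hRT).toEquiv, hR8, hi] at h1
        have hi4 : i ≤ 4 := by
          by_contra hlt
          have : 2 ^ 5 ∣ 48 := ((pow_dvd_pow 2 (show 5 ≤ i by omega)).trans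
            (hi ▸ card_subgroup_dvd_card (T : Subgroup (D.X ⧸ O)))).trans hd48
          norm_num at this
        have hne : (R.subgroupOf (T : Subgroup (D.X ⧸ O))).index ≠ 1 := fun h =>
          htR (mem_subgroupOf.1 ((index_eq_one.1 h).symm ▸ mem_top (⟨mk tX, htT⟩ : (T : Subgroup (D.X ⧸ O)))))
        interval_cases i <;> omega
      have hut : mk (θX * tX * θX⁻¹) ∈ (T : Subgroup (D.X ⧸ O)) := by
        rw [map_mul, map_mul, map_inv]; exact hT.conj_mem _ htT _
      have hutR : mk (θX * tX * θX⁻¹) ∉ R := by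
        intro h
        refine htR ?_
        have := (inferInstance : R.Normal).conj_mem _ h (mk θX)⁻¹
        rwa [map_mul, map_mul, map_inv, inv_inv, mul_assoc (mk θX), inv_mul_cancel_left, inv_mul_cancel_right] at this
      have hprod : mk tX * mk (θX * tX * θX⁻¹) ∈ R := by
        have := (mul_mem_iff_of_index_two hidx (a := ⟨mk tX, htT⟩) (b := ⟨_, hut⟩)).2
          (iff_of_false (fun h => htR (mem_subgroupOf.1 h)) (fun h => hutR (mem_subgroupOf.1 h)))
        exact mem_subgroupOf.1 this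
      obtain ⟨q, hq, hqe⟩ := hprod
      have ho : q⁻¹ * (tX * (θX * tX * θX⁻¹)) ∈ O := hmk1.1 (by
        rw [map_mul, map_inv, hqe, ← map_mul, inv_mul_cancel])
      obtain ⟨o, hoO, hoe⟩ : ∃ o ∈ O, θX * tX * θX⁻¹ = tX * q * o := by
        refine ⟨_, ho, ?_⟩
        rw [show tX * q * (q⁻¹ * (tX * (θX * tX * θX⁻¹))) = tX * tX * (θX * tX * θX⁻¹) by group, ht2, one_mul]
      have hueq : θ * D.t * θ⁻¹ = D.t * (q : G) * (o : G) := congrArg Subtype.val hoe
      have hoQ : (o : G) * D.e * (o : G)⁻¹ = D.e :=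
        mul_inv_eq_iff_eq_mul.2 (mem_centralizer_iff.1 (hcQ (hOC hoO)) D.e D.e_mem_Q).symm
      obtain ⟨v, hv⟩ := mem_subgroupOf.1 hq
      have hqe' : (q : G) * D.e * (q : G)⁻¹ = D.e ∨ (q : G) * D.e * (q : G)⁻¹ = D.e⁻¹ := by
        rw [← hv, ← D.qh_a, ← map_inv, ← map_inv, ← map_mul, ← map_mul]
        exact ((by decide : ∀ v : QuaternionGroup 2, v * .a 1 * v⁻¹ = .a 1 ∨ v * .a 1 * v⁻¹ = (.a 1)⁻¹) v).imp
          (congrArg _) (congrArg _)
      have hue : θ * D.t * θ⁻¹ * D.e * (θ * D.t * θ⁻¹)⁻¹ = D.e ∨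
          θ * D.t * θ⁻¹ * D.e * (θ * D.t * θ⁻¹)⁻¹ = D.e⁻¹ := by
        rw [hueq, show D.t * (q : G) * (o : G) * D.e * (D.t * (q : G) * (o : G))⁻¹ =
          D.t * ((q : G) * ((o : G) * D.e * (o : G)⁻¹) * (q : G)⁻¹) * D.t⁻¹ by group, hoQ]
        rcases hqe' with e | e <;> rw [e]
        · exact Or.inr D.toSym4.e_inv
        · left; rw [← conj_inv, D.toSym4.e_inv, inv_inv]
      set f := θ⁻¹ * D.e * θ with hf
      have htf : D.t * f * D.t⁻¹ = f ∨ D.t * f * D.t⁻¹ = f⁻¹ := by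
        have he : D.t * f * D.t⁻¹ = θ⁻¹ * (θ * D.t * θ⁻¹ * D.e * (θ * D.t * θ⁻¹)⁻¹) * θ := by rw [hf]; group
        rw [he]
        rcases hue with e | e <;> rw [e]
        · exact Or.inl hf.symm
        · right; rw [hf]; group
      have hfQ : f ∈ D.Q := by
        have := (mem_normalizer_iff.1 (inv_mem hθQ) D.e).1 D.e_mem_Q
        rwa [inv_inv] at this
      have hff : f * f = D.z := by
        rw [hf, show θ⁻¹ * D.e * θ * (θ⁻¹ * D.e * θ) = θ⁻¹ * (D.e * D.e) * θ by group, D.e_sq, mul_assoc, ← hθz,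
          inv_mul_cancel_left]
      obtain ⟨x, hx⟩ := hfQ
      have hx2 : x * x = QuaternionGroup.a 2 := D.qh_inj (by rw [map_mul, hx, hff, D.qh_z])
      have hfe : f ≠ D.e ∧ f ≠ D.e⁻¹ := by
        constructor
        · intro h
          refine hθe ?_
          have : θ * f * θ⁻¹ = D.e := by rw [hf]; group
          rwa [h] at this
        · intro h
          refine hθe' ?_
          have : θ * D.e⁻¹ * θ⁻¹ = D.e := by rw [← h, hf]; group
          calc θ * D.e * θ⁻¹ = (θ * D.e⁻¹ * θ⁻¹)⁻¹ := by group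
            _ = D.e⁻¹ := by rw [this]
      have hc : ∀ g v : G, g * v * g⁻¹ = v ∨ g * v * g⁻¹ = v⁻¹ → g * v⁻¹ * g⁻¹ = v⁻¹ ∨ g * v⁻¹ * g⁻¹ = v := by
        rintro g v (h | h)
        · left; rw [← conj_inv, h]
        · right; rw [← conj_inv, h, inv_inv]
      refine htw ?_
      rcases (by decide : ∀ x : QuaternionGroup 2, x * x = QuaternionGroup.a 2 → x = .a 1 ∨ x = (.a 1)⁻¹ ∨
        x = .xa 0 ∨ x = (.xa 0)⁻¹ ∨ x = .a 1 * .xa 0 ∨ x = (.a 1 * .xa 0)⁻¹) x hx2 with
        rfl | rfl | rfl | rfl | rfl | rfl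
      · exact absurd (hx.symm.trans D.qh_a) hfe.1
      · exact absurd (hx.symm.trans ((map_inv _ _).trans (by rw [D.qh_a]))) hfe.2
      · rw [← hx, D.qh_xa] at htf; exact htf
      · rw [← hx, map_inv, D.qh_xa] at htf
        have := hc _ _ htf
        rwa [inv_inv] at this
      all_goals
        have htew : D.t * (D.e * D.w) * D.t⁻¹ = D.e * D.w ∨ D.t * (D.e * D.w) * D.t⁻¹ = (D.e * D.w)⁻¹ := by
          first
            | (rw [← hx, map_mul, D.qh_a, D.qh_xa] at htf; exact htf)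
            | (rw [← hx, map_inv, map_mul, D.qh_a, D.qh_xa] at htf
               have := hc _ _ htf
               rwa [inv_inv] at this)
        have key : D.t * D.w * D.t⁻¹ = D.e * (D.t * (D.e * D.w) * D.t⁻¹) := by
          rw [show D.t * (D.e * D.w) * D.t⁻¹ = D.t * D.e * D.t⁻¹ * (D.t * D.w * D.t⁻¹) by group, D.toSym4.e_inv,
            mul_inv_cancel_left]
        rw [key]
        rcases htew with e | e <;> rw [e]
        · right
          rw [eq_inv_iff_mul_eq_one, ← mul_assoc D.e, D.e_sq, mul_assoc, D.hww, D.z_sq]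
        · left
          rw [mul_inv_rev]
          have hewe : D.e * D.w * D.e = D.w := by
            calc D.e * D.w * D.e = D.e * (D.w * D.e * D.w⁻¹) * D.w := by group
              _ = D.w := by rw [D.hwe, mul_inv_cancel, one_mul]
          calc D.e * (D.w⁻¹ * D.e⁻¹) = (D.e * D.w * D.e * (D.e * D.e)⁻¹)⁻¹ := by group
            _ = D.w := by rw [hewe, D.e_sq, mul_inv_rev, inv_inv, ← D.hww, mul_inv_cancel_right]
    · exact ⟨f.trans e48.symm⟩
    · exfalso
      obtain ⟨T, hT⟩ := ((D.P_isPGroup.to_le (H := D.V) (fun v hv => by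
        obtain ⟨k, hk, rfl⟩ := hv; exact D.four_mem_P hk)).comap_subtype (K := D.X) |>.map mk).exists_le_sylow
      obtain ⟨fQ⟩ := hQ16 T
      have hzV : mk zX ∈ (T : Subgroup (D.X ⧸ O)) := hT ⟨zX, D.mem_V.2 (Or.inr (Or.inl rfl)), rfl⟩
      have htV : mk tX ∈ (T : Subgroup (D.X ⧸ O)) := hT ⟨tX, D.mem_V.2 (Or.inr (Or.inr (Or.inl rfl))), rfl⟩
      have hk : ∀ (x : D.X) (hx : mk x ∈ (T : Subgroup (D.X ⧸ O))), x * x = 1 → mk x ≠ 1 →
          fQ ⟨mk x, hx⟩ * fQ ⟨mk x, hx⟩ = 1 ∧ fQ ⟨mk x, hx⟩ ≠ 1 := fun x hx h2 h1 =>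
        ⟨by rw [← map_mul, show (⟨mk x, hx⟩ : (T : Subgroup (D.X ⧸ O))) * ⟨mk x, hx⟩ = 1 from
            Subtype.ext (by show mk x * mk x = 1; rw [← map_mul, h2, map_one]), map_one],
          fun h => h1 (congrArg Subtype.val (fQ.injective (h.trans (map_one fQ).symm)))⟩
      have h1 := hk zX hzV hz2 (fun e => hzO (hmk1.1 e))
      have h2 := hk tX htV ht2 (fun e => htR (e ▸ one_mem R))
      have := fQ.injective ((by decide +kernel : ∀ x y : QuaternionGroup 4, x * x = 1 ∧ x ≠ 1 → y * y = 1 ∧ y ≠ 1 → x = y)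
        _ _ h2 h1)
      rw [show mk tX = mk zX from congrArg Subtype.val this] at htR
      exact htR hzR
  let π : D.X →* GLTwoThree.K48 := iso.toMonoidHom.comp mk
  have hπs : Function.Surjective π := iso.surjective.comp hmks
  have hker : π.ker = O := by
    ext x
    rw [MonoidHom.mem_ker]
    exact (iso.map_eq_one_iff).trans hmk1
  have hπ1 : ∀ {x : D.X}, π x = 1 ↔ x ∈ O := fun {x} => (iso.map_eq_one_iff).trans hmk1
  have hπz : π zX = GLTwoThree.zk := by
    refine (by decide +kernel : ∀ k : GLTwoThree.K48, k * k = 1 → k ≠ 1 → (∀ j, j * k = k * j) → k = GLTwoThree.zk)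
      _ (by rw [← map_mul, hz2, map_one]) (fun e => hzO (hπ1.1 e)) fun j => ?_
    obtain ⟨x, rfl⟩ := hπs j
    rw [← map_mul, ← map_mul, hzc]
  have hkt : GLTwoThree.Invol (π tX) ∧ π tX ≠ GLTwoThree.zk := by
    refine ⟨⟨by rw [← map_mul, ht2, map_one], fun e => ?_⟩, fun e => ?_⟩
    · exact htR (hmk1.2 (hπ1.1 e) ▸ one_mem R)
    · refine htR ?_
      have : mk tX = mk zX := iso.injective (e.trans hπz.symm)
      rw [this]; exact hzR
  -- `t` inverts the core
  have hfix : ∀ y ∈ O, tX * y = y * tX → y = 1 := by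
    intro y hy hc
    rcases D.cent_four (D.mem_X.1 y.2) (congrArg Subtype.val hc).symm with e | e | e | e
    · exact Subtype.ext e
    all_goals
      refine eq_one_of_odd_of_two (hOord hy) (Subtype.ext ?_)
      rw [Subgroup.coe_mul, e]
      first
        | exact D.z_sq
        | exact D.t_sq
        | (rw [mul_assoc, ← mul_assoc D.t, D.t_z, mul_assoc D.z D.t, D.t_sq, mul_one, D.z_sq]; rfl)
  have htinv : ∀ y ∈ O, tX * y * tX⁻¹ = y⁻¹ := by
    intro y hy
    let f : O → O := fun a => ⟨(a : D.X)⁻¹ * (tX * a * tX⁻¹), mul_mem (inv_mem a.2) (hOn.conj_mem _ a.2 _)⟩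
    have hinj : Function.Injective f := by
      intro a b h
      have h' : (a : D.X)⁻¹ * (tX * a * tX⁻¹) = (b : D.X)⁻¹ * (tX * b * tX⁻¹) := congrArg Subtype.val h
      have hf : tX * ((b : D.X) * (a : D.X)⁻¹) * tX⁻¹ = (b : D.X) * (a : D.X)⁻¹ := by
        calc tX * ((b : D.X) * (a : D.X)⁻¹) * tX⁻¹
            = (b : D.X) * ((b : D.X)⁻¹ * (tX * b * tX⁻¹)) * ((a : D.X)⁻¹ * (tX * a * tX⁻¹))⁻¹ * (a : D.X)⁻¹ := by group
          _ = _ := by rw [h']; group
      exact Subtype.ext (mul_inv_eq_one.1 (hfix _ (mul_mem b.2 (inv_mem a.2)) (mul_inv_eq_iff_eq_mul.1 hf))).symm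
    obtain ⟨a, ha⟩ := (Finite.injective_iff_surjective.1 hinj) ⟨y, hy⟩
    have ha' : (a : D.X)⁻¹ * (tX * a * tX⁻¹) = y := congrArg Subtype.val ha
    rw [← ha', show tX⁻¹ = tX from inv_eq_of_mul_eq_one_right ht2]
    calc tX * ((a : D.X)⁻¹ * (tX * a * tX)) * tX = tX * (a : D.X)⁻¹ * tX * a * (tX * tX) := by group
      _ = tX⁻¹ * (a : D.X)⁻¹ * tX⁻¹ * a := by rw [ht2, mul_one, inv_eq_of_mul_eq_one_right ht2]
      _ = ((a : D.X)⁻¹ * (tX * a * tX))⁻¹ := by group
  have hcomm : ∀ a ∈ O, ∀ b ∈ O, a * b = b * a := by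
    intro x hx y hy
    have h := htinv _ (mul_mem hx hy)
    rw [show tX * (x * y) * tX⁻¹ = tX * x * tX⁻¹ * (tX * y * tX⁻¹) by group, htinv _ hx, htinv _ hy] at h
    have := congrArg (·⁻¹) h
    simpa using this.symm
  have hrefl : ∀ x : D.X, GLTwoThree.Invol (π x) → π x ≠ GLTwoThree.zk →
      ∃ A : D.X, ∃ o ∈ O, x = A * (tX * o) * A⁻¹ := by
    intro x h1 h2
    obtain ⟨a, ha⟩ := refl_conj _ _ ⟨hkt.1, hkt.2⟩ ⟨h1, h2⟩
    obtain ⟨A, rfl⟩ := hπs a
    refine ⟨A, tX⁻¹ * (A⁻¹ * x * A), hπ1.1 ?_, by group⟩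
    simp only [map_mul, map_inv]
    rw [← ha]; group
  have hinvr : ∀ x : D.X, GLTwoThree.Invol (π x) → π x ≠ GLTwoThree.zk → ∀ y ∈ O, x * y * x⁻¹ = y⁻¹ := by
    intro x h1 h2 y hy
    obtain ⟨A, o, ho, rfl⟩ := hrefl x h1 h2
    have hy' : A⁻¹ * y * A ∈ O := by have := hOn.conj_mem y hy A⁻¹; rwa [inv_inv] at this
    calc A * (tX * o) * A⁻¹ * y * (A * (tX * o) * A⁻¹)⁻¹
        = A * (tX * (o * (A⁻¹ * y * A) * o⁻¹) * tX⁻¹) * A⁻¹ := by group
      _ = y⁻¹ := by
        rw [hcomm o ho _ hy', mul_inv_cancel_right, htinv _ hy']; group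
  have hcommX : ∀ x y : D.X, π y = 1 → GLTwoThree.det (π x).m = 1 → x * y = y * x := by
    intro x y hy hd
    obtain ⟨r, ⟨hr1, hr2⟩, hr3, hr4⟩ := (by decide +kernel : ∀ g : GLTwoThree.K48, GLTwoThree.det g.m = 1 →
      ∃ r, (GLTwoThree.Invol r ∧ r ≠ GLTwoThree.zk) ∧ GLTwoThree.Invol (r * g) ∧ r * g ≠ GLTwoThree.zk) _ hd
    obtain ⟨R', rfl⟩ := hπs r
    have hy' := hπ1.1 hy
    have e1 := hinvr (R' * x) (by rwa [map_mul]) (by rwa [map_mul]) y hy'
    have e2 := hinvr R' hr1 hr2 (x * y * x⁻¹) (hOn.conj_mem _ hy' _)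
    have e3 : (x * y * x⁻¹)⁻¹ = y⁻¹ := by rw [← e2, ← e1]; group
    exact mul_inv_eq_iff_eq_mul.1 (inv_injective e3)
  have hinvX : ∀ x y : D.X, π y = 1 → GLTwoThree.det (π x).m ≠ 1 → x * y * x⁻¹ = y⁻¹ := by
    intro x y hy hd
    have hd' : GLTwoThree.det (π (x * tX)).m = 1 := by
      rw [map_mul]
      exact (by decide +kernel : ∀ g r : GLTwoThree.K48, GLTwoThree.det g.m ≠ 1 → GLTwoThree.Invol r →
        r ≠ GLTwoThree.zk → GLTwoThree.det (g * r).m = 1) _ _ hd hkt.1 hkt.2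
    have e := hcommX (x * tX) y⁻¹ (by rw [map_inv, hy, inv_one]) hd'
    have htiv := htinv _ (hπ1.1 hy)
    calc x * y * x⁻¹ = x * tX * (tX⁻¹ * y * tX) * (x * tX)⁻¹ := by group
      _ = x * tX * y⁻¹ * (x * tX)⁻¹ := by
        rw [show tX⁻¹ * y * tX = tX * y * tX⁻¹ by rw [inv_eq_of_mul_eq_one_right ht2], htiv]
      _ = y⁻¹ := by rw [e, mul_inv_cancel_right]
  refine ⟨{ z := D.z
            z_ne := D.z_ne
            z_sq := D.z_sq
            π := π
            surj := hπs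
            odd := by rw [hker]; exact hOodd
            π_z := hπz
            comm := hcommX
            inv := hinvX
            one := ?_ }, rfl⟩
  intro x hx2 hx1
  have hI : GLTwoThree.Invol (π x) := ⟨by rw [← map_mul, hx2, map_one], hx1⟩
  by_cases hxz : π x = GLTwoThree.zk
  · have ho : x * zX ∈ O := hπ1.1 (by rw [map_mul, hxz, hπz]; decide +kernel)
    have h1 := eq_one_of_odd_of_two (hOord ho) (by
      rw [show x * zX * (x * zX) = x * (zX * x) * zX by group, ← hzc x, ← mul_assoc, hx2, one_mul, hz2])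
    rw [mul_eq_one_iff_eq_inv, inv_eq_of_mul_eq_one_right hz2] at h1
    rw [h1]
  · obtain ⟨A, o, ho, rfl⟩ := hrefl x hI hxz
    obtain ⟨m, hm⟩ := hOord ho
    set v := o ^ (m + 1) with hv
    have hvO : v ∈ O := pow_mem ho _
    have hvv : v * v = o := by
      rw [hv, ← pow_add, show m + 1 + (m + 1) = orderOf o + 1 by omega, pow_succ, pow_orderOf_eq_one, one_mul]
    have he : tX * o = v⁻¹ * tX * v := by rw [← htinv v hvO, ← hvv]; group
    refine isConj_iff.2 ⟨((A * v⁻¹ : D.X) : G) * D.d, ?_⟩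
    rw [show ((A * v⁻¹ : D.X) : G) * D.d * D.z * (((A * v⁻¹ : D.X) : G) * D.d)⁻¹ =
      ((A * v⁻¹ : D.X) : G) * (D.d * D.z * D.d⁻¹) * ((A * v⁻¹ : D.X) : G)⁻¹ by group, D.d_z, he]
    show ((A * v⁻¹ * tX * (A * v⁻¹)⁻¹ : D.X) : G) = _
    congr 1
    group

end SdSit

end Cfsg.Lib.SubdegThree
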