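import Cfsg.Agent.SubdegThree.SdKill
import Cfsg.Agent.SubdegThree.SdStructure
import Cfsg.Agent.SubdegThree.Basic
import Cfsg.Agent.S2916

/-!
The quasi-dihedral case of the stabiliser `S₄`: the group is `PSL(3,3)`.
-/

set_option autoImplicit false
set_option linter.style.haveILetI false
set_option linter.unusedSectionVars false

namespace Cfsg.Lib.SubdegThree

open Subgroup

universe u

variable {G : Type u} [Group G] [Finite G]

/-- The centraliser is `GL(2,3)`. -/
theorem SdSit.cent_gl (D : SdSit G) :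
    Nonempty (D.X ≃* Matrix.GeneralLinearGroup (Fin 2) (ZMod 3)) := by
  classical
  letI := Fintype.ofFinite G
  obtain ⟨C, hC⟩ := D.exists_core
  have hb := C.ker_bot D.simple
  obtain ⟨e⟩ := GLTwoThree.exists_iso
  have eq : D.X = centralizer ({C.z} : Set G) := by rw [hC]
  exact ⟨(MulEquiv.subgroupCongr eq).trans
    ((MulEquiv.ofBijective C.π ⟨(MonoidHom.ker_eq_bot_iff _).1 hb, C.surj⟩).trans e)⟩

theorem SdSit.residual (D : SdSit G) : Cfsg.pResidual 2 G = ⊤ := by
  haveI := D.simple
  have hd3 : D.d ^ 3 = 1 := by rw [← map_pow, perm_facts.2.2.2.2.2.2.2.2.1, map_one]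
  have hd1 : D.d ≠ 1 := fun h => perm_facts.2.2.2.2.2.2.2.2.2 (D.inj (h.trans (map_one _).symm))
  haveI : (Cfsg.pResidual 2 G).Normal := ⟨fun n hn g => by
    have hle : (Cfsg.pResidual 2 G).map (MulAut.conj g).toMonoidHom ≤ Cfsg.pResidual 2 G := by
      rw [Cfsg.pResidual, MonoidHom.map_closure, closure_le]
      rintro _ ⟨x, hx, rfl⟩
      refine subset_closure ?_
      show Nat.Coprime (orderOf ((MulAut.conj g) x)) 2
      rw [MulEquiv.orderOf_eq]; exact hx
    exact hle ⟨n, hn, rfl⟩⟩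
  rcases D.simple.eq_bot_or_eq_top_of_normal (Cfsg.pResidual 2 G) inferInstance with h | h
  · exfalso
    have hmem : D.d ∈ Cfsg.pResidual 2 G := by
      refine subset_closure ?_
      show Nat.Coprime (orderOf D.d) 2
      haveI : Fact (Nat.Prime 3) := ⟨Nat.prime_three⟩
      rw [orderOf_eq_prime hd3 hd1]; norm_num
    rw [h, mem_bot] at hmem
    exact hd1 hmem
  · exact h

theorem SdSit.outcome (D : SdSit G) :
    Nonempty (G ≃* Matrix.ProjectiveSpecialLinearGroup (Fin 3) (ZMod 3)) ∨ Cfsg.Spor.IsoM11 G := by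
  obtain ⟨e⟩ := D.cent_gl
  have := D.simple
  obtain ⟨S, -⟩ := GLTwoThree.exists_setup (fun r h => GLTwoThree.mem_commutator_of_residual D.residual h)
    D.z D.order_z ⟨e⟩
  rcases S.order with h | h
  · haveI : Fact (Nat.Prime 3) := ⟨Nat.prime_three⟩
    exact Or.inl (Cfsg.Lib.LThreeThree.equiv_PSL ⟨S, h, S.isSimple⟩)
  · exact Or.inr (Cfsg.Lib.MathieuEleven.equiv_M11 h)

/-- A maximal `S₄` with self-centralising four-group does not occur in the Mathieu group of degree eleven. -/
theorem Sym4.not_m11 {A : Subgroup G} (h : Prim A) (D : Sym4 G) (hA : D.ι.range = A) (hs : IsSimpleGroup G)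
    (hM : Cfsg.Spor.IsoM11 G) : False := by
  classical
  haveI := hs
  haveI : Fact (Nat.Prime 2) := ⟨Nat.prime_two⟩
  obtain ⟨eM⟩ := hM
  have hG : Nat.card G = 7920 := by
    rw [Nat.card_congr eM.toEquiv]; exact Cfsg.Lib.Golay.card_M11
  have S := Cfsg.Lib.MathieuEleven.sharp_line (G := G) hG
  haveI := Fintype.ofFinite (Cfsg.Lib.MathieuEleven.Line G)
  set F := MulAction.fixedPoints D.V (Cfsg.Lib.MathieuEleven.Line G) with hF
  have hmem : ∀ {x}, x ∈ F → ∀ v ∈ D.V, v • x = x := fun {x} hx v hv => hx ⟨v, hv⟩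
  have hodd : Nat.card F % 2 = 1 := by
    have := (IsPGroup.of_card (n := 2) (G := D.V) (by rw [D.card_V]; rfl)).card_modEq_card_fixedPoints
      (Cfsg.Lib.MathieuEleven.Line G) (p := 2)
    rw [S.card] at this
    exact this.symm
  have hne : F.Nonempty := by
    by_contra hn
    rw [Set.not_nonempty_iff_eq_empty] at hn
    rw [hn, Nat.card_coe_set_eq, Set.ncard_empty] at hodd
    omega
  obtain ⟨a, ha⟩ := hne
  by_cases huniq : ∀ b ∈ F, b = a
  · -- the stabiliser of the point contains the subgroup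
    have hAstab : A ≤ MulAction.stabilizer G a := by
      rw [← hA]
      rintro _ ⟨k, rfl⟩
      refine huniq _ fun v => ?_
      obtain ⟨j, hj, hjv⟩ := v.2
      show (v : G) • (D.ι k • a) = D.ι k • a
      have h1 : (v : G) * D.ι k = D.ι k * D.ι (k⁻¹ * j * k⁻¹⁻¹) := by
        rw [← hjv, ← map_mul, ← map_mul]; congr 1; group
      rw [← mul_smul, h1, mul_smul, hmem ha _ ⟨_, (by decide +kernel :
        ∀ a j : Equiv.Perm (Fin 4), InV j → InV (a * j * a⁻¹)) k⁻¹ j hj, rfl⟩]
    haveI : MulAction.IsPretransitive G (Cfsg.Lib.MathieuEleven.Line G) := by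
      refine ⟨fun x y => ?_⟩
      haveI := S.trans
      exact (MulAction.isPretransitive_of_is_two_pretransitive (h2 :=
        MulAction.isMultiplyPretransitive_of_le (by norm_num : 2 ≤ 4) (by simp [S.card, ← Nat.card_eq_fintype_card]))).exists_smul_eq x y
    have hidx : (MulAction.stabilizer G a).index = 11 := by
      rw [MulAction.index_stabilizer_of_transitive, S.card]
    rcases eq_or_lt_of_le hAstab with e | hlt
    · have h1 := A.card_mul_index
      rw [← e] at hidx
      rw [hidx, ← hA, D.card_range, hG] at h1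
      omega
    · have := h.coatom.2 _ hlt
      rw [this, index_top] at hidx
      omega
  · push Not at huniq
    obtain ⟨b, hb, hba⟩ := huniq
    have h3 : ∃ c ∈ F, c ≠ a ∧ c ≠ b := by
      by_contra hc
      push Not at hc
      have : F = {a, b} := by
        ext x
        constructor
        · intro hx
          by_cases hxa : x = a
          · exact Or.inl hxa
          · exact Or.inr (hc x hx hxa)
        · rintro (rfl | rfl)
          exacts [ha, hb]
      rw [this, Nat.card_coe_set_eq, Set.ncard_pair (Ne.symm hba)] at hodd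
      omega
    obtain ⟨c, hc, hca, hcb⟩ := h3
    have hz : D.z ∈ D.V := D.mem_V.2 (Or.inr (Or.inl rfl))
    have ht : D.t ∈ D.V := D.mem_V.2 (Or.inr (Or.inr (Or.inl rfl)))
    obtain ⟨i, -, hi⟩ := S.triple a b c (Ne.symm hba) (Ne.symm hca) (Ne.symm hcb)
    exact D.t_ne_z ((hi D.t ⟨⟨D.t_sq, D.t_ne⟩, hmem ha _ ht, hmem hb _ ht, hmem hc _ ht⟩).trans
      (hi D.z ⟨⟨D.z_sq, D.z_ne⟩, hmem ha _ hz, hmem hb _ hz, hmem hc _ hz⟩).symm)

/-- The quasi-dihedral case of the stabiliser `S₄`. -/
theorem Sym4.psl3_of_semi {A : Subgroup G} (h : Prim A) (D : Sym4 G) (hA : D.ι.range = A) (hsimple : IsSimpleGroup G)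
    (S : Sylow 2 G) (hPS : D.P ≤ (S : Subgroup G)) (h16 : 16 ≤ Nat.card (S : Subgroup G))
    (hQD : Cfsg.IsQuasiDihedral (S : Subgroup G)) :
    Nonempty (G ≃* Matrix.ProjectiveSpecialLinearGroup (Fin 3) (ZMod 3)) := by
  obtain ⟨T, -⟩ := D.exists_sdSit hsimple S hPS h16 hQD
  exact T.outcome.resolve_right fun hM => D.not_m11 h hA hsimple hM

end Cfsg.Lib.SubdegThree
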