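import Cfsg.Agent.InvolCalc.CyclicNormalisers.Aut
import Cfsg.Agent.Known.SLTwo.ClassSizes

/-!
Facts on `PSL(2, q)`: involution centralisers, change of the prime field, automorphisms over the prime field.
-/

set_option autoImplicit false
set_option linter.style.haveILetI false

namespace Cfsg.Lib.SubdegThree

open Matrix Cfsg.Lib.GLTwo
open scoped MatrixGroups

universe u

section Field

variable {F : Type u} [Field F] [Fintype F]

/-- The centraliser of an involution has order `q - 1` or `q + 1`. -/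
theorem psl_invol_cent (hodd : Odd (Fintype.card F)) (i : Matrix.ProjectiveSpecialLinearGroup (Fin 2) F)
    (hi : orderOf i = 2) :
    Nat.card (Subgroup.centralizer ({i} : Set (Matrix.ProjectiveSpecialLinearGroup (Fin 2) F))) = Fintype.card F - 1 ∨
      Nat.card (Subgroup.centralizer ({i} : Set (Matrix.ProjectiveSpecialLinearGroup (Fin 2) F))) = Fintype.card F + 1 := by
  classical
  have h2 := two_ne_zero_of_odd hodd
  obtain ⟨s, rfl⟩ := QuotientGroup.mk'_surjective (Subgroup.center SL(2, F)) i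
  have hs : NonScalar (s : Matrix (Fin 2) (Fin 2) F) := by
    by_contra hs
    have e : prj s = 1 := (QuotientGroup.eq_one_iff s).2 ((mem_center_iff s).2 hs)
    rw [show QuotientGroup.mk' (Subgroup.center SL(2, F)) s = 1 from e, orderOf_one] at hi
    omega
  have hsq : s * s = 1 ∨ s * s = -1 := by
    have e := pow_orderOf_eq_one (prj (F := F) s)
    rw [hi, pow_two, ← map_mul] at e
    exact (prj_eq_one_iff _).1 e
  have hm1 : s * s = -1 := by
    refine hsq.resolve_left fun e => ?_
    rcases eq_pm_one_of_sq h2 e with rfl | rfl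
    · exact absurd hs ((mem_center_iff _).1 ((mem_center_iff_pm _).2 (Or.inl rfl)))
    · exact absurd hs ((mem_center_iff _).1 ((mem_center_iff_pm _).2 (Or.inr rfl)))
  have ht : (s : Matrix (Fin 2) (Fin 2) F).trace = 0 := by
    have e := congrArg (fun m : SL(2, F) => (m : Matrix (Fin 2) (Fin 2) F)) hm1
    simp only [Matrix.SpecialLinearGroup.coe_mul, Matrix.SpecialLinearGroup.coe_neg,
      Matrix.SpecialLinearGroup.coe_one] at e
    have e01 := congrFun (congrFun e 0) 1
    have e10 := congrFun (congrFun e 1) 0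
    have e00 := congrFun (congrFun e 0) 0
    have e11 := congrFun (congrFun e 1) 1
    simp [Matrix.mul_apply, Fin.sum_univ_two] at e01 e10 e00 e11
    have hd := s.2
    rw [det_fin_two] at hd
    rw [trace_fin_two]
    set A := (s : Matrix (Fin 2) (Fin 2) F)
    have h3 : (A 0 0 + A 1 1) * A 0 0 = 0 := by linear_combination e00 + hd
    have h4 : (A 0 0 + A 1 1) * A 1 1 = 0 := by linear_combination e11 + hd
    exact mul_self_eq_zero.1 (by linear_combination h3 + h4)
  have h := card_comap_cent_of_trace_eq h2 hs ht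
  set C := Subgroup.centralizer ({prj s} : Set (Matrix.ProjectiveSpecialLinearGroup (Fin 2) F))
  have h2c : Nat.card (C.comap (prj (F := F))) = 2 * Nat.card C := by
    have hker : (prj (F := F)).ker ≤ C.comap prj := fun x hx => by
      rw [Subgroup.mem_comap, MonoidHom.mem_ker.1 hx]; exact one_mem _
    have hc2 : Nat.card (prj (F := F)).ker = 2 := by
      rw [show (prj (F := F)).ker = Subgroup.center SL(2, F) from QuotientGroup.ker_mk' _]
      have hne : (1 : SL(2, F)) ≠ -1 := fun e => by
        have := congrFun (congrFun (congrArg (fun m : SL(2, F) => (m : Matrix (Fin 2) (Fin 2) F)) e) 0) 0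
        simp at this
        exact h2 (by linear_combination this)
      rw [show (Subgroup.center SL(2, F) : Subgroup _) = _ from rfl]
      refine (Nat.card_congr (Equiv.ofBijective
        (fun b : Bool => (⟨if b then -1 else 1, (mem_center_iff_pm _).2 (by cases b <;> simp)⟩ :
          Subgroup.center SL(2, F))) ⟨?_, ?_⟩)).symm.trans (by simp)
      · rintro (_ | _) (_ | _) e <;> simp_all [hne.symm]
      · rintro ⟨z, hz⟩
        rcases (mem_center_iff_pm z).1 hz with rfl | rfl
        · exact ⟨false, rfl⟩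
        · exact ⟨true, rfl⟩
    have e1 := Subgroup.relIndex_mul_relIndex ⊥ _ _ (bot_le (a := (prj (F := F)).ker)) hker
    simp only [Subgroup.relIndex_bot_left] at e1
    rw [hc2, ← MonoidHom.comap_bot, Subgroup.relIndex_comap, Subgroup.map_comap_eq_self_of_surjective
      (QuotientGroup.mk'_surjective _), Subgroup.relIndex_bot_left] at e1
    exact e1.symm
  rw [h2c] at h
  have hC : Nat.card C = Nat.card (Subgroup.centralizer ({s} : Set SL(2, F))) := by omega
  show Nat.card C = _ ∨ Nat.card C = _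
  rw [hC]
  rcases kinds hs with ⟨-, hc⟩ | ⟨-, hc⟩ | ⟨⟨r, hr, e⟩, -⟩
  · exact Or.inr hc
  · exact Or.inl hc
  · exfalso
    rw [ht] at e
    exact left_ne_zero_of_mul_eq_one hr
      ((mul_eq_zero.1 (show (2 : F) * r = 0 by linear_combination -e)).resolve_left h2)

end Field

/-- Change of field. -/
noncomputable def pslCongrField {F : Type u} [CommRing F] {K : Type} [CommRing K] (e : F ≃+* K) :
    Matrix.ProjectiveSpecialLinearGroup (Fin 2) F ≃* Matrix.ProjectiveSpecialLinearGroup (Fin 2) K := by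
  let f : SL(2, F) ≃* SL(2, K) :=
    { toFun := Matrix.SpecialLinearGroup.map e.toRingHom
      invFun := Matrix.SpecialLinearGroup.map e.symm.toRingHom
      left_inv := fun m => Subtype.ext (Matrix.ext fun i j => e.symm_apply_apply _)
      right_inv := fun m => Subtype.ext (Matrix.ext fun i j => e.apply_symm_apply _)
      map_mul' := map_mul _ }
  refine QuotientGroup.congr (Subgroup.center SL(2, F)) (Subgroup.center SL(2, K)) f ?_
  ext x
  rw [Subgroup.mem_map, Subgroup.mem_center_iff]
  refine ⟨?_, fun hx => ⟨f.symm x, Subgroup.mem_center_iff.2 fun g => f.injective ?_, f.apply_symm_apply x⟩⟩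
  · rintro ⟨y, hy, rfl⟩ g
    obtain ⟨g, rfl⟩ := f.surjective g
    show f g * f y = f y * f g
    rw [← map_mul, ← map_mul, Subgroup.mem_center_iff.1 hy g]
  · rw [map_mul, map_mul, f.apply_symm_apply]; exact hx _

/-- A group with `PSL(2, F)`, `|F| = p` prime, is `PSL(2, ZMod p)`. -/
theorem psl_zmod {G : Type*} [Group G] {F : Type u} [Field F] [Fintype F] {p : ℕ} (hp : p.Prime)
    (hF : Fintype.card F = p) (e : G ≃* Matrix.ProjectiveSpecialLinearGroup (Fin 2) F) :
    Nonempty (G ≃* Matrix.ProjectiveSpecialLinearGroup (Fin 2) (ZMod p)) :=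
  ⟨e.trans (pslCongrField (ZMod.ringEquivOfPrime F hp hF).symm)⟩

section Aut

variable {p : ℕ} [Fact p.Prime]

open Cfsg.Lib.Known.AutPSLn

theorem graph_is_conj : ∃ w : GL (Fin 2) (ZMod p),
    (graphP : MulAut (Matrix.ProjectiveSpecialLinearGroup (Fin 2) (ZMod p))) = conjP w := by
  let w : Matrix (Fin 2) (Fin 2) (ZMod p) := !![0, 1; -1, 0]
  have hw : w.det ≠ 0 := by simp [w, det_fin_two]
  refine ⟨GeneralLinearGroup.mkOfDetNeZero w hw, MulEquiv.ext fun x => QuotientGroup.induction_on x fun M => ?_⟩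
  refine congrArg π (Subtype.ext ?_)
  show ((M⁻¹ : Matrix.SpecialLinearGroup (Fin 2) (ZMod p)) : Matrix (Fin 2) (Fin 2) (ZMod p))ᵀ =
    ((GeneralLinearGroup.mkOfDetNeZero w hw : GL (Fin 2) (ZMod p)) : Matrix (Fin 2) (Fin 2) (ZMod p)) *
      (M : Matrix (Fin 2) (Fin 2) (ZMod p)) *
      (((GeneralLinearGroup.mkOfDetNeZero w hw)⁻¹ : GL (Fin 2) (ZMod p)) : Matrix (Fin 2) (Fin 2) (ZMod p))
  refine (GeneralLinearGroup.mkOfDetNeZero w hw).isUnit.mul_right_cancel ?_
  rw [mul_assoc _ _ ((GeneralLinearGroup.mkOfDetNeZero w hw : GL (Fin 2) (ZMod p)) : Matrix (Fin 2) (Fin 2) (ZMod p)),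
    Units.inv_mul, mul_one]
  show ((M⁻¹ : Matrix.SpecialLinearGroup (Fin 2) (ZMod p)) : Matrix (Fin 2) (Fin 2) (ZMod p))ᵀ * w =
    w * (M : Matrix (Fin 2) (Fin 2) (ZMod p))
  rw [Matrix.SpecialLinearGroup.coe_inv, adjugate_fin_two]
  ext i j
  fin_cases i <;> fin_cases j <;> simp [w, Matrix.mul_apply, Fin.sum_univ_two]

/-- The automorphism group of `PSL(2, p)`. -/
theorem aut_psl_prime : Nonempty (MulAut (Matrix.ProjectiveSpecialLinearGroup (Fin 2) (ZMod p)) ≃*
    GL (Fin 2) (ZMod p) ⧸ Subgroup.center (GL (Fin 2) (ZMod p))) := by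
  obtain ⟨r⟩ := Cfsg.Lib.CyclicNorm.range_conjP_equiv (F := ZMod p)
  refine ⟨(Subgroup.topEquiv.symm.trans (MulEquiv.subgroupCongr (eq_top_iff.2 fun β _ => ?_).symm)).trans r⟩
  obtain ⟨g, σ, γ, hγ, rfl⟩ := exists_decomp_all le_rfl β
  have hσ : σ = 1 := RingEquiv.toRingHom_injective (Subsingleton.elim _ _)
  subst hσ
  obtain ⟨w, hw⟩ := graph_is_conj (p := p)
  rcases hγ with rfl | rfl
  · exact ⟨g, by rw [map_one, mul_one, mul_one]⟩
  · exact ⟨g * w, by rw [map_one, mul_one, hw, map_mul]⟩

end Aut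

end Cfsg.Lib.SubdegThree
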