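import Cfsg.Agent.SubdegThree.Basic
import Cfsg.Agent.SubdegThree.Psl
import Cfsg.Agent.S3331
import Cfsg.Agent.S3224
import Cfsg.Agent.S0508
import Cfsg.Agent.S1008
import Cfsg.Agent.S0111
import Cfsg.Agent.LocalThree.AltNineLocal.Quad
import Cfsg.Agent.M12Cent.Gens
import Cfsg.Agent.Components.PComponents

/-!
The stabilisers of order at most twelve.
-/

set_option autoImplicit false
set_option linter.style.haveILetI false

namespace Cfsg.Lib.SubdegThree

open Subgroup

universe u

theorem solvable_of_card_le {H : Type*} [Group H] [Finite H] (h : Nat.card H = 3) : Group.IsSolvable H := by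
  haveI : Fact (Nat.Prime 3) := ⟨Nat.prime_three⟩
  haveI := (IsPGroup.of_card (n := 1) (by rw [h, pow_one]) : IsPGroup 3 H).isNilpotent
  infer_instance

theorem solvable_perm_three : Group.IsSolvable (Equiv.Perm (Fin 3)) := by
  haveI := Cfsg.Lib.Classical.PSLOver.solvable_sym
  exact Group.isSolvable_of_isSolvable_injective
    (f := Equiv.Perm.viaEmbeddingHom (Fin.castSuccEmb : Fin 3 ↪ Fin 4)) (Equiv.Perm.viaEmbeddingHom_injective _)

theorem psl_seven_simple : IsSimpleGroup (Matrix.ProjectiveSpecialLinearGroup (Fin 2) (ZMod 7)) := by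
  haveI : Fact (Nat.Prime 7) := ⟨by norm_num⟩
  exact Cfsg.Lib.Classical.isSimpleGroup_PSL_fin le_rfl fun _ => by rw [Nat.card_zmod]; norm_num

variable {G : Type u} [Group G] [Finite G] {A : Subgroup G}

/-- The outcomes of the self-centralising element of order three in a group without solvable normal subgroups. -/
theorem three_outcomes {H : Type*} [Group H] [Finite H] (hns : ¬ Group.IsSolvable H)
    (hss : ∀ E : Subgroup H, E.Normal → IsMulCommutative E → (∀ n ∈ E, n ^ 2 = 1) → E = ⊥)
    (X : Subgroup H) (hX : Nat.card X = 3) (hC : centralizer (X : Set H) = X) :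
    Nonempty (H ≃* alternatingGroup (Fin 5)) ∨
      Nonempty (H ≃* Matrix.ProjectiveSpecialLinearGroup (Fin 2) (ZMod 7)) := by
  rcases Cfsg.Agent.S3331.result X hX hC with ⟨N, hN, hnil, -, hq⟩ | ⟨N, hN, hc, h2, ⟨e⟩⟩ | h7
  · exfalso
    haveI := hnil
    haveI : Group.IsSolvable (H ⧸ N) := by
      rcases hq with h | ⟨⟨e⟩⟩
      · exact solvable_of_card_le h
      · haveI := solvable_perm_three
        exact Group.isSolvable_of_isSolvable_injective (f := e.toMonoidHom) e.injective
    exact hns (Group.isSolvable_of_ker_le_range N.subtype (QuotientGroup.mk' N) (by simp))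
  · left
    have hb := hss N hN hc h2
    subst hb
    exact ⟨QuotientGroup.quotientBot.symm.trans e⟩
  · exact Or.inr h7

namespace Prim

variable (h : Prim A)
include h

theorem no_abelian_normal (E : Subgroup G) (hE : E.Normal) (hc : IsMulCommutative E) : E = ⊥ := by
  haveI := hE
  haveI := hc
  exact h.eq_bot_of_solvable E (Group.isSolvable_of_comm fun a b => mul_comm' a b)

theorem normalizer_eq_self (hA : A ≠ ⊥) : normalizer (A : Set G) = A :=
  h.normalizer_eq hA le_rfl le_normalizer

/-- The stabiliser is not of order three. -/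
theorem card_ne_three : Nat.card A ≠ 3 := by
  intro hA
  haveI : Fact (Nat.Prime 3) := ⟨Nat.prime_three⟩
  haveI : IsCyclic A := isCyclic_of_prime_card hA
  haveI : IsMulCommutative A := IsCyclic.isMulCommutative
  obtain ⟨x, hx⟩ := exists_prime_orderOf_dvd_card' (G := A) 3 (by rw [hA])
  have hx1 : (x : G) ≠ 1 := fun e => by
    rw [← Subgroup.orderOf_coe, e, orderOf_one] at hx; omega
  have hcx := h.centralizer_eq x.2 hx1 fun y hy => congrArg Subtype.val (mul_comm' (⟨y, hy⟩ : A) x)
  have hC : centralizer (A : Set G) = A := by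
    refine le_antisymm ?_ (le_centralizer A)
    refine le_trans ?_ hcx.le
    exact centralizer_le (Set.singleton_subset_iff.2 x.2)
  have hA0 : A ≠ ⊥ := fun e => by rw [e, Subgroup.card_bot] at hA; omega
  have hcard : Nat.card G = 60 ∨ Nat.card G = 168 := by
    rcases three_outcomes h.insol (fun E hE hc _ => h.no_abelian_normal E hE hc) A hA hC with ⟨⟨e⟩⟩ | ⟨⟨e⟩⟩
    · left
      rw [Nat.card_congr e.toEquiv, nat_card_alternatingGroup, Nat.card_fin]; rfl
    · right
      rw [Nat.card_congr e.toEquiv]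
      exact Cfsg.Lib.AltNineLocal.card_psl_seven
  let P : Sylow 3 G := Sylow.ofCard A (by
    rw [hA]
    rcases hcard with e | e <;> rw [e]
    · rw [show (60 : ℕ) = 3 ^ 1 * 20 by norm_num, Nat.factorization_mul (by norm_num) (by norm_num),
        Finsupp.add_apply, Nat.Prime.factorization_pow Nat.prime_three,
        Nat.factorization_eq_zero_of_not_dvd (show ¬ 3 ∣ 20 by norm_num)]
      simp
    · rw [show (168 : ℕ) = 3 ^ 1 * 56 by norm_num, Nat.factorization_mul (by norm_num) (by norm_num),
        Finsupp.add_apply, Nat.Prime.factorization_pow Nat.prime_three,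
        Nat.factorization_eq_zero_of_not_dvd (show ¬ 3 ∣ 56 by norm_num)]
      simp)
  have h1 := card_sylow_modEq_one 3 G
  rw [P.card_eq_index_normalizer, show normalizer (P : Set G) = A from h.normalizer_eq_self hA0] at h1
  have h2 := A.card_mul_index
  rw [hA] at h2
  unfold Nat.ModEq at h1
  omega

/-- A stabiliser `S₃`. -/
theorem s_three (e : A ≃* Equiv.Perm (Fin 3)) : Nonempty (G ≃* alternatingGroup (Fin 5)) := by
  haveI : Fact (Nat.Prime 3) := ⟨Nat.prime_three⟩
  have h6 : Nat.card A = 6 := by rw [Nat.card_congr e.toEquiv, Nat.card_perm, Nat.card_fin]; rfl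
  let ι : Equiv.Perm (Fin 3) →* G := A.subtype.comp e.symm.toMonoidHom
  have hι : Function.Injective ι := Subtype.val_injective.comp e.symm.injective
  have hιA : ∀ p, ι p ∈ A := fun p => (e.symm p).2
  have hsur : ∀ a ∈ A, ∃ p, ι p = a := fun a ha => ⟨e ⟨a, ha⟩, by simp [ι]⟩
  let c : Equiv.Perm (Fin 3) := Equiv.swap 0 1 * Equiv.swap 1 2
  have hX : Nat.card (zpowers (ι c)) = 3 := by
    rw [Nat.card_zpowers, orderOf_injective _ hι]
    exact orderOf_eq_prime (by decide +kernel) (by decide +kernel)
  have hXA : zpowers (ι c) ≤ A := zpowers_le.2 (hιA c)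
  have hX0 : zpowers (ι c) ≠ ⊥ := fun e' => by rw [e', Subgroup.card_bot] at hX; omega
  have hAn : A ≤ normalizer (zpowers (ι c) : Set G) := by
    intro a ha
    obtain ⟨p, rfl⟩ := hsur a ha
    have hp : p * c * p⁻¹ = c ∨ p * c * p⁻¹ = c⁻¹ :=
      (by decide +kernel : ∀ p : Equiv.Perm (Fin 3), p * c * p⁻¹ = c ∨ p * c * p⁻¹ = c⁻¹) p
    rw [mem_normalizer_iff_map_conj_eq, MonoidHom.map_zpowers]
    show zpowers (ι p * ι c * (ι p)⁻¹) = _
    rw [← map_inv, ← map_mul, ← map_mul]
    rcases hp with hp | hp <;> rw [hp]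
    rw [map_inv, zpowers_inv]
  have hC : centralizer (zpowers (ι c) : Set G) = zpowers (ι c) := by
    refine le_antisymm (fun a ha => ?_) (le_centralizer _)
    have haA : a ∈ A := h.normalizer_eq hX0 hXA hAn ▸ centralizer_le_normalizer _ ha
    obtain ⟨p, rfl⟩ := hsur a haA
    have hpc : p * c = c * p := hι ((map_mul ι p c).trans
      ((mem_centralizer_iff.1 ha _ (mem_zpowers _)).symm.trans (map_mul ι c p).symm))
    rcases (by decide +kernel : ∀ p : Equiv.Perm (Fin 3), p * c = c * p → p = 1 ∨ p = c ∨ p = c * c) p hpc with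
      rfl | rfl | rfl
    · rw [map_one]; exact one_mem _
    · exact mem_zpowers _
    · rw [map_mul ι c c]; exact mul_mem (mem_zpowers _) (mem_zpowers _)
  rcases three_outcomes h.insol (fun E hE hc _ => h.no_abelian_normal E hE hc) _ hX hC with h5 | ⟨⟨e7⟩⟩
  · exact h5
  · exfalso
    haveI := psl_seven_simple
    haveI : IsSimpleGroup G := e7.isSimpleGroup_congr.2 psl_seven_simple
    have h168 : Nat.card G = 168 := by
      rw [Nat.card_congr e7.toEquiv]; exact Cfsg.Lib.AltNineLocal.card_psl_seven
    rcases (Cfsg.Agent.S1008.result h168).1 A h.coatom with ⟨⟨e4⟩⟩ | ⟨h21, -⟩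
    · rw [Nat.card_congr e4.toEquiv, Nat.card_perm, Nat.card_fin] at h6; simp [Nat.factorial] at h6
    · omega

end Prim

end Cfsg.Lib.SubdegThree
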