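import Cfsg.Agent.SubdegThree.TimesNormal
import Cfsg.Agent.SubdegThree.SdFinal
import Cfsg.Agent.S2060

/-!
The stabiliser `S₄ × C₂`: the group of index two is `PSL(3, 3)`.
-/

set_option autoImplicit false
set_option linter.style.haveILetI false
set_option linter.unusedSectionVars false
set_option synthInstance.maxSize 1024

namespace Cfsg.Lib.SubdegThree

open Subgroup Matrix
open scoped MatrixGroups

universe u

/-- A diagonal automorphism fixing elements `z`, `d` of orders two and three generating an alternating group of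
degree four is trivial. -/
theorem conjP_eq_one_of_fixed {F : Type} [Field F] (h2 : (2 : F) ≠ 0) (X : GL (Fin 2) F)
    (z d : Matrix.ProjectiveSpecialLinearGroup (Fin 2) F)
    (hz : Cfsg.Lib.Known.AutPSLn.conjP X z = z) (hd : Cfsg.Lib.Known.AutPSLn.conjP X d = d)
    (hd3 : d ^ 3 = 1) (hrel : d * (d * z * d⁻¹) * d⁻¹ = z * (d * z * d⁻¹)) (hne : z * d ≠ d * z) :
    Cfsg.Lib.Known.AutPSLn.conjP X = (1 : MulAut (Matrix.ProjectiveSpecialLinearGroup (Fin 2) F)) := by
  obtain ⟨M, rfl⟩ := QuotientGroup.mk'_surjective (Subgroup.center SL(2, F)) d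
  obtain ⟨Z, rfl⟩ := QuotientGroup.mk'_surjective (Subgroup.center SL(2, F)) z
  set f := Cfsg.Lib.Known.AutPSLn.conjSL X with hf
  have hpm : ∀ A B : SL(2, F), (QuotientGroup.mk' (Subgroup.center SL(2, F)) A) =
      QuotientGroup.mk' (Subgroup.center SL(2, F)) B → A = B ∨ A = -1 * B := by
    intro A B h
    have h1 : Cfsg.Lib.GLTwo.prj (A * B⁻¹) = 1 := by
      rw [map_mul, map_inv, Cfsg.Lib.GLTwo.prj, h, mul_inv_cancel]
    rcases (Cfsg.Lib.GLTwo.prj_eq_one_iff _).1 h1 with e | e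
    · exact Or.inl (mul_inv_eq_one.1 e)
    · exact Or.inr (mul_inv_eq_iff_eq_mul.1 e)
  have hneg : ∀ A : SL(2, F), -1 * A ≠ A := fun A h => by
    have h1 : (-1 : SL(2, F)) = 1 := mul_eq_right.1 h
    have := congrFun (congrFun (congrArg (fun m : SL(2, F) => (m : Matrix (Fin 2) (Fin 2) F)) h1) 0) 0
    simp at this
    exact h2 (by linear_combination -this)
  have hcc : ∀ A : SL(2, F), A * -1 = -1 * A := fun A => Subtype.ext (by simp)
  have hm1 : f (-1) = -1 := Subtype.ext (by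
    show (X : Matrix (Fin 2) (Fin 2) F) * ((-1 : SL(2, F)) : Matrix (Fin 2) (Fin 2) F) * _ = _
    simp)
  have hfZ : f Z = Z ∨ f Z = -1 * Z := hpm _ _ hz
  have hfM : f M = M := by
    refine (hpm (f M) M hd).resolve_right fun e => ?_
    have h1 : M * M * M = 1 ∨ M * M * M = -1 := by
      refine (Cfsg.Lib.GLTwo.prj_eq_one_iff _).1 ?_
      rw [map_mul, map_mul]
      rw [← hd3, pow_succ, pow_two]
    have h3 : f (M * M * M) = -1 * (M * M * M) := by
      rw [map_mul, map_mul, e]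
      exact Subtype.ext (by simp [mul_assoc])
    rcases h1 with e1 | e1 <;> rw [e1] at h3
    · exact hneg 1 (by rw [map_one] at h3; exact h3.symm)
    · exact hneg (-1) (by rw [hm1] at h3; exact h3.symm)
  have hfZ' : f Z = Z := by
    refine hfZ.resolve_right fun e => ?_
    set T := M * Z * M⁻¹ with hT
    have hfT : f T = -1 * T := by
      rw [hT, map_mul, map_mul, map_inv, hfM, e, ← mul_assoc M, hcc]; group
    have h1 := hpm (M * T * M⁻¹) (Z * T) (by
      simp only [hT, map_mul, map_inv]; exact hrel)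
    have h3 : f (M * T * M⁻¹) = -1 * (M * T * M⁻¹) := by
      rw [map_mul, map_mul, map_inv, hfM, hfT, ← mul_assoc M, hcc]; group
    have hZT : f (Z * T) = Z * T := by
      rw [map_mul, e, hfT]
      calc -1 * Z * (-1 * T) = -1 * (Z * -1) * T := by group
        _ = (-1 * -1) * (Z * T) := by rw [hcc]; group
        _ = _ := by rw [show (-1 : SL(2, F)) * -1 = 1 from Subtype.ext (by simp), one_mul]
    rcases h1 with e1 | e1 <;> rw [e1] at h3
    · exact hneg _ (h3.symm.trans hZT)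
    · refine hneg (-1 * (Z * T)) (h3.symm.trans ?_)
      rw [map_mul, hm1, hZT]
  have hcomm : ∀ A : SL(2, F), f A = A →
      (A : Matrix (Fin 2) (Fin 2) F) * (X : Matrix (Fin 2) (Fin 2) F) =
        (X : Matrix (Fin 2) (Fin 2) F) * (A : Matrix (Fin 2) (Fin 2) F) := by
    intro A hA
    conv_lhs => rw [← hA, hf, Cfsg.Lib.Known.AutPSLn.coe_conjSL, mul_assoc, Units.inv_mul, mul_one]
  by_cases hX : Cfsg.Lib.GLTwo.NonScalar (X : Matrix (Fin 2) (Fin 2) F)
  · exfalso
    obtain ⟨a, b, ha⟩ := Cfsg.Lib.GLTwo.exists_combo hX (hcomm M hfM)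
    obtain ⟨c, e, hc⟩ := Cfsg.Lib.GLTwo.exists_combo hX (hcomm Z hfZ')
    refine hne ?_
    rw [← map_mul, ← map_mul]
    refine congrArg _ (Subtype.ext ?_)
    show (Z : Matrix (Fin 2) (Fin 2) F) * M = (M : Matrix (Fin 2) (Fin 2) F) * Z
    rw [ha, hc, Cfsg.Lib.GLTwo.combo_comm']
  · refine MulEquiv.ext fun x => QuotientGroup.induction_on x fun A => ?_
    refine congrArg (QuotientGroup.mk' _) (Subtype.ext ?_)
    show (X : Matrix (Fin 2) (Fin 2) F) * A * _ = A
    have hs := Cfsg.Lib.GLTwo.eq_smul_one hX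
    rw [show (X : Matrix (Fin 2) (Fin 2) F) * A = (A : Matrix (Fin 2) (Fin 2) F) * X by
      rw [hs, Matrix.smul_mul, Matrix.mul_smul, one_mul, mul_one], mul_assoc, Units.mul_inv, mul_one]

variable {G : Type u} [Group G] [Finite G] {A : Subgroup G}

namespace TimesSub

variable {D : TimesSit A} (B : TimesSub D)

/-- Conjugation by the central involution of the stabiliser. -/
noncomputable def a : MulAut B.N :=
  haveI := B.normal
  MulAut.conjNormal D.w

theorem a_coe (x : B.N) : (B.a x : G) = D.w * (x : G) * D.w⁻¹ := by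
  haveI := B.normal
  exact MulAut.conjNormal_apply _ _

theorem a_a (x : B.N) : B.a (B.a x) = x := Subtype.ext (by
  rw [B.a_coe, B.a_coe, show D.w * (D.w * (x : G) * D.w⁻¹) * D.w⁻¹ = D.w * D.w * (x : G) * (D.w * D.w)⁻¹ by group,
    D.w_sq, one_mul, inv_one, mul_one])

theorem a_ι (k : Equiv.Perm (Fin 4)) : B.a (B.T.ι k) = B.T.ι k := Subtype.ext (by
  rw [B.a_coe, B.hT, ← D.w_comm, mul_inv_cancel_right])

theorem fix_iff {x : B.N} : B.a x = x ↔ (x : G) ∈ A := by
  rw [D.mem_A_iff, Subtype.ext_iff, B.a_coe, mul_inv_eq_iff_eq_mul, eq_comm]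

theorem a_ne_inner (n : B.N) : MulAut.conj n ≠ B.a := by
  intro h
  have hc : (n : G)⁻¹ * D.w ∈ centralizer (B.N : Set G) := mem_centralizer_iff.2 fun x hx => by
    have h1 : (n : G) * x * (n : G)⁻¹ = D.w * x * D.w⁻¹ := by
      have := congrArg Subtype.val (DFunLike.congr_fun h ⟨x, hx⟩)
      rw [B.a_coe] at this
      exact this
    calc x * ((n : G)⁻¹ * D.w) = (n : G)⁻¹ * ((n : G) * x * (n : G)⁻¹) * D.w := by group
      _ = (n : G)⁻¹ * D.w * x := by rw [h1]; group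
  rw [B.cent, mem_bot] at hc
  exact B.hw (inv_mul_eq_one.1 hc ▸ n.2)

theorem not_m11 (hM : Cfsg.Spor.IsoM11 B.N) : False := by
  obtain ⟨e⟩ := hM
  haveI : Subsingleton (Cfsg.Out Cfsg.Spor.M11) :=
    (Nat.card_eq_one_iff_unique.1 Cfsg.Agent.S2060.result).1
  obtain ⟨m, hm⟩ : (e.symm.trans (B.a.trans e) : MulAut Cfsg.Spor.M11) ∈ Cfsg.Inn Cfsg.Spor.M11 :=
    (QuotientGroup.eq_one_iff _).1 (Subsingleton.elim _ _)
  refine B.a_ne_inner (e.symm m) (MulEquiv.ext fun x => e.injective ?_)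
  have h := DFunLike.congr_fun hm (e x)
  simpa [MulAut.conj_apply] using h

/-- The central involution inverts the odd part of the centraliser of an involution. -/
theorem inverts {n : ℕ} (hn : 2 ≤ n) (eS : Nonempty ((B.S : Subgroup B.N) ≃* DihedralGroup n)) {x : B.N}
    (hx : x * B.T.z = B.T.z * x) (ho : Odd (orderOf x)) : B.a x = x⁻¹ := by
  set C := centralizer ({B.T.z} : Set B.N) with hC
  obtain ⟨N₀, hN₀, hodd, l, hl⟩ : ∃ M : Subgroup C, M.Normal ∧ Odd (Nat.card M) ∧ ∃ k : ℕ, M.index = 2 ^ k :=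
    Cfsg.Agent.S0514.result B.S n hn eS B.T.z B.T.order_z
  haveI := hN₀
  have hmem : ∀ y : C, Odd (orderOf y) → y ∈ N₀ := by
    intro y hy
    have h1 : orderOf (y : C ⧸ N₀) ∣ 2 ^ l := by
      rw [← hl, Subgroup.index_eq_card]; exact orderOf_dvd_natCard _
    have h2 : orderOf (y : C ⧸ N₀) ∣ orderOf y := orderOf_map_dvd (QuotientGroup.mk' N₀) y
    exact (QuotientGroup.eq_one_iff y).1 (orderOf_eq_one_iff.1 (Nat.eq_one_of_dvd_coprimes
      ((Nat.coprime_two_right.2 hy).pow_right l) h2 h1))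
  have haC : ∀ y : C, B.a y ∈ C := fun y => by
    have h := congrArg B.a (mem_centralizer_singleton_iff.1 y.2)
    rw [map_mul, map_mul, B.a_ι] at h
    exact mem_centralizer_singleton_iff.2 h
  let f : N₀ →* N₀ := MonoidHom.mk'
    (fun y => ⟨⟨B.a ((y : C) : B.N), haC y⟩, hmem _ (by
      rw [← Subgroup.orderOf_coe, MulEquiv.orderOf_eq, Subgroup.orderOf_coe]
      exact odd_orderOf_of_mem hodd y.2)⟩)
    fun y y' => Subtype.ext (Subtype.ext (map_mul B.a _ _))
  have hfix : MonoidHom.FixedPointFree f := by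
    intro y hy
    have h1 : B.a ((y : C) : B.N) = ((y : C) : B.N) :=
      congrArg (fun z : N₀ => ((z : C) : B.N)) hy
    obtain ⟨k, hk⟩ := B.hAN _ (B.fix_iff.1 h1)
    have hkz : k * pa = pa * k := B.T.inj (by
      rw [map_mul, map_mul, hk]; exact mem_centralizer_singleton_iff.1 (y : C).2)
    have h8 := (by decide +kernel : ∀ k : Equiv.Perm (Fin 4), k * pa = pa * k → k ^ 8 = 1) k hkz
    have hok : Odd (orderOf k) := by
      rw [← orderOf_injective B.T.ι B.T.inj k, hk, Subgroup.orderOf_coe]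
      exact odd_orderOf_of_mem hodd y.2
    have hk1 : orderOf k = 1 := Nat.eq_one_of_dvd_coprimes ((Nat.coprime_two_left.2 hok).pow_left 3)
      (orderOf_dvd_of_pow_eq_one h8) dvd_rfl
    rw [orderOf_eq_one_iff.1 hk1, map_one] at hk
    exact Subtype.ext (Subtype.ext hk.symm)
  have hinv : Function.Involutive f := fun y => Subtype.ext (Subtype.ext (B.a_a _))
  have h := congrFun (hfix.coe_eq_inv_of_involutive hinv)
    ⟨⟨x, mem_centralizer_singleton_iff.2 hx⟩, hmem _ (by rw [← Subgroup.orderOf_coe]; exact ho)⟩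
  exact congrArg (fun z : N₀ => ((z : C) : B.N)) h

/-- An odd subgroup of the group of index two normalised by the stabiliser is trivial. -/
theorem la {n : ℕ} (hn : 2 ≤ n) (eS : Nonempty ((B.S : Subgroup B.N) ≃* DihedralGroup n)) (R : Subgroup B.N)
    (hR : Odd (Nat.card R)) (hnR : B.T.ι.range ≤ normalizer (R : Set B.N)) : R = ⊥ := by
  have hV : B.T.V ≤ normalizer (R : Set B.N) := fun v hv => by
    obtain ⟨k, -, rfl⟩ := B.T.four_cases (B.T.mem_V.1 hv)
    exact hnR ⟨k, rfl⟩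
  haveI := B.T.V_comm
  have hgen := Cfsg.Lib.Coprime.centralizerJoin_eq (A := B.T.V) (K := R) B.T.V_not_cyclic hV (by
    rw [B.T.card_V]; exact ((Nat.coprime_two_left.2 hR).pow_left 2 : (2 ^ 2).Coprime _))
  have key : ∀ x ∈ R, ∀ k : Equiv.Perm (Fin 4), x * (B.T.ι k * B.T.z * (B.T.ι k)⁻¹) =
      B.T.ι k * B.T.z * (B.T.ι k)⁻¹ * x → B.a x ∈ R := by
    intro x hx k hc
    set g := B.T.ι k with hg
    have h1 : g⁻¹ * x * g * B.T.z = B.T.z * (g⁻¹ * x * g) := by
      calc g⁻¹ * x * g * B.T.z = g⁻¹ * (x * (g * B.T.z * g⁻¹)) * g := by group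
        _ = g⁻¹ * (g * B.T.z * g⁻¹ * x) * g := by rw [hc]
        _ = _ := by group
    have ho : Odd (orderOf (g⁻¹ * x * g)) := by
      rw [show g⁻¹ * x * g = g⁻¹ * x * g⁻¹⁻¹ by group, orderOf_conj']
      exact odd_orderOf_of_mem hR hx
    have h2 := B.inverts hn eS h1 ho
    rw [map_mul, map_mul, map_inv, hg, B.a_ι] at h2
    have h3 : B.a x = x⁻¹ := by
      calc B.a x = g * (g⁻¹ * B.a x * g) * g⁻¹ := by group
        _ = g * (g⁻¹ * x * g)⁻¹ * g⁻¹ := by rw [hg, h2]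
        _ = _ := by group
    rw [h3]; exact inv_mem hx
  have hle : R ≤ R.comap B.a.toMonoidHom := by
    refine hgen.symm.le.trans (iSup₂_le fun v hv x hx => ?_)
    obtain ⟨hxR, hxv⟩ := hx
    have hc := mem_centralizer_singleton_iff.1 hxv
    rcases B.T.mem_V.1 hv.1 with rfl | rfl | rfl | rfl
    · exact absurd rfl hv.2
    · exact key x hxR 1 (by simpa using hc)
    · exact key x hxR pd (by rw [B.T.d_z]; exact hc)
    · exact key x hxR (pd * pd) (by
        rw [map_mul, show B.T.d * B.T.d * B.T.z * (B.T.d * B.T.d)⁻¹ = B.T.d * (B.T.d * B.T.z * B.T.d⁻¹) * B.T.d⁻¹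
          by group, B.T.d_z, B.T.d_t]; exact hc)
  have hA0 : ∀ M : Subgroup G, M ≤ A → A ≤ normalizer (M : Set G) → Odd (Nat.card M) → M = ⊥ := by
    intro M hMA hAM hM
    haveI : (M.comap D.ι).Normal := ⟨fun m hm k => by
      show D.ι (k * m * k⁻¹) ∈ M
      rw [map_mul, map_mul, map_inv]
      exact (mem_normalizer_iff.1 (hAM (D.ι_mem k)) _).1 hm⟩
    have hMr : M ≤ D.ι.range := by
      intro x hx
      obtain ⟨p, rfl⟩ := D.exists_j (hMA hx)
      have ho : Odd (orderOf p) := by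
        rw [← orderOf_injective D.j D.jinj p]; exact odd_orderOf_of_mem hM hx
      have ho2 : Odd (orderOf p.2) := ho.of_dvd_nat (orderOf_map_dvd (MonoidHom.snd _ _) p)
      have hp : p.2 = 1 := by
        rcases c2_cases p.2 with e | e
        · exact e
        · exact eq_one_of_odd_of_two ho2 (by rw [e]; decide)
      exact ⟨p.1, by rw [TimesSit.ι_apply]; exact congrArg D.j (Prod.ext rfl hp.symm)⟩
    have hb := perm_four_odd_trivial (N := M.comap D.ι) (hM.of_dvd_nat (by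
      rw [← card_map_of_injective D.ι_inj, map_comap_eq, inf_eq_right.2 hMr]))
    rw [← map_comap_eq_self (f := D.ι) hMr, hb, Subgroup.map_bot]
  have h0 : R.map B.N.subtype = ⊥ := by
    refine D.prim.eq_bot_of_odd_invariant hA0
      (by rwa [card_map_of_injective B.N.subtype_injective]) fun y hy => ?_
    obtain ⟨p, rfl⟩ := D.exists_j hy
    have hι : ∀ k, D.ι k ∈ normalizer ((R.map B.N.subtype : Subgroup G) : Set G) := by
      intro k
      refine mem_normalizer_iff_map_conj_eq.2 (Subgroup.eq_of_le_of_card_ge ?_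
        (Nat.card_congr ((R.map B.N.subtype).equivMapOfInjective _ (MulAut.conj (D.ι k)).injective).toEquiv).le)
      rintro _ ⟨_, ⟨x, hx, rfl⟩, rfl⟩
      refine ⟨_, (mem_normalizer_iff.1 (hnR ⟨k, rfl⟩) x).1 hx, ?_⟩
      show ((B.T.ι k * x * (B.T.ι k)⁻¹ : B.N) : G) = D.ι k * (x : G) * (D.ι k)⁻¹
      rw [Subgroup.coe_mul, Subgroup.coe_mul, Subgroup.coe_inv, B.hT]
    have hw : D.w ∈ normalizer ((R.map B.N.subtype : Subgroup G) : Set G) := by
      refine mem_normalizer_iff_map_conj_eq.2 (Subgroup.eq_of_le_of_card_ge ?_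
        (Nat.card_congr ((R.map B.N.subtype).equivMapOfInjective _ (MulAut.conj D.w).injective).toEquiv).le)
      rintro _ ⟨_, ⟨x, hx, rfl⟩, rfl⟩
      exact ⟨B.a x, hle hx, B.a_coe x⟩
    rcases D.j_cases p with e | e <;> rw [e]
    · exact hι _
    · exact mul_mem (hι _) hw
  exact (Subgroup.map_eq_bot_iff_of_injective _ B.N.subtype_injective).1 h0

theorem O_bot (T' : DihSit B.N) (hT' : T'.toSym4 = B.T) {n : ℕ} (hn : 2 ≤ n)
    (eS : Nonempty ((B.S : Subgroup B.N) ≃* DihedralGroup n)) {x : B.N} (hx : x ∈ T'.O) : x = 1 := by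
  have hι : ∀ k, T'.ι k = B.T.ι k := fun k => by rw [hT']
  have ho : Odd (orderOf x) := odd_orderOf_of_mem T'.hOodd hx
  have hxz : x * B.T.z = B.T.z * x := by
    have := T'.hOle x hx
    simpa only [Sym4.z, hι] using this
  have hw := congrArg Subtype.val (B.inverts hn eS hxz ho)
  have ht : B.T.t * x * B.T.t⁻¹ = x⁻¹ := by
    have := T'.t_inv hx
    simpa only [Sym4.t, hι] using this
  have ht' := congrArg Subtype.val ht
  rw [Subgroup.coe_mul, Subgroup.coe_mul, Subgroup.coe_inv, B.hT, Subgroup.coe_inv] at ht'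
  rw [B.a_coe, Subgroup.coe_inv] at hw
  have hxz' : (x : G) * D.ι pa = D.ι pa * x := by
    have := congrArg Subtype.val hxz
    rwa [Subgroup.coe_mul, Subgroup.coe_mul, Sym4.z, B.hT] at this
  set h := D.ι pd * D.g⁻¹ with hh
  have hgw : D.g⁻¹ * D.w * D.g = D.ι pa * D.w := by
    have h1 : D.g * (D.ι pa * D.w) * D.g⁻¹ = D.w := by
      rw [show D.g * (D.ι pa * D.w) * D.g⁻¹ = D.g * D.ι pa * D.g⁻¹ * (D.g * D.w * D.g⁻¹) by group, D.hgw', D.hgz',
        ← mul_assoc, ← map_mul, perm_facts.1, map_one, one_mul]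
    conv_lhs => rw [← h1]
    group
  have hhw : h * D.w * h⁻¹ = D.ι pb * D.w := by
    rw [hh, show D.ι pd * D.g⁻¹ * D.w * (D.ι pd * D.g⁻¹)⁻¹ = D.ι pd * (D.g⁻¹ * D.w * D.g) * (D.ι pd)⁻¹ by group,
      hgw, show D.ι pd * (D.ι pa * D.w) * (D.ι pd)⁻¹ = D.ι pd * D.ι pa * (D.w * (D.ι pd)⁻¹) by group,
      ← map_inv, ← D.w_comm, ← mul_assoc, ← map_mul, ← map_mul, perm_facts.2.2.2.1]
  set y := h⁻¹ * (x : G) * h with hy
  have hcx : D.ι pb * D.w * (x : G) * (D.ι pb * D.w)⁻¹ = x := by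
    rw [show D.ι pb * D.w * (x : G) * (D.ι pb * D.w)⁻¹ = D.ι pb * (D.w * (x : G) * D.w⁻¹) * (D.ι pb)⁻¹ by group, hw,
      show D.ι pb * (x : G)⁻¹ * (D.ι pb)⁻¹ = (D.ι pb * (x : G) * (D.ι pb)⁻¹)⁻¹ by group, ht', inv_inv]
  rw [← hhw] at hcx
  have hyA : y ∈ A := by
    rw [D.mem_A_iff]
    calc y * D.w = h⁻¹ * (h * D.w * h⁻¹ * (x : G) * (h * D.w * h⁻¹)⁻¹) * h * D.w := by rw [hy, hcx]
      _ = _ := by rw [hy]; group
  obtain ⟨p, hp⟩ := D.exists_j hyA
  have hk : ∃ k1, (k1 = pe * pb ∨ k1 = pa * (pe * pb)) ∧ h⁻¹ * D.ι pa * h = D.ι k1 := by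
    rw [hh, show (D.ι pd * D.g⁻¹)⁻¹ * D.ι pa * (D.ι pd * D.g⁻¹) = D.g * ((D.ι pd)⁻¹ * D.ι pa * D.ι pd) * D.g⁻¹
      by group, ← map_inv, ← map_mul, ← map_mul,
      (by decide +kernel : pd⁻¹ * pa * pd = pa * pb), map_mul,
      show D.g * (D.ι pa * D.ι pb) * D.g⁻¹ = D.g * D.ι pa * D.g⁻¹ * (D.g * D.ι pb * D.g⁻¹) by group, D.hgz']
    rcases D.hgt with e | e
    · refine ⟨_, Or.inr rfl, ?_⟩
      rw [TimesSit.ι_apply, TimesSit.ι_apply, e, TimesSit.ι_apply, ← map_mul]; rfl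
    · refine ⟨_, Or.inl rfl, ?_⟩
      rw [TimesSit.ι_apply, TimesSit.ι_apply, e, TimesSit.ι_apply, ← map_mul]
      exact congrArg D.j (by decide +kernel)
  obtain ⟨k1, hk1, hk1e⟩ := hk
  have hyk : y * D.ι k1 = D.ι k1 * y := by
    rw [← hk1e, hy, show h⁻¹ * (x : G) * h * (h⁻¹ * D.ι pa * h) = h⁻¹ * ((x : G) * D.ι pa) * h by group, hxz']
    group
  rw [← hp, TimesSit.ι_apply, ← map_mul, ← map_mul] at hyk
  have hpk : p.1 * k1 = k1 * p.1 := congrArg Prod.fst (D.jinj hyk)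
  have hp2 : p * p = 1 := (by decide +kernel : ∀ p : K2, p.1 * (pe * pb) = pe * pb * p.1 ∨
    p.1 * (pa * (pe * pb)) = pa * (pe * pb) * p.1 → p * p = 1) p (by
      rcases hk1 with rfl | rfl
      exacts [Or.inl hpk, Or.inr hpk])
  have hy2 : y * y = 1 := by rw [← hp, ← map_mul, hp2, map_one]
  have hx2 : (x : G) * (x : G) = 1 := by
    have : (x : G) * (x : G) = h * (y * y) * h⁻¹ := by rw [hy]; group
    rw [this, hy2, mul_one, mul_inv_cancel]
  exact eq_one_of_odd_of_two ho (Subtype.ext hx2)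

theorem not_dihedral (n : ℕ) (eS : (B.S : Subgroup B.N) ≃* DihedralGroup n) : False := by
  classical
  have hn : n = 8 := by
    have := Nat.card_congr eS.toEquiv
    rw [B.hS, DihedralGroup.nat_card] at this
    omega
  have hn2 : 2 ≤ n := by omega
  obtain ⟨T', hT'⟩ := B.T.exists_dihSit B.simple (B.la hn2 ⟨eS⟩) B.S B.hPS (by rw [B.hS]) n eS
  have hι : ∀ k, T'.ι k = B.T.ι k := fun k => by rw [hT']
  have hSc : Nat.card (T'.S : Subgroup B.N) = 16 := by
    rw [Nat.card_congr (Sylow.equiv T'.S B.S).toEquiv, B.hS]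
  have hC : centralizer ({T'.z} : Set B.N) = (T'.S : Subgroup B.N) := by
    refine le_antisymm (fun x hx => ?_) fun x hx => mem_centralizer_singleton_iff.2 (T'.z_S hx)
    obtain ⟨o, ho, s, hs, rfl⟩ := T'.hCdec x (mem_centralizer_singleton_iff.1 hx)
    rw [B.O_bot T' hT' hn2 ⟨eS⟩ ho, one_mul]; exact hs
  obtain ⟨F, _, _, hodd, ⟨e⟩⟩ := T'.exists_psl
  have hz2 : orderOf (e T'.z) = 2 := by rw [MulEquiv.orderOf_eq]; exact T'.order_z
  have hcent : Nat.card (centralizer ({e T'.z} : Set (Matrix.ProjectiveSpecialLinearGroup (Fin 2) F))) = 16 := by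
    rw [← hSc, ← hC]
    refine (Nat.card_congr (Equiv.subtypeEquiv e.toEquiv fun x => ?_)).symm
    simp only [mem_centralizer_singleton_iff]
    exact ⟨fun h => by rw [MulEquiv.toEquiv_eq_coe, EquivLike.coe_coe, ← map_mul, ← map_mul, h], fun h => e.injective (by
      rw [map_mul, map_mul]; exact h)⟩
  obtain ⟨p, hpc⟩ := CharP.exists F
  obtain ⟨r, hp, hr⟩ := FiniteField.card F p
  have hq : Fintype.card F = 17 := by
    rcases psl_invol_cent hodd _ hz2 with h | h <;> rw [hcent] at h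
    · omega
    · exfalso
      have h15 : p ^ (r : ℕ) = 15 := by omega
      have h3 : (3 : ℕ) ∣ p ^ (r : ℕ) := by rw [h15]; norm_num
      have h5 : (5 : ℕ) ∣ p ^ (r : ℕ) := by rw [h15]; norm_num
      have e3 := (Nat.prime_dvd_prime_iff_eq Nat.prime_three hp).1 (Nat.prime_three.dvd_of_dvd_pow h3)
      have e5 := (Nat.prime_dvd_prime_iff_eq Nat.prime_five hp).1 (Nat.prime_five.dvd_of_dvd_pow h5)
      omega
  haveI : Fact (Nat.Prime 17) := ⟨by norm_num⟩
  obtain ⟨e17⟩ := psl_zmod (p := 17) (by norm_num) hq e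
  obtain ⟨g, σ, γ, hγ, hβ⟩ := Cfsg.Lib.Known.AutPSLn.exists_decomp_all (F := ZMod 17) le_rfl
    (e17.symm.trans (B.a.trans e17))
  have hσ : σ = 1 := RingEquiv.toRingHom_injective (Subsingleton.elim _ _)
  obtain ⟨X, hX⟩ : ∃ X : GL (Fin 2) (ZMod 17),
      e17.symm.trans (B.a.trans e17) = Cfsg.Lib.Known.AutPSLn.conjP X := by
    obtain ⟨w₀, hw₀⟩ := graph_is_conj (p := 17)
    subst hσ
    rcases hγ with rfl | rfl
    · exact ⟨g, by rw [hβ, map_one, mul_one, mul_one]⟩
    · exact ⟨g * w₀, by rw [hβ, map_one, mul_one, hw₀, map_mul]⟩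
  have hfix : ∀ k, Cfsg.Lib.Known.AutPSLn.conjP X (e17 (B.T.ι k)) = e17 (B.T.ι k) := fun k => by
    rw [← hX]
    show e17 (B.a (e17.symm (e17 (B.T.ι k)))) = _
    rw [e17.symm_apply_apply, B.a_ι]
  have h1 := conjP_eq_one_of_fixed (fun h => absurd ((ZMod.natCast_eq_zero_iff 2 17).1 (by exact_mod_cast h)) (by norm_num)) X (e17 B.T.z) (e17 B.T.d) (hfix _) (hfix _)
    (by rw [← map_pow, ← map_pow, perm_facts.2.2.2.2.2.2.2.2.1, map_one, map_one])
    (by
      have h := congrArg e17 (show B.T.d * (B.T.d * B.T.z * B.T.d⁻¹) * B.T.d⁻¹ = B.T.z * (B.T.d * B.T.z * B.T.d⁻¹) by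
        rw [B.T.d_z, B.T.d_t])
      simpa only [map_mul, map_inv] using h)
    (fun h => by
      rw [← map_mul e17, ← map_mul e17] at h
      have h2 : pa * pd = pd * pa := B.T.inj (by rw [map_mul, map_mul]; exact e17.injective h)
      exact absurd h2 (by decide +kernel))
  refine B.a_ne_inner 1 (MulEquiv.ext fun x => ?_)
  have h2 := DFunLike.congr_fun (hX.trans h1) (e17 x)
  simp at h2
  simp [h2]

/-- The subgroup of index two is `PSL(3, 3)`. -/
theorem psl3 (B : TimesSub D) :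
    Nonempty (B.N ≃* Matrix.ProjectiveSpecialLinearGroup (Fin 3) (ZMod 3)) := by
  rcases B.T.dih_or_semi B.S.2 B.hPS (by rw [B.hS]; norm_num) with ⟨n, ⟨eS⟩⟩ | hQD
  · exact (B.not_dihedral n eS).elim
  · obtain ⟨T', -⟩ := B.T.exists_sdSit B.simple B.S B.hPS (by rw [B.hS]) hQD
    exact T'.outcome.resolve_right fun hM => B.not_m11 hM

end TimesSub

end Cfsg.Lib.SubdegThree
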