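import Cfsg.Agent.SubdegThree.SdCore
import Cfsg.Agent.ExtClosedOdd.CharTools
import Cfsg.Agent.Blocks.PrincipalColumn
import Cfsg.Agent.Components.Cores
import Cfsg.Agent.Chars.Construct

/-!
The principal block of two on the section of the central involution.
-/

set_option autoImplicit false
set_option linter.unusedSectionVars false
set_option linter.style.haveILetI false

namespace Cfsg.Lib.SubdegThree

open Subgroup Cfsg.Lib.GLTwoThree Cfsg.Lib.Order9 Cfsg.Lib.Chars Cfsg.Lib.Blocks
open scoped ComplexConjugate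

universe u

variable {G : Type u} [Group G] [Fintype G]

/-- Outside the principal block a section is orthogonal to the principal block of the centraliser. -/
theorem section_sum {M : Ideal AlgInt} (hM : IsPModular 2 M) {x : G} (hx : ∃ k : ℕ, orderOf x = 2 ^ k)
    [Fintype (centralizer ({x} : Set G))] {χ : Cfsg.IrrCharacter G} (hχ : χ ∉ Cfsg.principalBlock M G)
    {θ : Cfsg.IrrCharacter (centralizer ({x} : Set G))}
    (hθ : θ ∈ Cfsg.principalBlock M (centralizer ({x} : Set G))) :
    ∑ w ∈ Finset.univ.filter (fun w : centralizer ({x} : Set G) => ¬ 2 ∣ orderOf w),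
      (χ : G → ℂ) (x * (w : G)) * conj ((θ : centralizer ({x} : Set G) → ℂ) w) = 0 := by
  classical
  haveI : Fact (Nat.Prime 2) := ⟨Nat.prime_two⟩
  have hH : centralizer ({x} : Set G) = Subgroup.centralizer (Subgroup.zpowers x : Set G) :=
    (centralizer_zpowers x).symm
  have hb : IsPBlock M (Cfsg.principalBlock M (centralizer ({x} : Set G))) :=
    isPBlock_blockOf (Chars.principal (centralizer ({x} : Set G)))
  have hB : IsPBlock M (blockOf M (χ : G → ℂ)) := isPBlock_blockOf χ
  have hnot : ¬ IsInducedBlock M (centralizer ({x} : Set G))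
      (Cfsg.principalBlock M (centralizer ({x} : Set G))) (blockOf M (χ : G → ℂ)) := by
    intro hind
    have hp := (isInducedBlock_principal_iff hM (centralizer ({x} : Set G)) ⟨_, hind⟩).2 rfl
    exact hχ (IsInducedBlock.unique hM hind hp ▸ mem_blockOf_self hM χ)
  rw [← sum_regular_blockPart hM hb (fun c : centralizer ({x} : Set G) => (χ : G → ℂ) (x * (c : G))) hθ]
  refine Finset.sum_eq_zero fun w hw => ?_
  rw [blockPart_translate_eq_zero hM hx hH hB (mem_blockOf_self hM χ) hb hnot w
    (Finset.mem_filter.1 hw).2, zero_mul]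

namespace CoreSetup

variable (D : CoreSetup G)

theorem odd_iff (x : D.X) : ¬ 2 ∣ orderOf x ↔ D.π x * (D.π x * D.π x) = 1 := by
  rw [Nat.two_dvd_ne_zero, ← Nat.odd_iff, ← pow_two, ← pow_succ', show 2 + 1 = 3 from rfl]
  constructor
  · intro h
    refine orderOf_dvd_iff_pow_eq_one.1 ?_
    have h1 : orderOf (D.π x) ∣ 2 ^ 3 * 3 := orderOf_dvd_of_pow_eq_one (pow24 _)
    exact ((Nat.coprime_two_right.2 (h.of_dvd_nat (orderOf_map_dvd D.π x))).pow_right 3).dvd_of_dvd_mul_left h1
  · intro h
    have h1 : (x ^ 3) ^ Nat.card D.π.ker = 1 := D.ker_pow (by rw [map_pow, h])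
    exact ((by decide : Odd 3).mul D.odd).of_dvd_nat (orderOf_dvd_of_pow_eq_one (by rw [pow_mul, h1]))

theorem order_z' : orderOf D.z = 2 := orderOf_eq_prime (by rw [pow_two, D.z_sq]) D.z_ne

/-- The centraliser of a lift of an element of order four or eight. -/
theorem cent_lift_le {x : D.X} {k : K48} (hk : Ord4 k ∨ Ord8 k) (hx : D.π x = k) :
    centralizer ({(x : G)} : Set G) ≤ D.X := fun g hg => by
  have hsec : InSec (D.π x) := by
    rw [hx]; exact (by decide +kernel : ∀ k, Ord4 k ∨ Ord8 k → InSec k) k hk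
  exact D.ti hsec hsec (mul_inv_eq_iff_eq_mul.2 (mem_centralizer_singleton_iff.1 hg))

theorem core_mem {x : D.X} (hle : centralizer ({(x : G)} : Set G) ≤ D.X) {y : D.X} (hy : D.π y = 1)
    (hc : (y : G) * x = x * y) :
    (y : G) ∈ (pPrimeCore 2 (centralizer ({(x : G)} : Set G))).map (centralizer ({(x : G)} : Set G)).subtype := by
  let ι : centralizer ({(x : G)} : Set G) →* K48 := D.π.comp (Subgroup.inclusion hle)
  have hcop : (Nat.card ι.ker).Coprime 2 := by
    refine Nat.coprime_two_right.2 (D.odd.of_dvd_nat ?_)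
    exact Subgroup.card_dvd_of_injective
      (((Subgroup.inclusion hle).comp ι.ker.subtype).codRestrict D.π.ker fun a => D.mem_ker.2 a.2)
      fun a b h => Subtype.ext (Subgroup.inclusion_injective hle (congrArg Subtype.val h))
  refine ⟨⟨y, mem_centralizer_singleton_iff.2 hc⟩, Cfsg.Lib.Components.le_pPrimeCore hcop ?_, rfl⟩
  show D.π (Subgroup.inclusion hle ⟨y, _⟩) = 1
  exact hy

/-- A kernel element inverted by a lift conjugates it. -/
theorem conj_lift {x y : D.X} (hdet : det (D.π x).m ≠ 1) (hy : D.π y = 1) :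
    IsConj (x : G) ((x * y : D.X) : G) := by
  obtain ⟨v, hv, hvy⟩ := D.ker_sqrt hy
  refine isConj_iff.2 ⟨((v⁻¹ : D.X) : G), ?_⟩
  rw [← Subgroup.coe_inv, ← Subgroup.coe_mul, ← Subgroup.coe_mul, inv_inv]
  congr 1
  have hi := D.inv x v hv hdet
  calc v⁻¹ * x * v = (x * v * x⁻¹) * x * v := by rw [hi]
    _ = x * (v * v) := by group
    _ = x * y := by rw [hvy]

variable {M : Ideal AlgInt} (hM : IsPModular 2 M)
include hM

/-- In the principal block a character is constant on the fibres over the central involution and over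
elements of order four and eight. -/
theorem const_fibre {χ : Cfsg.IrrCharacter G} (hχ : χ ∈ Cfsg.principalBlock M G) {x x' : D.X}
    (hk : D.π x = zk ∨ Ord4 (D.π x) ∨ Ord8 (D.π x)) (he : D.π x' = D.π x) :
    (χ : G → ℂ) x' = (χ : G → ℂ) x := by
  haveI : Fact (Nat.Prime 2) := ⟨Nat.prime_two⟩
  obtain ⟨x0, hx0, hpow⟩ := D.exists_lift (k := D.π x)
    ((by decide +kernel : ∀ k, k = zk ∨ Ord4 k ∨ Ord8 k → k ^ 8 = 1) _ hk)
  suffices key : ∀ a : D.X, D.π a = D.π x → (χ : G → ℂ) a = (χ : G → ℂ) x0 by rw [key x' he, key x rfl]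
  intro a ha
  have hy : D.π (x0⁻¹ * a) = 1 := by rw [map_mul, map_inv, hx0, ha, inv_mul_cancel]
  have e : a = x0 * (x0⁻¹ * a) := (mul_inv_cancel_left _ _).symm
  rw [e]
  generalize x0⁻¹ * a = y at hy
  have hcase : det (D.π x0).m ≠ 1 ∨ (det (D.π x0).m = 1 ∧ centralizer ({(x0 : G)} : Set G) ≤ D.X) := by
    rw [hx0]
    rcases hk with h | h | h
    · refine Or.inr ⟨by rw [h]; exact det_zk, ?_⟩
      intro g hg
      have hsec : InSec (D.π x0) := by rw [hx0, h]; exact Or.inl rfl
      exact D.ti hsec hsec (mul_inv_eq_iff_eq_mul.2 (mem_centralizer_singleton_iff.1 hg))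
    · exact Or.inr ⟨det_ord4 _ h, D.cent_lift_le (Or.inl h) hx0⟩
    · exact Or.inl (det_ord8 _ h)
  rcases hcase with hd | ⟨hd, hle⟩
  · exact (classFunction_eq_of_isConj (isClassFunction_irr χ) (D.conj_lift hd hy)).symm
  · rw [Subgroup.coe_mul]
    refine Cfsg.Lib.ExtOdd.apply_mul_core hM hpow (D.core_mem hle hy ?_) hχ
    exact congrArg Subtype.val (D.comm x0 y hy hd).symm

open scoped Classical in
theorem sum_ord48 {χ : Cfsg.IrrCharacter G} (hχ : χ ∉ Cfsg.principalBlock M G) [Fintype D.X] {k : K48}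
    (hk : Ord4 k ∨ Ord8 k) : ∑ x : D.X, (if D.π x = k then (χ : G → ℂ) x else 0) = 0 := by
  haveI : Fact (Nat.Prime 2) := ⟨Nat.prime_two⟩
  obtain ⟨x0, hx0, hpow⟩ := D.exists_lift (k := k)
    ((by decide +kernel : ∀ k, Ord4 k ∨ Ord8 k → k ^ 8 = 1) _ hk)
  have hle := D.cent_lift_le hk hx0
  set H := centralizer ({(x0 : G)} : Set G) with hH
  have h := section_sum hM hpow hχ (mem_blockOf_self hM (Chars.principal H))
  have h' : ∑ w ∈ Finset.univ.filter (fun w : H => ¬ 2 ∣ orderOf w), (χ : G → ℂ) ((x0 : G) * (w : G)) = 0 := by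
    rw [← h]
    exact Finset.sum_congr rfl fun w _ => by simp [Chars.principal]
  have hreg : ∀ w : H, ¬ 2 ∣ orderOf w ↔ D.π (Subgroup.inclusion hle w) = 1 := by
    intro w
    rw [← orderOf_injective (Subgroup.inclusion hle) (Subgroup.inclusion_injective hle) w, D.odd_iff]
    refine ⟨fun h1 => ?_, fun h1 => by rw [h1, one_mul, one_mul]⟩
    refine (by decide +kernel : ∀ k j, Ord4 k ∨ Ord8 k → j * (j * j) = 1 → j * k = k * j → j = 1) k _ hk h1 ?_
    rw [← hx0, ← map_mul, ← map_mul]
    exact congrArg D.π (Subtype.ext (mem_centralizer_singleton_iff.1 w.2))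
  rcases hk with hk4 | hk8
  · rw [← Finset.sum_filter]
    rw [← h']
    symm
    refine Finset.sum_bij' (fun w _ => x0 * Subgroup.inclusion hle w)
      (fun x hx => ⟨((x0⁻¹ * x : D.X) : G), ?_⟩) ?_ ?_ ?_ ?_ ?_
    · have hx' := (Finset.mem_filter.1 hx).2
      exact mem_centralizer_singleton_iff.2 (congrArg Subtype.val (D.comm x0 (x0⁻¹ * x)
        (by rw [map_mul, map_inv, hx0, hx', inv_mul_cancel]) (by rw [hx0]; exact det_ord4 _ hk4)).symm)
    · intro w hw
      rw [Finset.mem_filter]
      refine ⟨Finset.mem_univ _, ?_⟩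
      rw [map_mul, hx0, (hreg w).1 (Finset.mem_filter.1 hw).2, mul_one]
    · intro x hx
      rw [Finset.mem_filter]
      refine ⟨Finset.mem_univ _, (hreg _).2 ?_⟩
      show D.π (x0⁻¹ * x) = 1
      rw [map_mul, map_inv, hx0, (Finset.mem_filter.1 hx).2, inv_mul_cancel]
    · intro w _
      exact Subtype.ext (inv_mul_cancel_left (x0 : G) (w : G))
    · intro x _
      exact Subtype.ext (mul_inv_cancel_left (x0 : G) (x : G))
    · intro w _; rfl
  · have hd : det (D.π x0).m ≠ 1 := by rw [hx0]; exact det_ord8 _ hk8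
    have hχ0 : (χ : G → ℂ) x0 = 0 := by
      rw [Finset.sum_eq_single (1 : H), OneMemClass.coe_one, mul_one] at h'
      · exact h'
      · intro w hw hw1
        exfalso
        refine hw1 ?_
        set y := Subgroup.inclusion hle w with hy
        have hy1 : D.π y = 1 := (hreg w).1 (Finset.mem_filter.1 hw).2
        have hi := D.inv x0 y hy1 hd
        rw [show x0 * y = y * x0 from Subtype.ext (mem_centralizer_singleton_iff.1 w.2).symm,
          mul_inv_cancel_right] at hi
        have := D.ker_two hy1 (by nth_rewrite 1 [hi]; exact inv_mul_cancel _)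
        exact Subgroup.inclusion_injective hle (this.trans (map_one _).symm)
      · intro h1
        exact absurd (Finset.mem_filter.2 ⟨Finset.mem_univ _, by rw [orderOf_one]; decide⟩) h1
    refine Finset.sum_eq_zero fun x _ => ?_
    split_ifs with hx
    · rw [← mul_inv_cancel_left x0 x, ← classFunction_eq_of_isConj (isClassFunction_irr χ)
        (D.conj_lift hd (by rw [map_mul, map_inv, hx0, hx, inv_mul_cancel] : D.π (x0⁻¹ * x) = 1))]
      exact hχ0
    · rfl

open scoped Classical in
theorem sum_center_six {χ : Cfsg.IrrCharacter G} (hχ : χ ∉ Cfsg.principalBlock M G) [Fintype D.X] :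
    ∑ x : D.X, (if D.π x = zk then (χ : G → ℂ) x else 0) = 0 ∧
      ∑ x : D.X, (if Ord6 (D.π x) then (χ : G → ℂ) x else 0) = 0 := by
  haveI : Fact (Nat.Prime 2) := ⟨Nat.prime_two⟩
  have hpow : ∃ k : ℕ, orderOf D.z = 2 ^ k := ⟨1, by rw [D.order_z', pow_one]⟩
  -- an irreducible character of degree three
  have hgen : Cfsg.IsGeneralizedCharacter K48 (fun k => (sig k : ℂ)) := gen_sig
  have hnorm : Cfsg.classInner (fun k => (sig k : ℂ)) (fun k : K48 => (sig k : ℂ)) = 1 := by
    rw [classInner_def, Nat.card_eq_fintype_card, card48]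
    simp only [map_intCast]
    have := congrArg (Int.cast : ℤ → ℂ) sig_norm
    push_cast at this
    rw [this]; norm_num
  have hirr : Cfsg.IsIrrCharacter K48 (fun k => (sig k : ℂ)) := by
    refine (isIrr_or_neg_of_norm_one hgen hnorm).resolve_right fun h => ?_
    obtain ⟨d, hd0, hd⟩ := IsIrrCharacter.apply_one h
    rw [Pi.neg_apply, sig_one] at hd
    have h3 : ((-3 : ℤ) : ℂ) = ((d : ℤ) : ℂ) := by push_cast; rw [← hd]; norm_num
    have := Int.cast_injective h3
    omega
  let θ : Cfsg.IrrCharacter D.X := ⟨_, IsIrrCharacter.comp_surjective hirr D.π D.surj⟩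
  have hθv : ∀ x, (θ : D.X → ℂ) x = (sig (D.π x) : ℂ) := fun _ => rfl
  have hsigreg : ∀ x : D.X, (if 2 ∣ orderOf x then (0 : ℂ) else (θ : D.X → ℂ) x) =
      if D.π x = 1 then (3 : ℂ) else 0 := by
    intro x
    rw [hθv]
    by_cases h1 : D.π x = 1
    · rw [if_pos h1, if_neg ((D.odd_iff x).2 (by rw [h1, one_mul, one_mul])), h1, sig_one]; norm_num
    · rw [if_neg h1]
      by_cases h2 : 2 ∣ orderOf x
      · rw [if_pos h2]
      · rw [if_neg h2, (regular_iff _ ((D.odd_iff x).1 h2) h1).1, Int.cast_zero]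
  have hθ : θ ∈ Cfsg.principalBlock M D.X := by
    rw [mem_principal_iff_sum hM, Finset.sum_congr rfl fun x _ => hsigreg x, Finset.sum_ite,
      Finset.sum_const_zero, add_zero, Finset.sum_const, nsmul_eq_mul]
    refine mul_ne_zero (Nat.cast_ne_zero.2 (Finset.card_pos.2 ⟨1, ?_⟩).ne') (by norm_num)
    exact Finset.mem_filter.2 ⟨Finset.mem_univ _, map_one _⟩
  have h1 := section_sum hM hpow hχ (mem_blockOf_self hM (Chars.principal D.X))
  have h2 := section_sum hM hpow hχ hθ
  rw [Finset.sum_filter] at h1 h2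
  rw [← Equiv.sum_comp (Equiv.mulLeft D.zX)] at h1 h2
  have hzz : ∀ x : D.X, D.z * ((D.zX * x : D.X) : G) = (x : G) := fun x => by
    show D.z * (D.z * (x : G)) = x
    rw [← mul_assoc, D.z_sq, one_mul]
  have hπ : ∀ x : D.X, D.π (D.zX * x) = zk * D.π x := fun x => by rw [map_mul, D.π_zX]
  have hreg : ∀ x : D.X, ¬ 2 ∣ orderOf (D.zX * x) ↔ D.π x = zk ∨ Ord6 (D.π x) := fun x => by
    rw [D.odd_iff, hπ]
    exact (by decide +kernel : ∀ k, zk * k * (zk * k * (zk * k)) = 1 ↔ k = zk ∨ Ord6 k) _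
  have e1 : ∑ x : D.X, (if D.π x = zk then (χ : G → ℂ) x else 0) = 0 := by
    have : ∑ x : D.X, (3 : ℂ) * (if D.π x = zk then (χ : G → ℂ) x else 0) = 0 := by
      refine Eq.trans (Finset.sum_congr rfl fun x _ => ?_) h2
      simp only [Equiv.coe_mulLeft]
      rw [hzz, hθv, hπ]
      by_cases hz : D.π x = zk
      · rw [if_pos hz]
        refine Eq.trans ?_ (if_pos ((hreg x).2 (Or.inl hz))).symm
        rw [hz, show zk * zk = 1 by decide +kernel, sig_one]
        simp [map_ofNat]; ring
      · rw [if_neg hz, mul_zero]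
        by_cases h6 : Ord6 (D.π x)
        · refine Eq.trans ?_ (if_pos ((hreg x).2 (Or.inr h6))).symm
          rw [(by decide +kernel : ∀ k, Ord6 k → sig (zk * k) = 0) _ h6]
          simp
        · exact (if_neg fun hh => ((hreg x).1 hh).elim hz h6).symm
    rw [← Finset.mul_sum] at this
    exact (mul_eq_zero.1 this).resolve_left (by norm_num)
  refine ⟨e1, ?_⟩
  have : ∑ x : D.X, ((if D.π x = zk then (χ : G → ℂ) x else 0) + if Ord6 (D.π x) then (χ : G → ℂ) x else 0) = 0 := by
    refine Eq.trans (Finset.sum_congr rfl fun x _ => ?_) h1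
    simp only [Equiv.coe_mulLeft, Chars.principal, map_one, mul_one]
    rw [hzz]
    by_cases hz : D.π x = zk
    · rw [if_pos hz, if_neg (fun h => h.2 hz), add_zero]
      exact (if_pos ((hreg x).2 (Or.inl hz))).symm
    · rw [if_neg hz, zero_add]
      exact if_congr ((hreg x).trans (or_iff_right hz)).symm rfl rfl
  rwa [Finset.sum_add_distrib, e1, zero_add] at this

end CoreSetup

end Cfsg.Lib.SubdegThree
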