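import Cfsg.Agent.SubdegThree.SdBlock
import Cfsg.Agent.Chars.Sums
import Cfsg.Agent.Chars.Induced
import Cfsg.Agent.Blocks.Feit3

/-!
The exceptional characters and class multiplication for an involution with centraliser an odd extension of
`GL(2,3)`.
-/

set_option autoImplicit false
set_option linter.unusedSectionVars false
set_option linter.style.haveILetI false
set_option maxRecDepth 8000

namespace Cfsg.Lib.SubdegThree

open Subgroup Cfsg.Lib.Chars Cfsg.Lib.GramSplit Cfsg.Lib.GLTwoThree Cfsg.Lib.Order9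
open scoped ComplexConjugate

universe u

variable {G : Type u} [Group G] [Fintype G]

namespace CoreSetup

variable (D : CoreSetup G) [Fintype D.X]

/-- A function of the model on the centraliser. -/
def pull (f : K48 → ℤ) : D.X → ℂ := fun x => (f (D.π x) : ℂ)

/-- The order of the core, as a complex number. -/
noncomputable def oc : ℂ := (Nat.card D.π.ker : ℂ)

theorem oc_ne : D.oc ≠ 0 := Nat.cast_ne_zero.2 Nat.card_pos.ne'

theorem sum_fib (F : K48 → ℂ) : ∑ x : D.X, F (D.π x) = D.oc * ∑ k, F k := by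
  classical
  rw [← Finset.sum_fiberwise Finset.univ D.π, Finset.mul_sum]
  refine Finset.sum_congr rfl fun k _ => ?_
  rw [Finset.sum_congr rfl (g := fun _ => F k) fun x hx => by rw [(Finset.mem_filter.1 hx).2],
    Finset.sum_const, nsmul_eq_mul, ← Fintype.card_subtype, ← Nat.card_eq_fintype_card,
    ← Nat.card_congr (D.fibreEquiv k)]
  rfl

theorem inner_pull (f : K48 → ℤ) (F : D.X → ℂ) :
    Cfsg.classInner (D.pull f) F = (48 * D.oc)⁻¹ * ∑ x : D.X, (f (D.π x) : ℂ) * conj (F x) := by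
  rw [classInner_def, D.card_X, Nat.cast_mul, oc]
  rfl

theorem gen_pull (i : Fin 4) : Cfsg.IsGeneralizedCharacter D.X (D.pull (vf i)) :=
  IsGeneralizedCharacter.comp_hom (gen_vf i) D.π

/-- Induction does not change a special function on its support. -/
theorem ind_apply (i : Fin 4) {x : D.X} (hx : InSec (D.π x)) :
    Cfsg.indFun D.X (D.pull (vf i)) x = D.pull (vf i) x := by
  classical
  have hcl := isClassFunction_generalized (D.gen_pull i)
  have hsupp : ∀ g : G, Cfsg.extendByZero D.X (D.pull (vf i)) (g⁻¹ * x * g) =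
      if g ∈ D.X then D.pull (vf i) x else 0 := by
    intro g
    split_ifs with hg
    · rw [extendByZero_mem _ (D.X.mul_mem (D.X.mul_mem (D.X.inv_mem hg) x.2) hg)]
      have := hcl x (⟨g, hg⟩ : D.X)⁻¹
      rw [inv_inv] at this
      exact this
    · by_cases hm : g⁻¹ * x * g ∈ D.X
      · rw [extendByZero_mem _ hm]
        by_contra hne
        refine hg (inv_mem_iff.1 (D.ti (x' := ⟨_, hm⟩) hx ?_ (by rw [inv_inv])))
        by_contra hb
        exact hne (by simp only [pull, bad i _ hb, Int.cast_zero])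
      · exact extendByZero_not_mem _ hm
  rw [indFun_apply, Finset.sum_congr rfl fun g _ => hsupp g, Finset.sum_ite, Finset.sum_const_zero, add_zero,
    Finset.sum_const, nsmul_eq_mul, ← Fintype.card_subtype, ← Nat.card_eq_fintype_card, ← mul_assoc,
    show Nat.card {g : G // g ∈ D.X} = Nat.card D.X from rfl,
    inv_mul_cancel₀ (Nat.cast_ne_zero.2 Nat.card_pos.ne'), one_mul]

/-- The inner products of an induced function with the irreducible characters. -/
theorem exists_mults : ∃ n : Fin 4 → Cfsg.IrrCharacter G → ℤ,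
    (∀ i (χ : Cfsg.IrrCharacter G),
      ∑ x : D.X, (vf i (D.π x) : ℂ) * conj ((χ : G → ℂ) x) = 48 * D.oc * (n i χ : ℂ)) ∧
    (∀ i j, ∑ χ, n i χ * n j χ = get gram i j + prin i * prin j) ∧
    (∀ i, n i ⟨_, isIrrCharacter_one⟩ = prin i) ∧
    ∀ i, ∑ χ, n i χ * (deg (χ : G → ℂ) : ℤ) = 0 := by
  classical
  have hgen : ∀ i, Cfsg.IsGeneralizedCharacter G (Cfsg.indFun D.X (D.pull (vf i))) :=
    fun i => IsGeneralizedCharacter.indFun (D.gen_pull i)
  choose n hn using fun (i : Fin 4) (χ : Cfsg.IrrCharacter G) => IsGeneralizedCharacter.exists_mult (hgen i) χ.2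
  have h48 : 48 * D.oc ≠ 0 := mul_ne_zero (by norm_num) D.oc_ne
  have hval : ∀ i (χ : Cfsg.IrrCharacter G),
      ∑ x : D.X, (vf i (D.π x) : ℂ) * conj ((χ : G → ℂ) x) = 48 * D.oc * (n i χ : ℂ) := by
    intro i χ
    rw [← hn, frobenius_reciprocity _ _ (isClassFunction_irr χ), D.inner_pull, mul_inv_cancel_left₀ h48]
  refine ⟨n, hval, fun i j => ?_, fun i => ?_, fun i => ?_⟩
  · apply Int.cast_injective (α := ℂ)
    have hj := classFunction_expand (isClassFunction_indFun D.X (D.pull (vf j)))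
    have e1 : Cfsg.classInner (Cfsg.indFun D.X (D.pull (vf i))) (Cfsg.indFun D.X (D.pull (vf j))) =
        ((∑ χ, n i χ * n j χ : ℤ) : ℂ) := by
      conv_lhs => rw [hj]
      rw [classInner_sum_right]
      push_cast
      refine Finset.sum_congr rfl fun χ _ => ?_
      rw [classInner_smul_right, hn, hn, mul_comm]
      simp
    rw [← e1, frobenius_reciprocity _ _ (isClassFunction_indFun _ _), D.inner_pull,
      Finset.sum_congr rfl (g := fun x : D.X => ((vf i (D.π x) * vf j (D.π x) : ℤ) : ℂ)) fun x _ => ?_,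
      D.sum_fib (fun k => ((vf i k * vf j k : ℤ) : ℂ)), ← Int.cast_sum, gram_sum]
    · push_cast
      rw [mul_comm (48 : ℂ) D.oc, mul_inv, mul_assoc, mul_left_comm (48 : ℂ)⁻¹, ← mul_assoc,
        inv_mul_cancel₀ D.oc_ne, one_mul, inv_mul_cancel_left₀ (by norm_num)]
      rfl
    · by_cases hx : InSec (D.π x)
      · rw [D.ind_apply j hx]; simp [pull]
      · rw [bad i _ hx]; simp
  · apply Int.cast_injective (α := ℂ)
    rw [← hn, frobenius_reciprocity _ _ (isClassFunction_irr _), D.inner_pull]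
    simp only [map_one, mul_one]
    rw [D.sum_fib (fun k => (vf i k : ℂ)), ← Int.cast_sum, prin_sum]
    push_cast
    rw [← mul_assoc D.oc, mul_comm D.oc, inv_mul_cancel_left₀ h48]
    rfl
  · apply Int.cast_injective (α := ℂ)
    push_cast
    have := classFunction_expand_apply (isClassFunction_indFun D.X (D.pull (vf i))) 1
    rw [indFun_one, show D.pull (vf i) 1 = 0 by
      simp [pull, bad i 1 (by decide +kernel)], mul_zero] at this
    rw [this]
    exact Finset.sum_congr rfl fun χ _ => by rw [hn, irr_apply_one_eq_deg]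

variable {M : Ideal AlgInt} (hM : IsPModular 2 M)

include hM in
/-- Outside the principal block the special functions are orthogonal to the restriction. -/
theorem coeff_zero {χ : Cfsg.IrrCharacter G} (hχ : χ ∉ Cfsg.principalBlock M G) (i : Fin 4) :
    ∑ x : D.X, (vf i (D.π x) : ℂ) * conj ((χ : G → ℂ) x) = 0 := by
  classical
  obtain ⟨hz, h6⟩ := D.sum_center_six hM hχ
  obtain ⟨c6, hc6⟩ : ∃ c6 : ℤ, ∀ k, Ord6 k → vf i k = c6 := by
    by_cases h : ∃ k, Ord6 k
    · obtain ⟨k, hk⟩ := h; exact ⟨vf i k, fun k' hk' => vf_ord6 i k' k hk' hk⟩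
    · exact ⟨0, fun k hk => absurd ⟨k, hk⟩ h⟩
  have hpt : ∀ x : D.X, (vf i (D.π x) : ℂ) * conj ((χ : G → ℂ) x) =
      (vf i zk : ℂ) * conj (if D.π x = zk then (χ : G → ℂ) x else 0) +
      (c6 : ℂ) * conj (if Ord6 (D.π x) then (χ : G → ℂ) x else 0) +
      ∑ k ∈ Finset.univ.filter (fun k => Ord4 k ∨ Ord8 k),
        (vf i k : ℂ) * conj (if D.π x = k then (χ : G → ℂ) x else 0) := by
    intro x
    have hdisj : ∀ k, (Ord4 k ∨ Ord8 k) → k ≠ zk ∧ ¬ Ord6 k := by decide +kernel
    by_cases hs : InSec (D.π x)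
    · rcases insec_cases _ hs with h | h | h | h
      · rw [if_pos h, if_neg (fun h' => h'.2 h), h, Finset.sum_eq_zero fun k hk => ?_]
        · simp
        · rw [if_neg fun e => (hdisj k (Finset.mem_filter.1 hk).2).1 e.symm]; simp
      · rw [if_neg (hdisj _ (Or.inl h)).1, if_neg (hdisj _ (Or.inl h)).2,
          Finset.sum_eq_single (D.π x) (fun k _ hk => by rw [if_neg (Ne.symm hk)]; simp)
            (fun hn => absurd (Finset.mem_filter.2 ⟨Finset.mem_univ (D.π x), (by first | exact Or.inl h | exact Or.inr h : Ord4 (D.π x) ∨ Ord8 (D.π x))⟩) hn)]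
        simp
      · rw [if_neg h.2, if_pos h, hc6 _ h, Finset.sum_eq_zero fun k hk => ?_]
        · simp
        · rw [if_neg fun e : D.π x = k => (hdisj k (Finset.mem_filter.1 hk).2).2 (e ▸ h)]; simp
      · rw [if_neg (hdisj _ (Or.inr h)).1, if_neg (hdisj _ (Or.inr h)).2,
          Finset.sum_eq_single (D.π x) (fun k _ hk => by rw [if_neg (Ne.symm hk)]; simp)
            (fun hn => absurd (Finset.mem_filter.2 ⟨Finset.mem_univ (D.π x), (by first | exact Or.inl h | exact Or.inr h : Ord4 (D.π x) ∨ Ord8 (D.π x))⟩) hn)]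
        simp
    · have hns : ∀ k, k = zk ∨ Ord6 k ∨ Ord4 k ∨ Ord8 k → InSec k := by decide +kernel
      rw [bad i _ hs, if_neg fun e => hs (hns _ (Or.inl e)), if_neg fun e => hs (hns _ (Or.inr (Or.inl e))),
        Finset.sum_eq_zero fun k hk => ?_]
      · simp
      · rw [if_neg fun e : D.π x = k => hs (hns _ (Or.inr (Or.inr (e ▸ (Finset.mem_filter.1 hk).2))))]; simp
  rw [Finset.sum_congr rfl fun x _ => hpt x, Finset.sum_add_distrib, Finset.sum_add_distrib, ← Finset.mul_sum,
    ← Finset.mul_sum, ← map_sum, ← map_sum, hz, h6, Finset.sum_comm]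
  simp only [map_zero, mul_zero, zero_add]
  refine Finset.sum_eq_zero fun k hk => ?_
  rw [← Finset.mul_sum, ← map_sum, D.sum_ord48 hM hχ (Finset.mem_filter.1 hk).2, map_zero, mul_zero]

/-- A chosen lift. -/
noncomputable def lift (k : K48) : D.X := (D.surj k).choose

theorem π_lift (k : K48) : D.π (D.lift k) = k := (D.surj k).choose_spec

include hM in
/-- In the principal block sums over the good fibres reduce to the lifts. -/
theorem sum_good {χ : Cfsg.IrrCharacter G} (hχ : χ ∈ Cfsg.principalBlock M G) (F : K48 → ℤ)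
    (hF : ∀ k, F k ≠ 0 → k = zk ∨ Ord4 k ∨ Ord8 k) :
    ∑ x : D.X, (F (D.π x) : ℂ) * conj ((χ : G → ℂ) x) =
      D.oc * ∑ k, (F k : ℂ) * conj ((χ : G → ℂ) (D.lift k)) := by
  rw [← D.sum_fib (fun k => (F k : ℂ) * conj ((χ : G → ℂ) (D.lift k)))]
  refine Finset.sum_congr rfl fun x _ => ?_
  by_cases h : F (D.π x) = 0
  · rw [h]; simp
  · rw [D.const_fibre hM hχ (x := D.lift (D.π x)) (x' := x) (by rw [D.π_lift]; exact hF _ h) (D.π_lift _).symm]

/-- The sum in the class multiplication formula. -/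
noncomputable def tsum (x : G) : ℂ :=
  ∑ χ : Cfsg.IrrCharacter G, (χ : G → ℂ) D.z * (χ : G → ℂ) D.z * conj ((χ : G → ℂ) x) / (χ : G → ℂ) 1

theorem formula {c : D.X} (hc : InSec (D.π c)) :
    (Nat.card G : ℂ) * D.tsum c = (48 * D.oc) * (48 * D.oc) * (D.oc * (npairs (D.π c) : ℂ)) := by
  have h := class_mult_formula (G := G) D.z D.z (c : G)
  have hG0 : (Nat.card G : ℂ) ≠ 0 := Nat.cast_ne_zero.2 Nat.card_pos.ne'
  have hcard : (Nat.card {x : G // IsConj D.z x} : ℂ) * (48 * D.oc) = (Nat.card G : ℂ) := by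
    have := card_isConj_mul D.z
    rw [D.card_X] at this
    rw [oc]
    exact_mod_cast this
  rw [D.pairs hc, Nat.cast_mul, ← oc] at h
  unfold tsum
  rw [h, ← hcard]
  generalize (∑ χ : Cfsg.IrrCharacter G,
    (χ : G → ℂ) D.z * (χ : G → ℂ) D.z * conj ((χ : G → ℂ) (c : G)) / (χ : G → ℂ) 1) = T
  have hm : (Nat.card {x : G // IsConj D.z x} : ℂ) ≠ 0 := Nat.cast_ne_zero.2 (card_isConj_pos _).ne'
  have hoc := D.oc_ne
  field_simp

include hM in
/-- The congruence from the Sylow subgroup. -/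
theorem congr16 {χ : Cfsg.IrrCharacter G} (hχ : χ ∈ Cfsg.principalBlock M G) {a m : ℤ}
    (ha : (χ : G → ℂ) D.z = (a : ℂ))
    (hm : ∑ x : D.X, (cfun (D.π x) : ℂ) * conj ((χ : G → ℂ) x) = 48 * D.oc * (m : ℂ)) :
    (16 : ℤ) ∣ (deg (χ : G → ℂ) : ℤ) + 5 * a + m := by
  classical
  haveI : Fact (Nat.Prime 2) := ⟨Nat.prime_two⟩
  set Y := P16.comap D.π with hY
  have hYc : Nat.card Y = Nat.card D.π.ker * 16 := by
    rw [← card_P16, Nat.card_eq_fintype_card (α := P16), Fintype.card_subtype, ← D.card_lift (· ∈ P16)]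
    rfl
  obtain ⟨T⟩ : Nonempty (Sylow 2 Y) := inferInstance
  have hTc : Nat.card T = 16 := by
    rw [Sylow.card_eq_multiplicity, hYc, Nat.factorization_mul Nat.card_pos.ne' (by norm_num), Finsupp.add_apply,
      Nat.factorization_eq_zero_of_not_dvd (fun h => absurd h (by
        have := Nat.odd_iff.1 D.odd; omega)), zero_add,
      show (16 : ℕ) = 2 ^ 4 from rfl, Nat.Prime.factorization_pow Nat.prime_two, Finsupp.single_eq_same]
  let ψ : T →* P16 := (D.π.comp (Y.subtype.comp (T : Subgroup Y).subtype)).codRestrict P16 fun t => t.1.2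
  have hψ : Function.Injective ψ := by
    rw [injective_iff_map_eq_one]
    intro t ht
    have h1 : D.π ((t : Y) : D.X) = 1 := congrArg Subtype.val ht
    obtain ⟨j, hj⟩ := T.2 t
    have h2 : ((t : Y) : D.X) ^ 2 ^ j = 1 := by
      have := congrArg (fun t : T => ((t : Y) : D.X)) hj
      simpa using this
    refine Subtype.ext (Subtype.ext ?_)
    exact orderOf_eq_one_iff.1 (Nat.eq_one_of_dvd_coprimes ((Nat.coprime_two_right.2 (D.ker_odd h1)).pow_right j)
      dvd_rfl (orderOf_dvd_of_pow_eq_one h2))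
  haveI := Fintype.ofFinite T
  have hbij : Function.Bijective ψ := hψ.bijective_of_nat_card_le (by rw [hTc, card_P16])
  let eT : T ≃* P16 := MulEquiv.ofBijective ψ hbij
  -- the sum over the Sylow subgroup
  obtain ⟨w, hw⟩ : ∃ w : ℤ, ∑ t : T, (χ : G → ℂ) (((t : Y) : D.X) : G) = 16 * (w : ℂ) := by
    have hr : Cfsg.IsCharacter T (fun t : T => (χ : G → ℂ) (((t : Y) : D.X) : G)) :=
      IsCharacter.comp_hom (isCharacter_of_irr χ.2) (D.X.subtype.comp (Y.subtype.comp (T : Subgroup Y).subtype))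
    obtain ⟨n, hn⟩ := classInner_char_nat hr (isCharacter_one (G := T))
    refine ⟨n, ?_⟩
    rw [classInner_def, hTc, inv_mul_eq_iff_eq_mul₀ (by norm_num)] at hn
    simp only [map_one, mul_one] at hn
    rw [hn]; push_cast; rfl
  -- the values on the conjugates
  let W : K48 → ℂ := fun k =>
    if k = 1 then ((deg (χ : G → ℂ) : ℕ) : ℂ) else if Invol k then (a : ℂ) else (χ : G → ℂ) (D.lift k)
  have hval : ∀ (j : K48) (t : T),
      (χ : G → ℂ) (((t : Y) : D.X) : G) = W (j * (eT t : K48) * j⁻¹) := by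
    intro j t
    set x : D.X := ((t : Y) : D.X) with hxdef
    have hπ : (eT t : K48) = D.π x := rfl
    set y : D.X := D.lift j * x * (D.lift j)⁻¹ with hy
    have hyv : (χ : G → ℂ) (x : G) = (χ : G → ℂ) (y : G) := by
      rw [hy]; push_cast; exact (isClassFunction_irr χ _ _).symm
    have hπy : D.π y = j * (eT t : K48) * j⁻¹ := by rw [hy, map_mul, map_mul, map_inv, D.π_lift, hπ]
    rw [hyv, ← hπy]
    show (χ : G → ℂ) (y : G) = W (D.π y)
    simp only [W]
    split_ifs with h1 h2
    · rw [hπy, conj_eq_one_iff, ← OneMemClass.coe_one P16] at h1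
      have : t = 1 := eT.injective ((Subtype.ext h1).trans eT.map_one.symm)
      rw [← hyv, hxdef, this]
      exact irr_apply_one_eq_deg χ
    · rw [← ha]
      by_cases hz : D.π y = zk
      · rw [D.const_fibre hM hχ (x := D.zX) (x' := y) (Or.inl D.π_zX) (hz.trans D.π_zX.symm)]; rfl
      · exact (classFunction_eq_of_isConj (isClassFunction_irr χ) (D.isConj_refl h2 hz)).symm
    · refine D.const_fibre hM hχ ?_ (D.π_lift _).symm
      rw [D.π_lift]
      have key : ∀ p k : K48, p ∈ P16 → k * p * k⁻¹ ≠ 1 → ¬ Invol (k * p * k⁻¹) →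
          k * p * k⁻¹ = zk ∨ Ord4 (k * p * k⁻¹) ∨ Ord8 (k * p * k⁻¹) := by decide +kernel
      rw [hπy] at h1 h2 ⊢
      exact key _ j (eT t).2 h1 h2
  have hsum : (48 : ℂ) * (16 * (w : ℂ)) = ∑ k, (mcount k : ℂ) * W k := by
    rw [← hw]
    calc (48 : ℂ) * ∑ t : T, (χ : G → ℂ) (((t : Y) : D.X) : G)
        = ∑ j : K48, ∑ t : T, W (j * (eT t : K48) * j⁻¹) := by
          rw [show (∑ j : K48, ∑ t : T, W (j * (eT t : K48) * j⁻¹)) =
              ∑ _j : K48, ∑ t : T, (χ : G → ℂ) (((t : Y) : D.X) : G) from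
              Finset.sum_congr rfl fun j _ => Finset.sum_congr rfl fun t _ => (hval j t).symm, Finset.sum_const,
            Finset.card_univ, card48, nsmul_eq_mul]
          norm_num
      _ = ∑ j : K48, ∑ p ∈ Finset.univ.filter (fun p : K48 => p ∈ P16), W (j * p * j⁻¹) := by
          refine Finset.sum_congr rfl fun j _ => ?_
          rw [Finset.sum_subtype (p := (· ∈ P16)) (Finset.univ.filter fun p : K48 => p ∈ P16) (fun p => by simp)]
          exact Fintype.sum_equiv eT.toEquiv _ _ fun t => rfl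
      _ = ∑ p ∈ Finset.univ.filter (fun p : K48 × K48 => p.2 ∈ P16), W (p.1 * p.2 * p.1⁻¹) := by
          rw [Finset.sum_filter, Fintype.sum_prod_type]
          exact Finset.sum_congr rfl fun j _ => Finset.sum_filter _ _
      _ = ∑ k, (mcount k : ℂ) * W k := by
          rw [← Finset.sum_fiberwise _ (fun p : K48 × K48 => p.1 * p.2 * p.1⁻¹)]
          refine Finset.sum_congr rfl fun k _ => ?_
          rw [Finset.sum_congr rfl (g := fun _ => W k) fun p hp => by rw [(Finset.mem_filter.1 hp).2],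
            Finset.sum_const, nsmul_eq_mul, mcount, Finset.filter_filter]
  have hsplit : ∀ k, (mcount k : ℂ) * W k = (cfun k : ℂ) * (χ : G → ℂ) (D.lift k) +
      ((if k = 1 then (48 : ℂ) * ((deg (χ : G → ℂ) : ℕ) : ℂ) else 0) +
        ((if k = zk then 48 else if Invol k then 16 else 0 : ℤ) : ℂ) * (a : ℂ)) := by
    intro k
    have hm' : (mcount k : ℂ) = (cfun k : ℂ) + ((if k = 1 ∨ k = zk then 48 else if Invol k then 16 else 0 : ℤ) : ℂ) := by
      have := congrArg (Int.cast : ℤ → ℂ) (mcount_eq k)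
      push_cast at this ⊢
      exact this
    simp only [W]
    rw [hm']
    by_cases h1 : k = 1
    · subst h1
      rw [(by decide +kernel : cfun 1 = 0), if_pos rfl, if_pos (Or.inl rfl), if_pos rfl,
        if_neg (by decide +kernel : (1 : K48) ≠ zk), if_neg (by decide +kernel : ¬ Invol (1 : K48))]
      push_cast; ring
    · have hdis : ∀ k, Invol k → cfun k = 0 := by decide +kernel
      have hor : (k = 1 ∨ k = zk) ↔ k = zk := or_iff_right h1
      rw [if_neg h1, if_neg h1]
      simp only [hor]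
      by_cases h2 : Invol k
      · rw [if_pos h2, if_pos h2, hdis k h2]; push_cast; ring
      · rw [if_neg h2]
        have hz : k ≠ zk := fun e => h2 (e ▸ by decide +kernel)
        rw [if_neg hz, if_neg h2]; push_cast; ring
  rw [Finset.sum_congr rfl fun k _ => hsplit k, Finset.sum_add_distrib, Finset.sum_add_distrib, ← Finset.sum_mul,
    Finset.sum_ite_eq' _ (1 : K48), if_pos (Finset.mem_univ _), ← Int.cast_sum, sum_refl] at hsum
  rw [D.sum_good hM hχ cfun (fun k hk => Or.inr (cfun_supp k hk))] at hm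
  have hm2 := congrArg conj hm
  simp only [map_mul, map_sum, Complex.conj_conj, map_intCast, map_ofNat, oc, map_natCast] at hm2
  have hm3 : ∑ k, (cfun k : ℂ) * (χ : G → ℂ) (D.lift k) = 48 * (m : ℂ) := by
    refine mul_left_cancel₀ D.oc_ne ?_
    rw [oc]
    linear_combination hm2
  rw [hm3] at hsum
  refine ⟨w, ?_⟩
  apply Int.cast_injective (α := ℂ)
  push_cast at hsum ⊢
  linear_combination (-(1 / 48 : ℂ)) * hsum

include hM in
theorem center_val {χ : Cfsg.IrrCharacter G} (hχ : χ ∈ Cfsg.principalBlock M G) {m : ℤ}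
    (h : ∑ x : D.X, ((3 * vf 0 (D.π x) + vf 1 (D.π x) - 2 * vf 3 (D.π x) : ℤ) : ℂ) * conj ((χ : G → ℂ) x) =
      48 * D.oc * (m : ℂ)) : (χ : G → ℂ) D.z = (m : ℂ) := by
  rw [D.sum_good hM hχ (fun k => 3 * vf 0 k + vf 1 k - 2 * vf 3 k) (fun k hk => Or.inl (by
    by_contra hne; exact hk (by rw [ind_center, if_neg hne])))] at h
  rw [Finset.sum_eq_single zk (fun k _ hk => by rw [ind_center, if_neg hk]; simp)
    (fun hn => absurd (Finset.mem_univ _) hn), ind_center, if_pos rfl,
    D.const_fibre hM hχ (x := D.zX) (x' := D.lift zk) (Or.inl D.π_zX) ((D.π_lift _).trans D.π_zX.symm)] at h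
  have h2 : conj ((χ : G → ℂ) D.z) = (m : ℂ) := by
    refine mul_left_cancel₀ (mul_ne_zero (a := (48 : ℂ)) (by norm_num) D.oc_ne) ?_
    show _ = _
    rw [← h]
    show _ = D.oc * (((48 : ℤ) : ℂ) * conj ((χ : G → ℂ) D.z))
    push_cast; ring
  rw [← Complex.conj_conj ((χ : G → ℂ) D.z), h2, map_intCast]

end CoreSetup

end Cfsg.Lib.SubdegThree
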