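import Cfsg.Agent.SubdegThree.SdChars

/-!
The decomposition of the exceptional characters in the extended situation.
-/

set_option autoImplicit false
set_option linter.unusedSectionVars false
set_option linter.style.haveILetI false
set_option maxRecDepth 8000

namespace Cfsg.Lib.SubdegThree

open Subgroup Cfsg.Lib.Chars Cfsg.Lib.GramSplit Cfsg.Lib.GLTwoThree Cfsg.Lib.Order9
open scoped ComplexConjugate

universe u

variable {G : Type u} [Group G] [Fintype G]

namespace CoreSetup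

variable (D : CoreSetup G)

set_option maxHeartbeats 1000000 in
theorem decomp : ∃ (sol : List Row) (L : List (Row × ℤ)), sol ∈ sols ∧ L.map Prod.fst = sol ∧
    (∀ i : Fin 4, prin i + (L.map fun p => ent p.1 i * p.2).sum = 0) ∧
    (∀ i : Fin 4, (Nat.card G : ℚ) * ((prin i : ℚ) +
        (L.map fun p => ((evz p.1 * evz p.1 * ent p.1 i : ℤ) : ℚ) / (p.2 : ℚ)).sum) =
      48 * (Nat.card D.π.ker : ℚ) ^ 3 * ((∑ k, vf i k * (npairs k : ℤ) : ℤ) : ℚ)) ∧
    ∀ p ∈ L, p.2 ≠ 0 ∧
      (16 : ℤ) ∣ p.2 + 5 * evz p.1 - 2 * ent p.1 0 + 2 * ent p.1 1 - 4 * ent p.1 2 ∧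
      ∃ (χ : Cfsg.IrrCharacter G) (σ : ℤ), σ * σ = 1 ∧ p.2 = σ * deg (χ : G → ℂ) ∧
        (χ : G → ℂ) D.z = ((σ * evz p.1 : ℤ) : ℂ) ∧
        ∀ x x' : D.X, D.π x = zk ∨ Ord4 (D.π x) ∨ Ord8 (D.π x) → D.π x' = D.π x →
          (χ : G → ℂ) x' = (χ : G → ℂ) x := by
  classical
  haveI : Fintype D.X := Fintype.ofFinite _
  obtain ⟨M, hM⟩ := Cfsg.Lib.Blocks.exists_isPModular Nat.prime_two
  obtain ⟨n, hn, hgram, hprin, hdeg⟩ := D.exists_mults
  let o : Cfsg.IrrCharacter G := ⟨_, isIrrCharacter_one⟩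
  let n' : ℕ → Cfsg.IrrCharacter G → ℤ := fun i x => if h : i < 4 then n ⟨i, h⟩ x else 0
  have hn' : ∀ (i : Fin 4) x, n' i x = n i x := fun i x => by simp [n', i.2]
  obtain ⟨L', hnd, hLs, hrest, sol, hsol, hp⟩ := sound sols n' (by simp) cert gram [] [] check_cert (Finset.univ.erase o)
    (fun i hi j hj => by
      have e := hgram ⟨i, hi⟩ ⟨j, hj⟩
      rw [← Finset.add_sum_erase _ _ (Finset.mem_univ o)] at e
      simp only [n', hi, hj, dite_true]
      simp only [o, hprin] at e ⊢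
      linarith only [e])
    (fun x _ => List.not_mem_nil)
  obtain ⟨L, hL, hmap⟩ := exists_perm_map (fun x => nrm (col 4 n' x)) (by simpa using hp)
  have hsgn : ∀ x, ∃ σ : ℤ, σ * σ = 1 ∧ ∀ i : Fin 4, n i x = σ * ent (nrm (col 4 n' x)) i := by
    intro x
    refine ⟨if nrm (col 4 n' x) = col 4 n' x then 1 else -1, by split_ifs <;> rfl, fun i => ?_⟩
    have hc' : ent (col 4 n' x) i = n i x := by rw [ent_col i.2, hn']
    split_ifs with he
    · rw [he, hc', one_mul]
    · rw [(nrm_sign _).resolve_left he]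
      have e : ent ((col 4 n' x).map Neg.neg) i = -ent (col 4 n' x) i := by
        simp [ent, col, List.getD_eq_getElem?_getD, i.2]
      rw [e, hc']; ring
  choose sg hsg hrow using hsgn
  have hnd' : L.Nodup := hL.nodup_iff.2 hnd
  have hoL : o ∉ L := fun hm => (Finset.mem_erase.1 (hLs o (hL.mem_iff.1 hm))).1 rfl
  have hzero : ∀ x, x ≠ o → x ∉ L → ∀ i : Fin 4, n i x = 0 := fun x hx hxL i => by
    have := hrest x (Finset.mem_erase.2 ⟨hx, Finset.mem_univ _⟩) (fun hm => hxL (hL.mem_iff.2 hm)) i i.2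
    rwa [hn'] at this
  have split : ∀ {M : Type} [AddCommMonoid M] (f : Cfsg.IrrCharacter G → M),
      (∀ x, (∀ i, n i x = 0) → f x = 0) → ∑ x, f x = f o + (L.map f).sum := by
    intro M _ f hf
    rw [← List.sum_toFinset _ hnd',
      ← Finset.sum_subset (Finset.subset_univ (insert o L.toFinset)) fun x _ hx => ?_]
    · rw [Finset.sum_insert (by simpa using hoL)]
    · simp only [Finset.mem_insert, List.mem_toFinset, not_or] at hx
      exact hf x (hzero x hx.1 hx.2)
  have hcomb : ∀ (x : Cfsg.IrrCharacter G) (a b c e : ℤ),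
      ∑ g : D.X, ((a * vf 0 (D.π g) + b * vf 1 (D.π g) + c * vf 2 (D.π g) + e * vf 3 (D.π g) : ℤ) : ℂ) *
          conj ((x : G → ℂ) g) =
        48 * D.oc * ((a * n 0 x + b * n 1 x + c * n 2 x + e * n 3 x : ℤ) : ℂ) := by
    intro x a b c e
    push_cast
    simp only [add_mul, Finset.sum_add_distrib, mul_assoc, ← Finset.mul_sum, hn]
    ring
  have hB0 : ∀ x : Cfsg.IrrCharacter G, (∃ i, n i x ≠ 0) → x ∈ Cfsg.principalBlock M G := by
    rintro x ⟨i, hi⟩
    by_contra hx
    have h := hn i x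
    rw [D.coeff_zero hM hx i, eq_comm, mul_eq_zero] at h
    rcases h with h | h
    · exact mul_ne_zero (by norm_num) D.oc_ne h
    · exact hi (by exact_mod_cast h)
  have hcen : ∀ x : Cfsg.IrrCharacter G, (∃ i, n i x ≠ 0) →
      (x : G → ℂ) D.z = ((3 * n 0 x + n 1 x - 2 * n 3 x : ℤ) : ℂ) := fun x hx => by
    refine D.center_val hM (hB0 x hx) ?_
    rw [show (3 * n 0 x + n 1 x - 2 * n 3 x : ℤ) = 3 * n 0 x + 1 * n 1 x + 0 * n 2 x + -2 * n 3 x by ring,
      ← hcomb]
    refine Finset.sum_congr rfl fun g _ => ?_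
    congr 2
    ring
  have hLne : ∀ x ∈ L, ∃ i, n i x ≠ 0 := by
    intro x hx
    by_contra hne
    push Not at hne
    have hz : ∀ i : Fin 4, ent (nrm (col 4 n' x)) i = 0 := fun i => by
      have h := hrow x i
      rw [hne i] at h
      exact (mul_eq_zero.1 h.symm).resolve_left fun e => by simpa [e] using hsg x
    have hmem : nrm (col 4 n' x) ∈ sol := hmap ▸ List.mem_map_of_mem (f := fun x => nrm (col 4 n' x)) hx
    obtain ⟨i, hi⟩ := (by decide +kernel : ∀ s ∈ sols, ∀ r ∈ s, ∃ i : Fin 4, ent r i ≠ 0) sol hsol _ hmem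
    exact hi (hz i)
  have hevz : ∀ x, (3 * n 0 x + n 1 x - 2 * n 3 x : ℤ) = sg x * evz (nrm (col 4 n' x)) := fun x => by
    rw [hrow x 0, hrow x 1, hrow x 3, evz]
    show _ = sg x * (3 * ent (nrm (col 4 n' x)) ((0 : Fin 4) : ℕ) + ent (nrm (col 4 n' x)) ((1 : Fin 4) : ℕ)
      - 2 * ent (nrm (col 4 n' x)) ((3 : Fin 4) : ℕ))
    ring
  refine ⟨sol, L.map fun x => (nrm (col 4 n' x), sg x * deg (x : G → ℂ)), hsol, ?_, fun i => ?_, fun i => ?_, ?_⟩
  · rw [List.map_map]; exact hmap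
  · have h1 : (deg (o : G → ℂ) : ℤ) = 1 := by
      have := irr_apply_one_eq_deg o
      have h1 : (deg (o : G → ℂ) : ℂ) = 1 := this.symm.trans rfl
      exact_mod_cast h1
    have := hdeg i
    rw [split (fun x => n i x * (deg (x : G → ℂ) : ℤ)) (fun x hx => by simp [hx i]), hprin, h1, mul_one] at this
    rw [← this, List.map_map]
    refine congrArg (fun t => prin i + List.sum t) (List.map_congr_left fun x _ => ?_)
    rw [Function.comp_apply, hrow x i]; ring
  · apply Rat.cast_injective (α := ℂ)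
    have h1 : ∑ g : D.X, (vf i (D.π g) : ℂ) * ((Nat.card G : ℂ) * D.tsum g) =
        (48 * D.oc) * (48 * D.oc) * (D.oc * D.oc) * ((∑ k, vf i k * (npairs k : ℤ) : ℤ) : ℂ) := by
      rw [Finset.sum_congr rfl (g := fun g : D.X =>
        (48 * D.oc) * (48 * D.oc) * D.oc * (((vf i (D.π g) * (npairs (D.π g) : ℤ) : ℤ)) : ℂ)) fun g _ => ?_,
        ← Finset.mul_sum, D.sum_fib (fun k => ((vf i k * (npairs k : ℤ) : ℤ) : ℂ)), ← Int.cast_sum]
      · ring
      · by_cases hk : InSec (D.π g)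
        · rw [D.formula hk]; push_cast; ring
        · rw [bad i _ hk]; simp
    have h2 : ∑ g : D.X, (vf i (D.π g) : ℂ) * D.tsum g = 48 * D.oc * ∑ χ : Cfsg.IrrCharacter G,
        (χ : G → ℂ) D.z * (χ : G → ℂ) D.z * (n i χ : ℂ) / (χ : G → ℂ) 1 := by
      simp only [tsum, Finset.mul_sum]
      rw [Finset.sum_comm]
      refine Finset.sum_congr rfl fun χ _ => ?_
      rw [show 48 * D.oc * ((χ : G → ℂ) D.z * (χ : G → ℂ) D.z * (n i χ : ℂ) / (χ : G → ℂ) 1) =
        (χ : G → ℂ) D.z * (χ : G → ℂ) D.z / (χ : G → ℂ) 1 * (48 * D.oc * (n i χ : ℂ)) by ring, ← hn,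
        Finset.mul_sum]
      exact Finset.sum_congr rfl fun k _ => by ring
    rw [Finset.sum_congr rfl (g := fun g : D.X => (Nat.card G : ℂ) * ((vf i (D.π g) : ℂ) * D.tsum g))
        fun k _ => by ring, ← Finset.mul_sum, h2, split _ (fun x hx => by simp [hx i])] at h1
    have hsum : (L.map fun x : Cfsg.IrrCharacter G =>
        (x : G → ℂ) D.z * (x : G → ℂ) D.z * (n i x : ℂ) / (x : G → ℂ) 1) =
        L.map fun x => (((evz (nrm (col 4 n' x)) * evz (nrm (col 4 n' x)) * ent (nrm (col 4 n' x)) i : ℤ) : ℂ) /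
          ((sg x * deg (x : G → ℂ) : ℤ) : ℂ)) := by
      refine List.map_congr_left fun x hx => ?_
      rw [hcen x (hLne x hx), hevz, hrow x i, irr_apply_one_eq_deg]
      rcases mul_self_eq_one_iff.1 (hsg x) with r | r <;> rw [r] <;> push_cast <;> ring
    rw [hsum] at h1
    simp only [o, hprin] at h1
    push_cast
    rw [List.map_map]
    simp only [Function.comp_def]
    simp only [one_mul, div_one] at h1
    push_cast at h1 ⊢
    simp only [List.map_map, Function.comp_def, Int.cast_mul, Int.cast_natCast] at h1 ⊢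
    refine mul_left_cancel₀ (mul_ne_zero (a := (48 : ℂ)) (by norm_num) D.oc_ne) ?_
    rw [oc] at h1 ⊢
    linear_combination h1
  · intro p hp'
    obtain ⟨x, hx, rfl⟩ := List.mem_map.1 hp'
    have hxB := hB0 x (hLne x hx)
    have hxz := hcen x (hLne x hx)
    rw [hevz] at hxz
    refine ⟨mul_ne_zero (fun e => by have := hsg x; rw [e] at this; simp at this)
      (Int.natCast_ne_zero.2 (deg_irr_pos x).ne'), ?_, x, sg x, hsg x, rfl, hxz, fun y y' hy he => D.const_fibre hM hxB hy he⟩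
    have h16 := D.congr16 hM hxB hxz (m := -2 * n 0 x + 2 * n 1 x + 12 * n 2 x) (by
      rw [show (-2 * n 0 x + 2 * n 1 x + 12 * n 2 x : ℤ) = -2 * n 0 x + 2 * n 1 x + 12 * n 2 x + 0 * n 3 x by ring,
        ← hcomb]
      refine Finset.sum_congr rfl fun g _ => ?_
      congr 2
      rw [cfun]; ring)
    rw [hrow x 0, hrow x 1, hrow x 2] at h16
    simp only [Fin.val_zero, Fin.val_one, Fin.val_two] at h16 ⊢
    rcases mul_self_eq_one_iff.1 (hsg x) with r | r <;> rw [r] at h16 ⊢ <;> omega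

end CoreSetup

end Cfsg.Lib.SubdegThree
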