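import Cfsg.Agent.SubdegThree.SdDecomp
import Cfsg.Agent.TwoFusion.GLTwoThree.Order

/-!
A small character of the extended situation, and the triviality of the core.
-/

set_option autoImplicit false
set_option linter.unusedSectionVars false
set_option linter.style.haveILetI false
set_option maxRecDepth 8000

namespace Cfsg.Lib.SubdegThree

open Subgroup Cfsg.Lib.Chars Cfsg.Lib.GramSplit Cfsg.Lib.GLTwoThree Cfsg.Lib.Order9
open scoped ComplexConjugate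

universe u

variable {G : Type u} [Group G] [Fintype G]

theorem tag_eq {σ n d : ℤ} (hσ : σ * σ = 1) (h : n = σ * d) (hd : 0 < d) :
    (0 < n → σ = 1 ∧ d = n) ∧ (n < 0 → σ = -1 ∧ d = -n) := by
  rcases mul_self_eq_one_iff.1 hσ with r | r <;> subst r <;> omega

namespace CoreSetup

variable (D : CoreSetup G)

/-- A character of degree ten or thirteen with negative value at the involution. -/
theorem exists_small : ∃ (χ : Cfsg.IrrCharacter G) (a : ℤ), (χ : G → ℂ) D.z = (a : ℂ) ∧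
    ((deg (χ : G → ℂ) = 13 ∧ a = -3) ∨ (deg (χ : G → ℂ) = 10 ∧ a = -2)) ∧
    ∀ x x' : D.X, D.π x = zk ∨ Ord4 (D.π x) ∨ Ord8 (D.π x) → D.π x' = D.π x →
      (χ : G → ℂ) x' = (χ : G → ℂ) x := by
  classical
  obtain ⟨sol, L, hsol, hL, hdeg, hsum, hmem⟩ := D.decomp
  have hG : (0 : ℚ) < (Nat.card G : ℚ) := by exact_mod_cast Nat.card_pos
  have E0 := hsum 0
  have E2 := hsum 2
  have E3 := hsum 3
  rw [GLTwoThree.sum_npairs.1] at E0
  rw [GLTwoThree.sum_npairs.2] at E2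
  rw [sum_npairs3] at E3
  have key : (prin 0 : ℚ) + (L.map fun p => ((evz p.1 * evz p.1 * ent p.1 0 : ℤ) : ℚ) / (p.2 : ℚ)).sum =
      2 * ((prin 2 : ℚ) + (L.map fun p => ((evz p.1 * evz p.1 * ent p.1 2 : ℤ) : ℚ) / (p.2 : ℚ)).sum) :=
    mul_left_cancel₀ hG.ne' (by push_cast at E0 E2 ⊢; simp only [Fin.val_zero, Fin.val_two] at E0 E2; linarith)
  have key3 : (prin 3 : ℚ) + (L.map fun p => ((evz p.1 * evz p.1 * ent p.1 3 : ℤ) : ℚ) / (p.2 : ℚ)).sum =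
      (prin 2 : ℚ) + (L.map fun p => ((evz p.1 * evz p.1 * ent p.1 2 : ℤ) : ℚ) / (p.2 : ℚ)).sum := by
    refine mul_left_cancel₀ hG.ne' ?_
    have e3 : ((3 : Fin 4) : ℕ) = 3 := rfl
    push_cast at E2 E3 ⊢
    simp only [Fin.val_two, e3] at E2 E3
    linarith
  have hd0 := hdeg 0
  have hd2 := hdeg 2
  have hd3 := hdeg 3
  simp only [sols, List.mem_cons, List.not_mem_nil, or_false] at hsol
  rcases hsol with rfl | rfl | rfl | rfl <;> simp only [List.map_eq_cons_iff, List.map_eq_nil_iff] at hL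
  · obtain ⟨⟨_, y0⟩, _, rfl, rfl, ⟨_, y1⟩, _, rfl, rfl, ⟨_, y2⟩, _, rfl, rfl, ⟨_, A⟩, _, rfl, rfl,
      ⟨_, B⟩, _, rfl, rfl, ⟨_, C⟩, _, rfl, rfl, ⟨_, Dd⟩, _, rfl, rfl, ⟨_, E⟩, _, rfl, rfl, rfl⟩ := hL
    simp only [List.forall_mem_cons] at hmem
    obtain ⟨-, -, -, ⟨-, cA, -⟩, ⟨-, cB, -⟩, -, ⟨-, cD, -⟩, ⟨-, cE, -⟩, -⟩ := hmem
    simp [evz, ent, prin] at cA cB cD cE key hd0 hd2
    obtain rfl : Dd = -(1 + E) := by omega
    exfalso
    push_cast [div_neg] at key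
    exact arith_zero (B := B) (E := E) (by omega) (by omega) (by linear_combination key)
  · obtain ⟨⟨_, y0⟩, _, rfl, rfl, ⟨_, y1⟩, _, rfl, rfl, ⟨_, y2⟩, _, rfl, rfl, ⟨_, C⟩, _, rfl, rfl,
      ⟨_, F⟩, _, rfl, rfl, ⟨_, G'⟩, _, rfl, rfl, ⟨_, H⟩, _, rfl, rfl, rfl⟩ := hL
    simp only [List.forall_mem_cons] at hmem
    obtain ⟨-, -, -, -, -, -, ⟨hH, -⟩, -⟩ := hmem
    simp [ent, prin] at hd0 hd2 hH
    omega
  · obtain ⟨⟨_, y0⟩, _, rfl, rfl, ⟨_, y1⟩, _, rfl, rfl, ⟨_, A⟩, _, rfl, rfl, ⟨_, B⟩, _, rfl, rfl,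
      ⟨_, C⟩, _, rfl, rfl, ⟨_, Dd⟩, _, rfl, rfl, ⟨_, E⟩, _, rfl, rfl, rfl⟩ := hL
    simp only [List.forall_mem_cons] at hmem
    obtain ⟨⟨hy0, -, χ0, σ0, hσ0, hχ0, hz0, hc0⟩, ⟨hy1, -, -⟩, ⟨-, cA, -⟩, ⟨-, cB, -⟩, -,
      ⟨-, cD, χD, σD, hσD, hχD, hzD, hcD⟩, ⟨-, cE, -⟩, -⟩ := hmem
    simp [evz, ent, prin, -Nat.card_eq_fintype_card] at cA cB cD cE key key3 hd0 hd2 hd3 hy0 hy1 hz0 hzD
    obtain rfl : Dd = -(1 + E) := by omega
    obtain rfl : B = A + 1 := by omega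
    push_cast [div_neg] at key key3
    obtain ⟨-, hE12⟩ := recip_cases (E := E) (by omega)
    rcases arith_two (A := A) (E := E) (by omega) (by omega) (by linear_combination key) with rfl | rfl
    · refine ⟨χ0, -2 * σ0, by rw [hz0]; push_cast; ring, Or.inr ?_, hc0⟩
      have hsum2 : y0 + y1 = 20 := by omega
      obtain rfl : y1 = 20 - y0 := by omega
      have h0 : (y0 : ℚ) ≠ 0 := Int.cast_ne_zero.2 hy0
      have h1 : ((20 - y0 : ℤ) : ℚ) ≠ 0 := Int.cast_ne_zero.2 hy1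
      norm_num at key3
      push_cast at h1
      field_simp at key3
      have h10 : (y0 : ℚ) = 10 := by nlinarith [sq_nonneg ((y0 : ℚ) - 10)]
      have h10' : y0 = 10 := by exact_mod_cast h10
      obtain ⟨hs, hd⟩ := (tag_eq hσ0 hχ0 (by exact_mod_cast deg_irr_pos χ0)).1 (by omega)
      exact ⟨by omega, by omega⟩
    · have h12 : E = 12 := hE12.resolve_left fun h => by norm_num at key; linarith
      refine ⟨χD, 3 * σD, by rw [hzD]; push_cast; ring, Or.inl ?_, hcD⟩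
      obtain ⟨hs, hd⟩ := (tag_eq hσD hχD (by exact_mod_cast deg_irr_pos χD)).2 (by omega)
      exact ⟨by omega, by omega⟩
  · obtain ⟨⟨_, y0⟩, _, rfl, rfl, ⟨_, y1⟩, _, rfl, rfl, ⟨_, A⟩, _, rfl, rfl, ⟨_, B⟩, _, rfl, rfl,
      ⟨_, C⟩, _, rfl, rfl, ⟨_, Dd⟩, _, rfl, rfl, ⟨_, E⟩, _, rfl, rfl, rfl⟩ := hL
    simp only [List.forall_mem_cons] at hmem
    obtain ⟨-, -, -, ⟨-, cB, -⟩, -, ⟨-, cD, -⟩, ⟨-, cE, -⟩, -⟩ := hmem
    simp [evz, ent, prin] at cB cD cE key hd0 hd2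
    obtain rfl : Dd = -(1 + E) := by omega
    exfalso
    push_cast [div_neg] at key
    exact arith_three (B := B) (H := E) (by omega) (by omega) (by linear_combination key)

end CoreSetup

end Cfsg.Lib.SubdegThree
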