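import Cfsg.Agent.SubdegThree.SymFour
import Cfsg.Agent.S0514
import Cfsg.Agent.S0111
import Cfsg.Agent.Coprime.Generation
import Cfsg.Agent.Components.Cores

/-!
A simple group with dihedral Sylow two-subgroups and a subgroup `S₄` with trivial invariant odd subgroups:
the centraliser of the central involution.
-/

set_option autoImplicit false
set_option linter.style.haveILetI false
set_option linter.unusedSectionVars false

namespace Cfsg.Lib.SubdegThree

open Subgroup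

universe u

/-- The situation. -/
structure DihSit (G : Type u) [Group G] [Finite G] extends Sym4 G where
  simple : IsSimpleGroup G
  la : ∀ R : Subgroup G, Odd (Nat.card R) → ι.range ≤ normalizer (R : Set G) → R = ⊥
  S : Sylow 2 G
  hPS : toSym4.P ≤ (S : Subgroup G)
  c : G
  m : ℕ
  hm : 8 ≤ m
  hm2 : ∃ k, m = 2 ^ k
  hcS : c ∈ (S : Subgroup G)
  hord : orderOf c = m
  hdih : Nonempty ((S : Subgroup G) ≃* DihedralGroup m)
  hinv : toSym4.t * c * toSym4.t⁻¹ = c⁻¹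
  hgen : ∀ x ∈ (S : Subgroup G), ∃ i : ℕ, x = c ^ i ∨ x = c ^ i * toSym4.t
  O : Subgroup G
  hOle : ∀ x ∈ O, x * toSym4.z = toSym4.z * x
  hOodd : Odd (Nat.card O)
  hOmem : ∀ x, x * toSym4.z = toSym4.z * x → Odd (orderOf x) → x ∈ O
  hCdec : ∀ x, x * toSym4.z = toSym4.z * x → ∃ o ∈ O, ∃ s ∈ (S : Subgroup G), x = o * s

variable {G : Type u} [Group G] [Finite G]

theorem odd_orderOf_of_mem {R : Subgroup G} (hR : Odd (Nat.card R)) {x : G} (hx : x ∈ R) : Odd (orderOf x) := by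
  rw [← Subgroup.orderOf_mk x hx]
  exact hR.of_dvd_nat (orderOf_dvd_natCard _)

theorem eq_one_of_odd_of_two {x : G} (h : Odd (orderOf x)) (h2 : x * x = 1) : x = 1 := by
  have hd : orderOf x ∣ 2 := orderOf_dvd_of_pow_eq_one (by rw [pow_two, h2])
  rcases (Nat.dvd_prime Nat.prime_two).1 hd with e | e
  · exact orderOf_eq_one_iff.1 e
  · rw [e] at h; exact absurd h (by decide)

/-- The dihedral situation exists. -/
theorem Sym4.exists_dihSit (D : Sym4 G) (hsimple : IsSimpleGroup G)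
    (hla : ∀ R : Subgroup G, Odd (Nat.card R) → D.ι.range ≤ normalizer (R : Set G) → R = ⊥)
    (S : Sylow 2 G) (hPS : D.P ≤ (S : Subgroup G)) (h16 : 16 ≤ Nat.card (S : Subgroup G)) (n : ℕ)
    (eS : (S : Subgroup G) ≃* DihedralGroup n) : ∃ T : DihSit G, T.toSym4 = D := by
  classical
  haveI : Fact (Nat.Prime 2) := ⟨Nat.prime_two⟩
  have hcard : Nat.card (S : Subgroup G) = 2 * n := by rw [Nat.card_congr eS.toEquiv, DihedralGroup.nat_card]
  haveI : NeZero n := ⟨by omega⟩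
  set c : G := (eS.symm (DihedralGroup.r 1) : G) with hc
  have hcS : c ∈ (S : Subgroup G) := (eS.symm _).2
  have hord : orderOf c = n := by rw [hc, Subgroup.orderOf_coe, MulEquiv.orderOf_eq, DihedralGroup.orderOf_r_one]
  have hpow : ∀ j : ZMod n, (eS.symm (DihedralGroup.r j) : G) = c ^ j.val := by
    intro j
    rw [hc, ← Subgroup.coe_pow, ← map_pow, DihedralGroup.r_one_pow, ZMod.natCast_zmod_val]
  obtain ⟨j, hj⟩ : ∃ j, eS ⟨D.t, hPS D.t_mem_P⟩ = DihedralGroup.sr j := by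
    rcases hq : eS ⟨D.t, hPS D.t_mem_P⟩ with j | j
    · exfalso
      have ht : D.t = c ^ j.val := by rw [← hpow, ← hq, eS.symm_apply_apply]
      have h4 := D.cent_t S.2 hPS hcS (by rw [ht]; exact (Commute.self_pow c _).eq)
      have hsq : c ^ 2 = 1 := by
        rw [pow_two]
        rcases h4 with h | h | h | h <;> rw [h]
        exacts [one_mul 1, D.z_sq, D.t_sq, by
          rw [show D.z * D.t * (D.z * D.t) = D.z * (D.t * D.z) * D.t by group, D.t_z, mul_assoc, mul_assoc, D.t_sq,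
            mul_one, D.z_sq]]
      have := Nat.le_of_dvd two_pos (hord ▸ orderOf_dvd_of_pow_eq_one hsq)
      omega
    · exact ⟨j, rfl⟩
  have ht : (eS.symm (DihedralGroup.sr j) : G) = D.t := by rw [← hj, eS.symm_apply_apply]
  have hinv : D.t * c * D.t⁻¹ = c⁻¹ := by
    rw [← ht, hc, ← Subgroup.coe_inv, ← Subgroup.coe_mul, ← Subgroup.coe_mul, ← map_inv, ← map_mul, ← map_mul,
      ← Subgroup.coe_inv, ← map_inv]
    congr 2
    simp [sub_eq_add_neg, add_comm]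
  have hgen : ∀ x ∈ (S : Subgroup G), ∃ i : ℕ, x = c ^ i ∨ x = c ^ i * D.t := by
    intro x hx
    rcases hq : eS ⟨x, hx⟩ with i | i
    · exact ⟨i.val, Or.inl (by rw [← hpow, ← hq, eS.symm_apply_apply])⟩
    · refine ⟨(j - i).val, Or.inr ?_⟩
      rw [← hpow, ← ht, ← Subgroup.coe_mul, ← map_mul, DihedralGroup.r_mul_sr, sub_sub_cancel, ← hq,
        eS.symm_apply_apply]
  obtain ⟨k, hk⟩ : ∃ k, n = 2 ^ k := by
    obtain ⟨k, hk⟩ := S.2.exists_card_eq
    rcases k with _ | k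
    · rw [hk] at h16; omega
    · exact ⟨k, by rw [hcard, pow_succ] at hk; omega⟩
  set C := centralizer ({D.z} : Set G) with hC
  obtain ⟨N, hN, hNodd, l, hl⟩ := Cfsg.Agent.S0514.result S n (by omega) ⟨eS⟩ D.z D.order_z
  haveI := hN
  have hSC : (S : Subgroup G) ≤ C := fun x hx => mem_centralizer_singleton_iff.2 (D.z_central S.2 hPS hx)
  let S' : Sylow 2 C := S.subtype hSC
  have hS' : (S' : Subgroup C) = (S : Subgroup G).subgroupOf C := Sylow.coe_subtype _ _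
  have hScard : Nat.card (S' : Subgroup C) = Nat.card (S : Subgroup G) := by
    rw [hS', Nat.card_congr (subgroupOfEquivOfLe hSC).toEquiv]
  have hodd_mem : ∀ x : C, Odd (orderOf x) → x ∈ N := by
    intro x hx
    have h1 : orderOf (x : C ⧸ N) ∣ 2 ^ l := by
      rw [← hl, Subgroup.index_eq_card]; exact orderOf_dvd_natCard _
    have h2 : orderOf (x : C ⧸ N) ∣ orderOf x := orderOf_map_dvd (QuotientGroup.mk' N) x
    exact (QuotientGroup.eq_one_iff x).1 (orderOf_eq_one_iff.1 (Nat.eq_one_of_dvd_coprimes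
      ((Nat.coprime_two_right.2 hx).pow_right l) h2 h1))
  have hcomp : IsComplement' N (S' : Subgroup C) := by
    have hcop : Nat.Coprime (Nat.card N) (Nat.card (S' : Subgroup C)) := by
      obtain ⟨r, hr⟩ := S'.2.exists_card_eq
      rw [hr]
      exact (Nat.coprime_two_right.2 hNodd).pow_right r
    refine Subgroup.isComplement'_of_coprime ?_ hcop
    have h1 := N.card_mul_index
    have h2 := (S' : Subgroup C).card_mul_index
    have h3 : Nat.card (S' : Subgroup C) ∣ 2 ^ l := by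
      rw [← hl]
      exact hcop.symm.dvd_of_dvd_mul_left (by rw [h1]; exact card_subgroup_dvd_card _)
    have h4 : 2 ^ l ∣ Nat.card (S' : Subgroup C) := by
      have hnd : (2 ^ l).Coprime (S' : Subgroup C).index :=
        ((Nat.prime_two.coprime_iff_not_dvd).2 S'.not_dvd_index).pow_left l
      exact hnd.dvd_of_dvd_mul_right (by rw [h2, ← h1, hl]; exact dvd_mul_left _ _)
    rw [Nat.dvd_antisymm h3 h4, ← hl]
    exact h1
  exact ⟨{ D with
    simple := hsimple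
    la := hla
    S := S
    hPS := hPS
    c := c
    m := n
    hm := by omega
    hm2 := ⟨k, hk⟩
    hcS := hcS
    hord := hord
    hdih := ⟨eS⟩
    hinv := hinv
    hgen := hgen
    O := N.map C.subtype
    hOle := fun x hx => mem_centralizer_singleton_iff.1 (map_subtype_le _ hx)
    hOodd := by rwa [← Nat.card_congr (equivMapOfInjective _ _ C.subtype_injective).toEquiv]
    hOmem := fun x hx ho => ⟨⟨x, mem_centralizer_singleton_iff.2 hx⟩,
      hodd_mem _ (by rw [← Subgroup.orderOf_coe]; exact ho), rfl⟩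
    hCdec := fun x hx => by
      obtain ⟨⟨⟨a, ha⟩, ⟨b, hb⟩⟩, hab⟩ := hcomp.2 ⟨x, mem_centralizer_singleton_iff.2 hx⟩
      rw [SetLike.mem_coe, hS', mem_subgroupOf] at hb
      exact ⟨a, ⟨a, ha, rfl⟩, b, hb, (congrArg Subtype.val hab).symm⟩ }, rfl⟩

namespace Sym4

variable (D : Sym4 G)

/-- The four-group as a subgroup. -/
def V : Subgroup G where
  carrier := {x | ∃ k, InV k ∧ D.ι k = x}
  one_mem' := ⟨1, Or.inl rfl, map_one _⟩
  mul_mem' := by
    rintro _ _ ⟨a, ha, rfl⟩ ⟨b, hb, rfl⟩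
    exact ⟨a * b, (by decide +kernel : ∀ a b : Equiv.Perm (Fin 4), InV a → InV b → InV (a * b)) a b ha hb,
      map_mul _ _ _⟩
  inv_mem' := by
    rintro _ ⟨a, ha, rfl⟩
    exact ⟨a⁻¹, (by decide +kernel : ∀ a : Equiv.Perm (Fin 4), InV a → InV a⁻¹) a ha, map_inv _ _⟩

theorem mem_V {x : G} : x ∈ D.V ↔ x = 1 ∨ x = D.z ∨ x = D.t ∨ x = D.z * D.t :=
  ⟨fun ⟨_, hk, e⟩ => e ▸ D.of_inV hk, fun h => D.four_cases h⟩

theorem card_V : Nat.card D.V = 4 := by
  have e : D.V = (Subgroup.closure {pa, pb}).map D.ι := by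
    apply le_antisymm
    · rintro _ ⟨k, hk, rfl⟩
      refine mem_map_of_mem _ ?_
      rcases hk with rfl | rfl | rfl | rfl
      exacts [one_mem _, subset_closure (Or.inl rfl), subset_closure (Or.inr rfl),
        mul_mem (subset_closure (Or.inl rfl)) (subset_closure (Or.inr rfl))]
    · rw [MonoidHom.map_closure, closure_le]
      rintro _ ⟨k, rfl | rfl, rfl⟩
      exacts [D.mem_V.2 (Or.inr (Or.inl rfl)), D.mem_V.2 (Or.inr (Or.inr (Or.inl rfl)))]
  let f : {k : Equiv.Perm (Fin 4) // InV k} → D.V := fun k => ⟨D.ι k, k, k.2, rfl⟩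
  have hf : Function.Bijective f :=
    ⟨fun a b h => Subtype.ext (D.inj (congrArg Subtype.val h)), fun ⟨x, k, hk, hx⟩ => ⟨⟨k, hk⟩, Subtype.ext hx⟩⟩
  rw [← Nat.card_congr (Equiv.ofBijective f hf), Nat.card_eq_fintype_card, Fintype.card_subtype]
  decide +kernel

theorem V_comm : IsMulCommutative D.V := by
  haveI : Fact (Nat.Prime 2) := ⟨Nat.prime_two⟩
  exact IsPGroup.isMulCommutative_of_card_eq_prime_sq (p := 2) (by rw [D.card_V]; rfl)

theorem V_not_cyclic : ¬ IsCyclic D.V := by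
  intro h
  obtain ⟨g, hg⟩ := h.exists_generator
  have h4 : orderOf g = 4 := by rw [orderOf_eq_card_of_forall_mem_zpowers hg, D.card_V]
  have h2 : g * g = 1 := by
    obtain ⟨x, k, hk, rfl⟩ := g
    refine Subtype.ext ?_
    show D.ι k * D.ι k = 1
    rw [← map_mul, (by decide +kernel : ∀ a : Equiv.Perm (Fin 4), InV a → a * a = 1) k hk, map_one]
  have := Nat.le_of_dvd two_pos (h4 ▸ orderOf_dvd_of_pow_eq_one (show g ^ 2 = 1 by rw [pow_two, h2]))
  omega

end Sym4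

namespace DihSit

variable (D : DihSit G)

theorem z_S {x : G} (hx : x ∈ (D.S : Subgroup G)) : x * D.z = D.z * x := D.z_central D.S.2 D.hPS hx

theorem cz : D.c * D.z = D.z * D.c := D.z_S D.hcS

theorem c_pow_one {i : ℕ} : D.c ^ i = 1 ↔ D.m ∣ i := by rw [← orderOf_dvd_iff_pow_eq_one, D.hord]

theorem t_conj_pow (i : ℕ) : D.t * D.c ^ i * D.t⁻¹ = (D.c ^ i)⁻¹ := by
  rw [← conj_pow, D.hinv, inv_pow]

/-- A rotation. -/
theorem not_pow_comm {i : ℕ} (h : D.c ^ i * D.t * D.c = D.c * (D.c ^ i * D.t)) : False := by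
  have h1 : D.t * D.c = D.c * D.t := by
    refine mul_left_cancel (a := D.c ^ i) ?_
    rw [← mul_assoc, h, ← mul_assoc, ← mul_assoc, (Commute.self_pow D.c i).eq]
  have h2 : D.c ^ 2 = 1 := by
    rw [pow_two]
    have := D.hinv
    rw [h1, mul_inv_cancel_right] at this
    nth_rewrite 1 [this]
    exact inv_mul_cancel _
  have := Nat.le_of_dvd two_pos (D.c_pow_one.1 h2)
  have := D.hm
  omega

theorem z_pow : ∃ i, D.c ^ i = D.z ∧ 2 * i % D.m = 0 := by
  obtain ⟨i, h | h⟩ := D.hgen _ (D.hPS D.z_mem_P)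
  · refine ⟨i, h.symm, Nat.mod_eq_zero_of_dvd (D.c_pow_one.1 ?_)⟩
    rw [mul_comm, pow_mul, ← h, pow_two, D.z_sq]
  · exact (D.not_pow_comm (h ▸ D.cz.symm)).elim

/-- The element of order four is the square of a rotation. -/
theorem e_pow : ∃ i, D.e = D.c ^ (2 * i) := by
  obtain ⟨i, h | h⟩ := D.hgen _ (D.hPS D.e_mem_P)
  · obtain ⟨k, hk⟩ := D.hm2
    have h4 : D.c ^ (4 * i) = 1 := by
      rw [show 4 * i = i * 2 * 2 by ring, pow_mul, pow_mul, ← h, pow_two, pow_two, D.e_sq, D.z_sq]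
    have hd := D.c_pow_one.1 h4
    have h8 : 8 ∣ D.m := by
      rw [hk]
      refine pow_dvd_pow 2 (m := 3) ?_
      by_contra h3
      have := D.hm
      rw [hk] at this
      interval_cases k <;> omega
    obtain ⟨j, hj⟩ := h8.trans hd
    exact ⟨j, by rw [h, show i = 2 * j by omega]⟩
  · exfalso
    have h2 : D.e * D.e = 1 := by
      rw [h, show D.c ^ i * D.t * (D.c ^ i * D.t) = D.c ^ i * (D.t * D.c ^ i * D.t⁻¹) * (D.t * D.t) by group,
        D.t_conj_pow, mul_inv_cancel, one_mul, D.t_sq]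
    exact D.z_ne (D.e_sq.symm.trans h2)

theorem O_conj {x y : G} (hx : x * D.z = D.z * x) (hy : y ∈ D.O) : x * y * x⁻¹ ∈ D.O := by
  refine D.hOmem _ ?_ ?_
  · have hxi : x⁻¹ * D.z = D.z * x⁻¹ := (Commute.inv_left (show Commute x D.z from hx)).eq
    calc x * y * x⁻¹ * D.z = x * y * (x⁻¹ * D.z) := by group
      _ = x * (y * D.z) * x⁻¹ := by rw [hxi]; group
      _ = x * D.z * y * x⁻¹ := by rw [D.hOle y hy]; group
      _ = D.z * (x * y * x⁻¹) := by rw [hx]; group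
  · rw [← MulAut.conj_apply, MulEquiv.orderOf_eq]
    exact odd_orderOf_of_mem D.hOodd hy

theorem O_fix {y : G} (hy : y ∈ D.O) (h : y * D.t = D.t * y) : y = 1 := by
  refine eq_one_of_odd_of_two (odd_orderOf_of_mem D.hOodd hy) ?_
  rcases D.cent_four (D.hOle y hy) h with e | e | e | e <;> rw [e]
  exacts [one_mul 1, D.z_sq, D.t_sq, by
    rw [show D.z * D.t * (D.z * D.t) = D.z * (D.t * D.z) * D.t by group, D.t_z, mul_assoc, mul_assoc, D.t_sq,
      mul_one, D.z_sq]]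

theorem t_inv {y : G} (hy : y ∈ D.O) : D.t * y * D.t⁻¹ = y⁻¹ := by
  have hc : D.t * D.z = D.z * D.t := D.t_z
  let f : D.O → D.O := fun a => ⟨(a : G)⁻¹ * (D.t * a * D.t⁻¹), mul_mem (inv_mem a.2) (D.O_conj hc a.2)⟩
  have hinj : Function.Injective f := by
    intro a b h
    have h' : (a : G)⁻¹ * (D.t * a * D.t⁻¹) = (b : G)⁻¹ * (D.t * b * D.t⁻¹) := congrArg Subtype.val h
    have hfix : D.t * ((b : G) * (a : G)⁻¹) * D.t⁻¹ = (b : G) * (a : G)⁻¹ := by
      calc D.t * ((b : G) * (a : G)⁻¹) * D.t⁻¹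
          = (b : G) * ((b : G)⁻¹ * (D.t * b * D.t⁻¹)) * ((a : G)⁻¹ * (D.t * a * D.t⁻¹))⁻¹ * (a : G)⁻¹ := by group
        _ = _ := by rw [h']; group
    have := D.O_fix (mul_mem b.2 (inv_mem a.2)) (mul_inv_eq_iff_eq_mul.1 hfix).symm
    exact Subtype.ext (mul_inv_eq_one.1 this).symm
  obtain ⟨a, ha⟩ := (Finite.injective_iff_surjective.1 hinj) ⟨y, hy⟩
  have ha' : (a : G)⁻¹ * (D.t * a * D.t⁻¹) = y := congrArg Subtype.val ha
  rw [← ha', show D.t⁻¹ = D.t from inv_eq_of_mul_eq_one_right D.t_sq]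
  calc D.t * ((a : G)⁻¹ * (D.t * a * D.t)) * D.t = D.t * (a : G)⁻¹ * D.t * a * (D.t * D.t) := by group
    _ = D.t⁻¹ * (a : G)⁻¹ * D.t⁻¹ * a := by rw [D.t_sq, mul_one, inv_eq_of_mul_eq_one_right D.t_sq]
    _ = ((a : G)⁻¹ * (D.t * a * D.t))⁻¹ := by group

theorem O_comm {x y : G} (hx : x ∈ D.O) (hy : y ∈ D.O) : x * y = y * x := by
  have h := D.t_inv (mul_mem hx hy)
  rw [show D.t * (x * y) * D.t⁻¹ = D.t * x * D.t⁻¹ * (D.t * y * D.t⁻¹) by group, D.t_inv hx, D.t_inv hy] at h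
  have := congrArg (·⁻¹) h
  simpa using this.symm

theorem c_sq_O {y : G} (hy : y ∈ D.O) : D.c ^ 2 * y = y * D.c ^ 2 := by
  have h1 := D.t_inv (D.O_conj D.cz hy)
  rw [show D.t * (D.c * y * D.c⁻¹) * D.t⁻¹ =
      D.t * D.c * D.t⁻¹ * (D.t * y * D.t⁻¹) * (D.t * D.c * D.t⁻¹)⁻¹ by group, D.hinv, D.t_inv hy, inv_inv] at h1
  have h2 : D.c⁻¹ * y * D.c = D.c * y * D.c⁻¹ := by
    have := congrArg (·⁻¹) h1
    simpa [mul_assoc] using this
  calc D.c ^ 2 * y = D.c * (D.c * y * D.c⁻¹) * D.c := by rw [pow_two]; group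
    _ = D.c * (D.c⁻¹ * y * D.c) * D.c := by rw [h2]
    _ = y * D.c ^ 2 := by rw [pow_two]; group

theorem c_even_O (i : ℕ) {y : G} (hy : y ∈ D.O) : D.c ^ (2 * i) * y = y * D.c ^ (2 * i) := by
  rw [pow_mul]
  exact (Commute.pow_left (show Commute (D.c ^ 2) y from D.c_sq_O hy) i).eq

theorem e_O {y : G} (hy : y ∈ D.O) : D.e * y = y * D.e := by
  obtain ⟨i, hi⟩ := D.e_pow
  rw [hi]
  exact D.c_even_O i hy

/-- The elements of odd order commuting with `v`. -/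
def Th (_ : DihSit G) (v x : G) : Prop := x * v = v * x ∧ Odd (orderOf x)

theorem th_z {x : G} : D.Th D.z x ↔ x ∈ D.O :=
  ⟨fun h => D.hOmem x h.1 h.2, fun h => ⟨D.hOle x h, odd_orderOf_of_mem D.hOodd h⟩⟩

theorem th_conj {v x : G} (g : G) (h : D.Th v x) : D.Th (g * v * g⁻¹) (g * x * g⁻¹) := by
  refine ⟨?_, by rw [← MulAut.conj_apply g x, MulEquiv.orderOf_eq]; exact h.2⟩
  calc g * x * g⁻¹ * (g * v * g⁻¹) = g * (x * v) * g⁻¹ := by group
    _ = g * v * g⁻¹ * (g * x * g⁻¹) := by rw [h.1]; group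

theorem th_of_conj {v : G} {g : G} (hg : g * D.z * g⁻¹ = v) {x : G} (h : D.Th v x) : g⁻¹ * x * g ∈ D.O := by
  have := D.th_conj g⁻¹ h
  rw [← hg, inv_inv, show g⁻¹ * (g * D.z * g⁻¹) * g = D.z by group] at this
  exact D.th_z.1 this

theorem th_t_inv {x : G} (h : D.Th D.t x) : D.z * x * D.z⁻¹ = x⁻¹ := by
  have hy := D.th_of_conj D.d_z h
  have hzy : D.z * (D.d⁻¹ * x * D.d) = D.d⁻¹ * x * D.d * D.z := (D.hOle _ hy).symm
  have hti := D.t_inv hy
  calc D.z * x * D.z⁻¹ = D.d * (D.z * D.t) * D.d⁻¹ * x * (D.d * (D.z * D.t) * D.d⁻¹)⁻¹ := by rw [D.d_zt]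
    _ = D.d * (D.z * (D.t * (D.d⁻¹ * x * D.d) * D.t⁻¹) * D.z⁻¹) * D.d⁻¹ := by group
    _ = D.d * (D.z * (D.d⁻¹ * x * D.d)⁻¹ * D.z⁻¹) * D.d⁻¹ := by rw [hti]
    _ = D.d * (D.z * (D.d⁻¹ * x * D.d) * D.z⁻¹)⁻¹ * D.d⁻¹ := by group
    _ = x⁻¹ := by rw [hzy]; group

theorem th_t_mul {x y : G} (hx : D.Th D.t x) (hy : D.Th D.t y) : x * y = y * x := by
  have h := D.O_comm (D.th_of_conj D.d_z hx) (D.th_of_conj D.d_z hy)
  have := congrArg (fun w => D.d * w * D.d⁻¹) h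
  simpa [mul_assoc] using this

/-- The elements inverted by the generator. -/
def Y : Subgroup G where
  carrier := {y | y ∈ D.O ∧ D.c * y * D.c⁻¹ = y⁻¹}
  one_mem' := ⟨one_mem _, by simp⟩
  mul_mem' := by
    rintro a b ⟨ha, ha'⟩ ⟨hb, hb'⟩
    refine ⟨mul_mem ha hb, ?_⟩
    rw [show D.c * (a * b) * D.c⁻¹ = D.c * a * D.c⁻¹ * (D.c * b * D.c⁻¹) by group, ha', hb', mul_inv_rev]
    exact D.O_comm (inv_mem ha) (inv_mem hb)
  inv_mem' := by
    rintro a ⟨ha, ha'⟩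
    exact ⟨inv_mem ha, by rw [show D.c * a⁻¹ * D.c⁻¹ = (D.c * a * D.c⁻¹)⁻¹ by group, ha']⟩

theorem Y_le : D.Y ≤ D.O := fun _ h => h.1

theorem Y_odd : Odd (Nat.card D.Y) := D.hOodd.of_dvd_nat (card_dvd_of_le D.Y_le)

/-- The second reflection. -/
def s (D : DihSit G) : G := D.t * D.c

theorem s_Y {y : G} (hy : y ∈ D.Y) : D.s * y = y * D.s := by
  unfold DihSit.s
  rw [← mul_inv_eq_iff_eq_mul, show D.t * D.c * y * (D.t * D.c)⁻¹ = D.t * (D.c * y * D.c⁻¹) * D.t⁻¹ by group,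
    hy.2, D.t_inv (inv_mem hy.1), inv_inv]

theorem c_pow_Y (i : ℕ) {y : G} (hy : y ∈ D.Y) : D.c ^ i * y * (D.c ^ i)⁻¹ ∈ D.Y := by
  induction i with
  | zero => simpa using hy
  | succ i ih =>
    rw [pow_succ, show D.c ^ i * D.c * y * (D.c ^ i * D.c)⁻¹ = D.c ^ i * (D.c * y * D.c⁻¹) * (D.c ^ i)⁻¹ by group,
      hy.2, show D.c ^ i * y⁻¹ * (D.c ^ i)⁻¹ = (D.c ^ i * y * (D.c ^ i)⁻¹)⁻¹ by group]
    exact inv_mem ih

theorem Y_conj {x y : G} (hx : x * D.z = D.z * x) (hy : y ∈ D.Y) : x * y * x⁻¹ ∈ D.Y := by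
  obtain ⟨o, ho, s, hs, rfl⟩ := D.hCdec x hx
  have hsy : s * y * s⁻¹ ∈ D.Y := by
    obtain ⟨i, rfl | rfl⟩ := D.hgen s hs
    · exact D.c_pow_Y i hy
    · rw [show D.c ^ i * D.t * y * (D.c ^ i * D.t)⁻¹ = D.c ^ i * (D.t * y * D.t⁻¹) * (D.c ^ i)⁻¹ by group,
        D.t_inv hy.1]
      exact D.c_pow_Y i (inv_mem hy)
  rw [show o * s * y * (o * s)⁻¹ = o * (s * y * s⁻¹) * o⁻¹ by group, D.O_comm ho hsy.1, mul_inv_cancel_right]
  exact hsy

/-- The conjugate of `Y` by an element taking the first involution to a given one is well defined. -/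
theorem Y_indep {n n' y : G} (h : n * D.z * n⁻¹ = n' * D.z * n'⁻¹) (hy : y ∈ D.Y) :
    ∃ y' ∈ D.Y, n * y * n⁻¹ = n' * y' * n'⁻¹ := by
  refine ⟨n'⁻¹ * n * y * (n'⁻¹ * n)⁻¹, D.Y_conj ?_ hy, by group⟩
  calc n'⁻¹ * n * D.z = n'⁻¹ * (n * D.z * n⁻¹) * n := by group
    _ = D.z * (n'⁻¹ * n) := by rw [h]; group

theorem range_le {R : Subgroup G} (hz : D.z ∈ R) (ht : D.t ∈ R) (hd : D.d ∈ R) (he : D.e ∈ R) :
    D.ι.range ≤ R := by
  rintro _ ⟨k, rfl⟩
  obtain ⟨v, hv, i, j, rfl⟩ := (by decide +kernel : ∀ k : Equiv.Perm (Fin 4), ∃ v, InV v ∧ ∃ i : Fin 3,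
    ∃ j : Fin 2, k = v * pd ^ (i : ℕ) * pe ^ (j : ℕ)) k
  rw [map_mul, map_mul, map_pow, map_pow]
  refine mul_mem (mul_mem ?_ (pow_mem hd _)) (pow_mem he _)
  rcases D.of_inV hv with q | q | q | q <;> rw [q]
  exacts [one_mem _, hz, ht, mul_mem hz ht]

/-- An odd subgroup normalised by the alternating subgroup is trivial. -/
theorem la4 {R : Subgroup G} (hR : Odd (Nat.card R)) (hz : D.z ∈ normalizer (R : Set G))
    (ht : D.t ∈ normalizer (R : Set G)) (hd : D.d ∈ normalizer (R : Set G)) : R = ⊥ := by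
  refine D.la R hR (D.range_le hz ht hd ?_)
  have hVn : D.V ≤ normalizer (R : Set G) := by
    intro v hv
    rcases D.mem_V.1 hv with rfl | rfl | rfl | rfl
    exacts [one_mem _, hz, ht, mul_mem hz ht]
  haveI := D.V_comm
  have hgen := Cfsg.Lib.Coprime.centralizerJoin_eq (A := D.V) (K := R) D.V_not_cyclic hVn (by
    rw [D.card_V]; exact ((Nat.coprime_two_left.2 hR).pow_left 2 : (2 ^ 2).Coprime _))
  obtain ⟨v, hv, i, hk⟩ := (by decide +kernel : ∃ v, InV v ∧ ∃ i : Fin 3, pe * pd * pe⁻¹ = v * pd ^ (i : ℕ))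
  have hede : D.e * D.d * D.e⁻¹ ∈ normalizer (R : Set G) := by
    rw [← map_inv, ← map_mul, ← map_mul, hk, map_mul, map_pow]
    exact mul_mem (hVn ⟨v, hv, rfl⟩) (pow_mem hd _)
  have key : ∀ x ∈ R, ∀ g, g ∈ normalizer (R : Set G) → D.e * g * D.e⁻¹ ∈ normalizer (R : Set G) →
      g⁻¹ * x * g ∈ D.O → D.e * x * D.e⁻¹ ∈ R := by
    intro x hx g hg hg' hy
    have hyR : g⁻¹ * x * g ∈ R := by
      have := (mem_normalizer_iff.1 (inv_mem hg) x).1 hx
      rwa [inv_inv] at this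
    rw [show D.e * x * D.e⁻¹ = D.e * g * D.e⁻¹ * (D.e * (g⁻¹ * x * g) * D.e⁻¹) * (D.e * g * D.e⁻¹)⁻¹ by group,
      D.e_O hy, mul_inv_cancel_right]
    exact (mem_normalizer_iff.1 hg' _).1 hyR
  have hle : R ≤ R.comap (MulAut.conj D.e).toMonoidHom := by
    refine hgen.symm.le.trans (iSup₂_le fun a ha x hx => ?_)
    obtain ⟨hxR, hxa⟩ := hx
    have hxo : Odd (orderOf x) := odd_orderOf_of_mem hR hxR
    have hc := mem_centralizer_singleton_iff.1 hxa
    rcases D.mem_V.1 ha.1 with rfl | rfl | rfl | rfl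
    · exact absurd rfl ha.2
    · exact key x hxR 1 (one_mem _) (by simp) (by simpa using D.hOmem x hc hxo)
    · exact key x hxR D.d hd hede (D.th_of_conj D.d_z ⟨hc, hxo⟩)
    · refine key x hxR (D.d * D.d) (mul_mem hd hd) ?_ (D.th_of_conj ?_ ⟨hc, hxo⟩)
      · rw [show D.e * (D.d * D.d) * D.e⁻¹ = D.e * D.d * D.e⁻¹ * (D.e * D.d * D.e⁻¹) by group]
        exact mul_mem hede hede
      · rw [show D.d * D.d * D.z * (D.d * D.d)⁻¹ = D.d * (D.d * D.z * D.d⁻¹) * D.d⁻¹ by group, D.d_z, D.d_t]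
  refine mem_normalizer_iff_map_conj_eq.2 (Subgroup.eq_of_le_of_card_ge (map_le_iff_le_comap.2 hle) ?_)
  exact (Nat.card_congr (R.equivMapOfInjective _ (MulAut.conj D.e).injective).toEquiv).le

/-- All involutions are conjugate. -/
theorem conj_z {x : G} (hx : orderOf x = 2) : ∃ g, g * x * g⁻¹ = D.z := by
  haveI : Fact (Nat.Prime 2) := ⟨Nat.prime_two⟩
  obtain ⟨T, hT⟩ := (IsPGroup.of_card (n := 1) (show Nat.card (zpowers x) = 2 ^ 1 by
    rw [Nat.card_zpowers, hx, pow_one])).exists_le_sylow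
  obtain ⟨a, ha⟩ := MulAction.exists_smul_eq G T D.S
  have hxS : a * x * a⁻¹ ∈ (D.S : Subgroup G) := by
    rw [← ha, Sylow.coe_subgroup_smul]; exact ⟨x, hT (mem_zpowers _), rfl⟩
  have hrot : ∀ w : G, orderOf w = 2 → w ∈ zpowers D.c → w = D.z := by
    intro w hw hwc
    obtain ⟨i, hi, -⟩ := D.z_pow
    have hzc : D.z ∈ zpowers D.c := hi ▸ pow_mem (mem_zpowers _) _
    obtain ⟨k, rfl⟩ : ∃ k : ℕ, D.c ^ k = w := by
      rw [← mem_powers_iff_mem_zpowers, Submonoid.mem_powers_iff] at hwc; exact hwc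
    have h2k : D.m ∣ 2 * k := D.c_pow_one.1 (by rw [mul_comm, pow_mul, ← hw]; exact pow_orderOf_eq_one _)
    have h2i : D.m ∣ 2 * i := D.c_pow_one.1 (by rw [mul_comm, pow_mul, hi, pow_two, D.z_sq])
    have hnk : ¬ D.m ∣ k := fun h => by rw [D.c_pow_one.2 h, orderOf_one] at hw; omega
    have hni : ¬ D.m ∣ i := fun h => D.z_ne (hi.symm.trans (D.c_pow_one.2 h))
    obtain ⟨a, ha⟩ := h2k
    obtain ⟨b, hb⟩ := h2i
    have hao : Odd a := by
      by_contra he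
      obtain ⟨a', rfl⟩ := (Nat.not_odd_iff_even.1 he)
      exact hnk ⟨a', by rw [mul_add] at ha; omega⟩
    have hbo : Odd b := by
      by_contra he
      obtain ⟨b', rfl⟩ := (Nat.not_odd_iff_even.1 he)
      exact hni ⟨b', by rw [mul_add] at hb; omega⟩
    obtain ⟨e, he⟩ := hao.add_odd hbo
    have hsum : D.c ^ (k + i) = 1 :=
      D.c_pow_one.2 ⟨e, by have := congrArg (D.m * ·) he; simp only [mul_add] at this; omega⟩
    rw [pow_add, hi] at hsum
    rw [← inv_eq_of_mul_eq_one_left hsum, inv_eq_of_mul_eq_one_right D.z_sq]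
  have hxo : orderOf (a * x * a⁻¹) = 2 := by rw [← MulAut.conj_apply, MulEquiv.orderOf_eq, hx]
  by_cases hc : a * x * a⁻¹ ∈ zpowers D.c
  · exact ⟨a, hrot _ hxo hc⟩
  have hrel : (zpowers D.c).relIndex (D.S : Subgroup G) = 2 := by
    have hle : zpowers D.c ≤ (D.S : Subgroup G) := zpowers_le.2 D.hcS
    refine Subgroup.index_eq_two_iff.2 ⟨⟨D.t, D.hPS D.t_mem_P⟩, fun b => ?_⟩
    rw [mem_subgroupOf, mem_subgroupOf, Subgroup.coe_mul]
    obtain ⟨i, hi | hi⟩ := D.hgen b b.2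
    · refine Or.inr ⟨by rw [hi]; exact pow_mem (mem_zpowers _) _, fun hbt => ?_⟩
      obtain ⟨k, hk⟩ : ∃ k : ℤ, D.c ^ k = D.t := mem_zpowers_iff.1 (by
        have := mul_mem (inv_mem (show (b : G) ∈ zpowers D.c from by rw [hi]; exact pow_mem (mem_zpowers _) _)) hbt
        rwa [inv_mul_cancel_left] at this)
      exact D.not_pow_comm (i := 0) (by rw [pow_zero, one_mul, ← hk]; exact (Commute.zpow_self D.c k).eq)
    · refine Or.inl ⟨by rw [hi, mul_assoc, D.t_sq, mul_one]; exact pow_mem (mem_zpowers _) _, fun hb => ?_⟩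
      obtain ⟨k, hk⟩ : ∃ k : ℤ, D.c ^ k = D.t := mem_zpowers_iff.1 (by
        have := mul_mem (inv_mem (pow_mem (mem_zpowers D.c) i)) hb
        rwa [hi, inv_mul_cancel_left] at this)
      exact D.not_pow_comm (i := 0) (by rw [pow_zero, one_mul, ← hk]; exact (Commute.zpow_self D.c k).eq)
  rcases Cfsg.Agent.S0111.result D.S (zpowers D.c) (zpowers_le.2 D.hcS) hrel _ hxo hxS hc with
    ⟨N, hN, hN2, hxN⟩ | ⟨b, hb⟩
  · exfalso
    haveI := hN
    rcases D.simple.eq_bot_or_eq_top_of_normal N hN with e | e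
    · subst e
      rw [Subgroup.index_bot] at hN2
      have := card_subgroup_dvd_card D.P
      rw [D.card_P, hN2] at this
      omega
    · exact hxN (e ▸ mem_top _)
  · refine ⟨b * a, hrot _ ?_ ?_⟩
    · rw [← MulAut.conj_apply, MulEquiv.orderOf_eq, hx]
    · rwa [show b * a * x * (b * a)⁻¹ = b * (a * x * a⁻¹) * b⁻¹ by group]

end DihSit

end Cfsg.Lib.SubdegThree
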