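import Cfsg.Agent.SolvStruct.ZJFusion

/-!
A group with dihedral Sylow two-subgroups does not involve `Qd(q)`.
-/

set_option autoImplicit false
set_option linter.style.haveILetI false

namespace Cfsg.Lib.SubdegThree

open Subgroup Matrix

universe u

variable {G : Type u} [Group G] [Finite G]

/-- No section `Qd(q)` if the elements of order above two of a Sylow two-subgroup commute. -/
theorem not_involves_qd {q : ℕ} [Fact q.Prime] (hq : q ≠ 2) (S : Sylow 2 G)
    (hS : ∀ u ∈ (S : Subgroup G), ∀ v ∈ (S : Subgroup G), u * u ≠ 1 → v * v ≠ 1 → u * v = v * u) :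
    ¬ Cfsg.Involves ↥(Cfsg.qd q) G := by
  haveI : Fact (Nat.Prime 2) := ⟨Nat.prime_two⟩
  refine Cfsg.Lib.SolvStruct.not_involves_qd ?_
  rintro ⟨H, K, hK, ⟨φ⟩⟩
  haveI := hK
  haveI : Fact (2 < q) := ⟨lt_of_le_of_ne (Fact.out : q.Prime).two_le (Ne.symm hq)⟩
  obtain ⟨x, y, hxy⟩ := ZMod.sq_add_sq q (-1)
  let a : SpecialLinearGroup (Fin 2) (ZMod q) := ⟨!![0, 1; -1, 0], by simp [det_fin_two]⟩
  let b : SpecialLinearGroup (Fin 2) (ZMod q) := ⟨!![x, y; y, -x], by
    simp [det_fin_two]; linear_combination -hxy⟩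
  have ha : a * a = -1 := Subtype.ext (by
    show (!![0, 1; -1, 0] : Matrix (Fin 2) (Fin 2) (ZMod q)) * !![0, 1; -1, 0] = -1
    ext i j; fin_cases i <;> fin_cases j <;> simp [mul_apply, Fin.sum_univ_two])
  have hb : b * b = -1 := Subtype.ext (by
    show (!![x, y; y, -x] : Matrix (Fin 2) (Fin 2) (ZMod q)) * !![x, y; y, -x] = -1
    ext i j; fin_cases i <;> fin_cases j <;> simp [mul_apply, Fin.sum_univ_two] <;>
      first | linear_combination hxy | ring1)
  have hab : a * b = -(b * a) := Subtype.ext (by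
    show (!![0, 1; -1, 0] : Matrix (Fin 2) (Fin 2) (ZMod q)) * !![x, y; y, -x] =
      -(!![x, y; y, -x] * !![0, 1; -1, 0])
    ext i j; fin_cases i <;> fin_cases j <;> simp [mul_apply, Fin.sum_univ_two])
  have hneg : (-1 : SpecialLinearGroup (Fin 2) (ZMod q)) ≠ 1 := fun e => by
    have := congrFun (congrFun (congrArg Subtype.val e) 0) 0
    simp at this
    exact ZMod.neg_one_ne_one this
  -- a two-group containing both elements
  have hfour : ∀ c : SpecialLinearGroup (Fin 2) (ZMod q), c * c = -1 → IsPGroup 2 (zpowers c) := by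
    intro c hc
    have h4 : c ^ 2 ^ 2 = 1 := by
      rw [show (2 : ℕ) ^ 2 = 2 * 2 by norm_num, pow_mul, pow_two c, hc, neg_one_sq]
    obtain ⟨m, -, hm⟩ := (Nat.dvd_prime_pow Nat.prime_two).1 (orderOf_dvd_of_pow_eq_one h4)
    exact IsPGroup.of_card (n := m) (by rw [Nat.card_zpowers, hm])
  have hinv : b * a * b⁻¹ = a⁻¹ := by
    rw [mul_inv_eq_iff_eq_mul, show a⁻¹ = -a from inv_eq_of_mul_eq_one_right (by rw [mul_neg, ha, neg_neg]),
      neg_mul, hab, neg_neg]
  have hn : zpowers b ≤ normalizer (zpowers a : Set (SpecialLinearGroup (Fin 2) (ZMod q))) := by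
    rw [zpowers_le, mem_normalizer_iff_map_conj_eq, MonoidHom.map_zpowers]
    show zpowers (b * a * b⁻¹) = _
    rw [hinv, zpowers_inv]
  have hQ : IsPGroup 2 (zpowers b ⊔ zpowers a : Subgroup _) :=
    IsPGroup.to_sup_of_normal_right' (hfour b hb) (hfour a ha) hn
  obtain ⟨T, hT⟩ := hQ.exists_le_sylow
  -- move its preimages into the Sylow subgroup
  let π : H →* SpecialLinearGroup (Fin 2) (ZMod q) := φ.toMonoidHom.comp (QuotientGroup.mk' (K.subgroupOf H))
  have hπ : Function.Surjective π := φ.surjective.comp (QuotientGroup.mk'_surjective _)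
  obtain ⟨R⟩ : Nonempty (Sylow 2 H) := inferInstance
  obtain ⟨c, hc⟩ := MulAction.exists_smul_eq (SpecialLinearGroup (Fin 2) (ZMod q)) (R.mapSurjective hπ) T
  obtain ⟨c, rfl⟩ := hπ c
  have hlift : ∀ x ∈ (zpowers b ⊔ zpowers a : Subgroup _), ∃ u ∈ ((c • R : Sylow 2 H) : Subgroup H), π u = x := by
    intro x hx
    have hxT := hT hx
    rw [← hc, Sylow.coe_subgroup_smul] at hxT
    obtain ⟨_, ⟨r, hr, rfl⟩, rfl⟩ := hxT
    refine ⟨c * r * c⁻¹, by rw [Sylow.coe_subgroup_smul]; exact ⟨r, hr, rfl⟩, ?_⟩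
    rw [map_mul, map_mul, map_inv]
    rfl
  obtain ⟨u, hu, hua⟩ := hlift a (mem_sup_right (mem_zpowers a))
  obtain ⟨v, hv, hvb⟩ := hlift b (mem_sup_left (mem_zpowers b))
  obtain ⟨S', hS'⟩ := ((c • R : Sylow 2 H).2.map H.subtype).exists_le_sylow
  obtain ⟨g, hg⟩ := MulAction.exists_smul_eq G S' S
  have hmem : ∀ w ∈ ((c • R : Sylow 2 H) : Subgroup H), g * (w : G) * g⁻¹ ∈ (S : Subgroup G) := by
    intro w hw
    rw [← hg, Sylow.coe_subgroup_smul]
    exact ⟨(w : G), hS' ⟨w, hw, rfl⟩, rfl⟩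
  have hne : ∀ (w : H) (x : SpecialLinearGroup (Fin 2) (ZMod q)), π w = x → x * x = -1 →
      g * (w : G) * g⁻¹ * (g * (w : G) * g⁻¹) ≠ 1 := by
    intro w x hw hx e
    rw [show g * (w : G) * g⁻¹ * (g * (w : G) * g⁻¹) = g * ((w : G) * w) * g⁻¹ by group, conj_eq_one_iff] at e
    refine hneg ?_
    rw [← hx, ← hw, ← map_mul, show w * w = 1 from Subtype.ext e, map_one]
  have hcomm := hS _ (hmem u hu) _ (hmem v hv) (hne u a hua ha) (hne v b hvb hb)
  have huv : u * v = v * u := Subtype.ext (by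
    have : g * ((u : G) * v) * g⁻¹ = g * ((v : G) * u) * g⁻¹ := by simpa [mul_assoc] using hcomm
    exact mul_left_cancel (mul_right_cancel this))
  have hba : a * b = b * a := by rw [← hua, ← hvb, ← map_mul, ← map_mul, huv]
  rw [hab] at hba
  have : (b * a) * (1 : SpecialLinearGroup (Fin 2) (ZMod q)) = (b * a) * (-1) := by
    rw [mul_one, mul_neg, mul_one, hba]
  exact hneg (mul_left_cancel this).symm

end Cfsg.Lib.SubdegThree
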