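import Cfsg.Agent.S0629
import Cfsg.Agent.Blocks.ItoDegrees
import Cfsg.Agent.CyclicInter.Main
import Cfsg.Agent.Components.ZJ.Glauberman
import Cfsg.Agent.Coprime.Sylow
import Cfsg.Agent.Components.Cores

/-!
A two-group fixes a conjugate of `Z(J(R))` in a group with a normal `q`-subgroup whose centraliser has cyclic Sylow
two-subgroups.
-/

set_option autoImplicit false
set_option linter.style.haveILetI false
set_option linter.unusedSectionVars false

namespace Cfsg.Lib.SubdegThree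

open Subgroup

universe u

variable {K : Type u} [Group K] [Finite K]

theorem normalizer_le_normalizer_centralizer' (Q : Subgroup K) :
    normalizer (Q : Set K) ≤ normalizer (centralizer (Q : Set K) : Set K) := by
  have key : ∀ g ∈ normalizer (Q : Set K), ∀ x ∈ centralizer (Q : Set K), g * x * g⁻¹ ∈ centralizer (Q : Set K) := by
    intro g hg x hx
    refine mem_centralizer_iff.2 fun y hy => ?_
    have := mem_centralizer_iff.1 hx _ ((mem_normalizer_iff''.1 hg y).1 hy)
    calc y * (g * x * g⁻¹) = g * (g⁻¹ * y * g * x) * g⁻¹ := by group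
      _ = g * (x * (g⁻¹ * y * g)) * g⁻¹ := by rw [this]
      _ = g * x * g⁻¹ * y := by group
  exact fun g hg => mem_normalizer_iff.2 fun x => ⟨key g hg x, fun hx => by
    simpa [mul_assoc] using key g⁻¹ (inv_mem hg) _ hx⟩

theorem le_normalizer_centerThompsonAOf (D : Subgroup K) :
    D ≤ normalizer (Cfsg.centerThompsonAOf D : Set K) := by
  intro x hx
  refine mem_normalizer_iff_map_conj_eq.2 ?_
  refine (Cfsg.Lib.ZJ.centerThompsonAOf_map (MulAut.conj x) D).trans ?_
  congr 1
  exact mem_normalizer_iff_map_conj_eq.1 (le_normalizer hx)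

/-- An element of odd order normalising a cyclic two-group centralises it. -/
theorem centralises_cyclic_two {T : Subgroup K} (hT : IsPGroup 2 T) [IsCyclic T] {r : K}
    (hr : r ∈ normalizer (T : Set K)) (ho : Odd (orderOf r)) : r ∈ centralizer (T : Set K) := by
  haveI : Fact (Nat.Prime 2) := ⟨Nat.prime_two⟩
  obtain ⟨k, hk⟩ := hT.exists_card_eq
  let f : MulAut T := (T.normalizerMonoidHom ⟨r, hr⟩)
  have h1 : orderOf f ∣ orderOf r := by
    have := orderOf_map_dvd T.normalizerMonoidHom ⟨r, hr⟩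
    rwa [Subgroup.orderOf_mk] at this
  have h2 : orderOf f ∣ 2 ^ k := by
    have := orderOf_dvd_natCard f
    rw [IsCyclic.card_mulAut, hk] at this
    rcases Nat.eq_zero_or_pos k with rfl | h0
    · simpa using this
    · rw [Nat.totient_prime_pow Nat.prime_two h0] at this
      simp only [Nat.add_one_sub_one, mul_one] at this
      exact this.trans (pow_dvd_pow 2 (Nat.sub_le k 1))
  have hf : f = 1 := orderOf_eq_one_iff.1
    (Nat.eq_one_of_dvd_coprimes ((Nat.coprime_two_right.2 ho).pow_right k) h1 h2)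
  refine mem_centralizer_iff.2 fun x hx => ?_
  have h3 := congrArg Subtype.val (DFunLike.congr_fun hf ⟨x, hx⟩)
  exact (mul_inv_eq_iff_eq_mul.1 h3).symm

/-- A two-group normalising a `q`-group fixes one of the conjugates fixed by that group. -/
theorem exists_common_fixed {q : ℕ} [Fact q.Prime] {M Z Q P T : Subgroup K} [M.Normal]
    (hMc : (Nat.card M).Coprime q) (htop : M ⊔ normalizer (Z : Set K) = ⊤) (hQ : IsPGroup q Q)
    (hQZ : Q ≤ normalizer (Z : Set K)) (hP : IsPGroup 2 P) (hPQ : P ≤ normalizer (Q : Set K))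
    (hT : T ≤ M) (hTQ : T ≤ centralizer (Q : Set K)) (hTZ : T ≤ normalizer (Z : Set K))
    (hodd : Odd (T.relIndex M)) :
    ∃ k : K, (∀ x ∈ P, k⁻¹ * x * k ∈ normalizer (Z : Set K)) ∧
      ∀ x ∈ Q, k⁻¹ * x * k ∈ normalizer (Z : Set K) := by
  haveI : Fact (Nat.Prime 2) := ⟨Nat.prime_two⟩
  set L := M ⊓ centralizer (Q : Set K) with hL
  have hNL : normalizer (Q : Set K) ≤ normalizer (L : Set K) :=
    Cfsg.Lib.Coprime.le_normalizer_inf (le_normalizer_of_normal (H := M)) (normalizer_le_normalizer_centralizer' Q)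
  have hPL : P ≤ normalizer (L : Set K) := hPQ.trans hNL
  set U := L ⊔ P with hU
  set H := U ⊓ normalizer (Z : Set K) with hH
  have hUQ : U ≤ normalizer (Q : Set K) :=
    sup_le (inf_le_right.trans (centralizer_le_normalizer _)) hPQ
  -- every element moves the fixed conjugate to another one
  have hdec : ∀ x ∈ U, ∃ l ∈ L, ∃ h ∈ H, x = l * h := by
    intro x hx
    obtain ⟨m, hm, n, hn, hmn⟩ := mem_sup_of_normal_left.1 (htop ▸ mem_top x : x ∈ M ⊔ normalizer (Z : Set K))
    have hmQ : ∀ a ∈ Q, m⁻¹ * a * m⁻¹⁻¹ ∈ normalizer (Z : Set K) := by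
      intro a ha
      have hax : x⁻¹ * a * x⁻¹⁻¹ ∈ Q := (mem_normalizer_iff.1 (inv_mem (hUQ hx)) a).1 ha
      rw [show m⁻¹ * a * m⁻¹⁻¹ = n * (x⁻¹ * a * x⁻¹⁻¹) * n⁻¹ by rw [← hmn]; group]
      exact mul_mem (mul_mem hn (hQZ hax)) (inv_mem hn)
    obtain ⟨l, hl, hla⟩ := Cfsg.Lib.ZJ.exists_coprime_conj (Z := Z) hMc hQ le_normalizer_of_normal hQZ
      (inv_mem hm) hmQ
    have hc : m * l ∈ L := ⟨mul_mem hm hl.1, mem_centralizer_iff.2 fun a ha => by
      have := hla a ha
      calc a * (m * l) = m * (m⁻¹ * a * m⁻¹⁻¹) * l := by group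
        _ = m * (l * a * l⁻¹) * l := by rw [this]
        _ = m * l * a := by group⟩
    have hlZ : l⁻¹ * n ∈ normalizer (Z : Set K) :=
      (normalizer (Z : Set K)).mul_mem ((normalizer (Z : Set K)).inv_mem hl.2) hn
    have hlU : l⁻¹ * n ∈ U := by
      rw [show l⁻¹ * n = (m * l)⁻¹ * x by rw [← hmn]; group]
      exact U.mul_mem (U.inv_mem (mem_sup_left hc)) hx
    exact ⟨m * l, hc, l⁻¹ * n, ⟨hlU, hlZ⟩, by rw [← hmn]; group⟩
  -- the stabiliser has odd index
  have hHU : H.relIndex U ∣ T.relIndex M := by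
    have h1 : H.relIndex U = (L ⊓ H).relIndex L := by
      rw [show (L ⊓ H).relIndex L = H.relIndex L from inf_relIndex_left L H]
      let f : L ⧸ H.subgroupOf L → U ⧸ H.subgroupOf U :=
        Quotient.map' (Subgroup.inclusion (le_sup_left : L ≤ U)) fun a b h => by
          rw [QuotientGroup.leftRel_apply, mem_subgroupOf] at h ⊢
          exact h
      refine (Nat.card_congr (Equiv.ofBijective f ⟨?_, ?_⟩)).symm
      · intro a b
        refine Quotient.inductionOn₂' a b fun a b h => ?_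
        refine Quotient.sound' ?_
        have h' := Quotient.exact' h
        rw [QuotientGroup.leftRel_apply, mem_subgroupOf] at h' ⊢
        exact h'
      · intro a
        refine Quotient.inductionOn' a fun a => ?_
        obtain ⟨l, hl, h, hh, e⟩ := hdec a a.2
        refine ⟨Quotient.mk'' ⟨l, hl⟩, ?_⟩
        refine Quotient.sound' ?_
        rw [QuotientGroup.leftRel_apply, mem_subgroupOf]
        show l⁻¹ * (a : K) ∈ H
        rw [e, inv_mul_cancel_left]
        exact hh
    have h2 : T ≤ L ⊓ H := le_inf (le_inf hT hTQ) (le_inf ((le_inf hT hTQ).trans le_sup_left) hTZ)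
    rw [h1]
    exact (relIndex_dvd_of_le_left L h2).trans ⟨L.relIndex M, (relIndex_mul_relIndex T L M (le_inf hT hTQ)
      inf_le_left).symm⟩
  -- so contains a Sylow subgroup
  obtain ⟨S⟩ : Nonempty (Sylow 2 H) := inferInstance
  have hodd' : Odd (H.relIndex U) := hodd.of_dvd_nat hHU
  set H' := H.subgroupOf U with hH'
  obtain ⟨S'⟩ : Nonempty (Sylow 2 H') := inferInstance
  have hi : ¬ 2 ∣ ((S' : Subgroup H').map H'.subtype).index := by
    rw [index_map_subtype, Nat.Prime.dvd_mul Nat.prime_two]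
    rintro (h | h)
    · exact S'.not_dvd_index h
    · exact Nat.not_even_iff_odd.2 hodd' (even_iff_two_dvd.2 h)
  obtain ⟨S₂, hS₂⟩ := (hP.comap_subtype (K := U)).exists_le_sylow
  obtain ⟨u, hu⟩ := MulAction.exists_smul_eq U ((S'.2.map H'.subtype).toSylow hi) S₂
  refine ⟨u, fun x hx => ?_, fun x hx => hQZ ((mem_normalizer_iff''.1 (hUQ u.2) x).1 hx)⟩
  have hxU : x ∈ U := mem_sup_right hx
  have h3 : (⟨x, hxU⟩ : U) ∈ S₂ := hS₂ hx
  rw [← hu, ← SetLike.mem_coe, Sylow.coe_smul] at h3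
  obtain ⟨y, ⟨w, -, rfl⟩, hy⟩ := h3
  have h4 : (u : K) * ((w : U) : K) * (u : K)⁻¹ = x := congrArg Subtype.val hy
  rw [← h4, show (u : K)⁻¹ * ((u : K) * ((w : U) : K) * (u : K)⁻¹) * u = ((w : U) : K) by group]
  exact (w.2 : ((w : U) : K) ∈ H).2

variable {q : ℕ} [Fact q.Prime]

/-- A two-group and a `q`-group fix a conjugate of `Z(J(R))`. -/
theorem zj_fixed (hq : q ≠ 2) (hst : Cfsg.Lib.ZJ.Stable q (K ⧸ Cfsg.pPrimeCore q K)) {D : Subgroup K} [D.Normal]
    (hD : IsPGroup q D) (T : Sylow 2 (centralizer (D : Set K))) (hT : IsCyclic T) (R : Sylow q K)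
    {P Q : Subgroup K} (hP : IsPGroup 2 P) (hQR : Q ≤ (R : Subgroup K)) (hPQ : P ≤ normalizer (Q : Set K)) :
    ∃ k : K, (∀ x ∈ P, k⁻¹ * x * k ∈ normalizer (Cfsg.centerThompsonAOf (R : Subgroup K) : Set K)) ∧
      ∀ x ∈ Q, k⁻¹ * x * k ∈ normalizer (Cfsg.centerThompsonAOf (R : Subgroup K) : Set K) := by
  haveI : Fact (Nat.Prime 2) := ⟨Nat.prime_two⟩
  haveI hCs : Group.IsSolvable ↥(centralizer (D : Set K)) := Cfsg.Lib.CyclicInter.solvable_of_cyclic T hT
  set M := Cfsg.pPrimeCore q K with hMdef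
  haveI : M.Normal := Cfsg.Lib.Components.pPrimeCore_normal' q
  have hMc : (Nat.card M).Coprime q := Cfsg.Lib.Components.coprime_card_pPrimeCore q
  obtain ⟨r, hr⟩ := hD.exists_card_eq
  have hMD : ∀ x ∈ M, ∀ y ∈ D, x * y * x⁻¹ * y⁻¹ = 1 := fun x hx y hy =>
    Cfsg.Lib.Coprime.eq_one_of_coprime (N := M) (H := D) (by rw [hr]; exact hMc.pow_right r)
      (by rw [show x * y * x⁻¹ * y⁻¹ = x * (y * x⁻¹ * y⁻¹) by group]
          exact mul_mem hx (Normal.conj_mem inferInstance _ (inv_mem hx) y))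
      (mul_mem (Normal.conj_mem inferInstance _ hy x) (inv_mem hy))
  have hMC : M ≤ (centralizer (D : Set K)) := fun x hx => mem_centralizer_iff.2 fun y hy =>
    (mul_inv_eq_iff_eq_mul.1 (mul_inv_eq_one.1 (hMD x hx y hy))).symm
  set π := QuotientGroup.mk' M
  have hπ : Function.Surjective π := QuotientGroup.mk'_surjective M
  have h1 : Cfsg.pPrimeCore q (K ⧸ M) = ⊥ := Cfsg.Lib.Components.pPrimeCore_quotient_eq_bot
  set O := Cfsg.pCore q (K ⧸ M) with hO
  have hDO : D.map π ≤ O := by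
    haveI : (D.map π).Normal := Subgroup.Normal.map inferInstance π hπ
    exact Cfsg.Lib.Components.le_pCore (hD.map π)
  -- the centraliser of the core is soluble
  have hle : centralizer (O : Set (K ⧸ M)) ≤ (centralizer (D : Set K)).map π := by
    intro y hy
    obtain ⟨x, rfl⟩ := hπ y
    refine mem_map_of_mem π (mem_centralizer_iff.2 fun d hd => ?_)
    have h2 := mem_centralizer_iff.1 hy (π d) (hDO (mem_map_of_mem π hd))
    have h3 : x * d * x⁻¹ * d⁻¹ ∈ M := by
      rw [← QuotientGroup.eq_one_iff, ← QuotientGroup.mk'_apply]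
      show π (x * d * x⁻¹ * d⁻¹) = 1
      rw [map_mul, map_mul, map_mul, ← h2, map_inv, map_inv, mul_inv_cancel_right, mul_inv_cancel]
    have h4 := Cfsg.Lib.Coprime.eq_one_of_coprime (N := M) (H := D) (by rw [hr]; exact hMc.pow_right r) h3
      (mul_mem (Normal.conj_mem inferInstance _ hd x) (inv_mem hd))
    exact (mul_inv_eq_iff_eq_mul.1 (mul_inv_eq_one.1 h4)).symm
  haveI : Group.IsSolvable ((centralizer (D : Set K)).map π) := Group.isSolvable_of_surjective (π.subgroupMap_surjective (centralizer (D : Set K)))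
  haveI : Group.IsSolvable (centralizer (O : Set (K ⧸ M))) :=
    Group.isSolvable_of_isSolvable_injective (Subgroup.inclusion_injective hle)
  have hcon : Cfsg.IsPConstrained q (K ⧸ M) := by
    obtain ⟨R'⟩ : Nonempty (Sylow q ↥(Cfsg.pPrimePCore q (K ⧸ M))) := inferInstance
    refine Cfsg.Agent.S0629.result R' ?_
    have hpc := Cfsg.Lib.ZJ.pPrimePCore_eq h1
    have hp : IsPGroup q (Cfsg.pPrimePCore q (K ⧸ M)) := hpc ▸ Cfsg.Lib.Components.isPGroup_pCore q
    have hR' : (R' : Subgroup ↥(Cfsg.pPrimePCore q (K ⧸ M))) = ⊤ :=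
      (R'.3 (Q := ⊤) (hp.to_subgroup ⊤) le_top).symm
    rw [hR', ← MonoidHom.range_eq_map, range_subtype, hpc]
    exact Cfsg.Lib.Blocks.isPSolvable_of_solvable inferInstance
  -- the ZJ theorem
  have hinj := Cfsg.Lib.ZJ.injOn_mk hMc R.2
  have hn := Cfsg.Lib.ZJ.centerThompsonA_normal (S := R.mapSurjective hπ) hq hst
    (Cfsg.Lib.ZJ.charP_of_isPConstrained h1 hcon) (Cfsg.Lib.ZJ.stronglyClosed_self _)
  change (Cfsg.centerThompsonAOf ((R : Subgroup K).map π)).Normal at hn
  rw [← Cfsg.Lib.ZJ.centerThompsonAOf_map_injOn hinj] at hn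
  set Z := Cfsg.centerThompsonAOf (R : Subgroup K)
  haveI := hn
  set MZ := (Z.map π).comap π
  have hMZ : MZ = M ⊔ Z := by
    show (Z.map π).comap π = _
    rw [comap_map_eq, QuotientGroup.ker_mk', sup_comm]
  have hZR : Z ≤ (R : Subgroup K) :=
    (inf_le_left : Z ≤ Cfsg.thompsonSubgroupAOf (R : Subgroup K)).trans (map_subtype_le _)
  have hRM : (R : Subgroup K) ⊓ MZ = Z := by
    refine le_antisymm (fun x hx => ?_) (le_inf hZR (hMZ ▸ le_sup_right))
    obtain ⟨z, hz, hzx⟩ := hx.2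
    rw [← hinj (hZR hz) hx.1 hzx]
    exact hz
  have hfr := Cfsg.Lib.ZJ.sup_normalizer_inf_eq_top MZ R
  rw [hRM, hMZ, sup_assoc, sup_eq_right.mpr le_normalizer] at hfr
  -- an invariant Sylow subgroup of the core
  obtain ⟨rR, hrR⟩ := R.2.exists_card_eq
  obtain ⟨T₀, hT₀⟩ := Cfsg.Lib.Coprime.exists_invariant_sylow (A := (R : Subgroup K)) (K := M)
    le_normalizer_of_normal (by rw [hrR]; exact (hMc.pow_right rR).symm)
    (Or.inr (Group.isSolvable_of_isSolvable_injective (Subgroup.inclusion_injective hMC))) 2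
  set T₁ := (T₀ : Subgroup M).map M.subtype with hT₁
  have hT₁p : IsPGroup 2 T₁ := T₀.2.map _
  have hT₁M : T₁ ≤ M := map_subtype_le _
  haveI : IsCyclic T₁ := by
    obtain ⟨T₂, hT₂⟩ := (hT₁p.comap_subtype (K := (centralizer (D : Set K)))).exists_le_sylow
    obtain ⟨c, hc⟩ := MulAction.exists_smul_eq (centralizer (D : Set K)) T T₂
    haveI : IsCyclic T := hT
    haveI : IsCyclic ↥(T₂ : Subgroup (centralizer (D : Set K))) :=
      isCyclic_of_surjective (T.equivSMul c |>.trans (MulEquiv.subgroupCongr (by rw [hc]))).toMonoidHom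
        (MulEquiv.surjective _)
    haveI : IsCyclic ↥(T₁.subgroupOf (centralizer (D : Set K))) := isCyclic_of_injective _ (Subgroup.inclusion_injective hT₂)
    exact isCyclic_of_surjective (subgroupOfEquivOfLe (hT₁M.trans hMC)).toMonoidHom (MulEquiv.surjective _)
  have hRT : (R : Subgroup K) ≤ centralizer (T₁ : Set K) := fun x hx => by
    refine centralises_cyclic_two hT₁p (hT₀ hx) ?_
    obtain ⟨j, -, hj⟩ := (Nat.dvd_prime_pow (Fact.out : q.Prime)).1
      (hrR ▸ Subgroup.orderOf_dvd_natCard _ hx)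
    rw [hj]
    exact ((Fact.out : q.Prime).odd_of_ne_two hq).pow
  have hTR : T₁ ≤ centralizer ((R : Subgroup K) : Set K) := le_centralizer_iff.1 hRT
  refine exists_common_fixed hMc hfr (R.2.to_le hQR)
    (hQR.trans (le_normalizer_centerThompsonAOf _)) hP hPQ hT₁M (hTR.trans (centralizer_le hQR))
    ((hTR.trans (centralizer_le hZR)).trans (centralizer_le_normalizer _)) ?_
  have : T₁.relIndex M = (T₀ : Subgroup M).index := by
    rw [Subgroup.relIndex, hT₁, subgroupOf, comap_map_eq_self_of_injective M.subtype_injective]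
  rw [this]
  exact Nat.not_even_iff_odd.1 fun h => T₀.not_dvd_index (even_iff_two_dvd.1 h)

end Cfsg.Lib.SubdegThree
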