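import Cfsg.Agent.SubdegThree.DihFusion
import Cfsg.Agent.SubdegThree.NoQd
import Cfsg.Agent.SubdegThree.ZJStep
import Cfsg.Agent.S3081

/-!
The dihedral situation: no invariant `q`-subgroup links the centralisers of two involutions.
-/

set_option autoImplicit false
set_option linter.style.haveILetI false
set_option linter.unusedSectionVars false

namespace Cfsg.Lib.SubdegThree

open Subgroup

universe u

variable {G : Type u} [Group G] [Finite G]

namespace DihSit

variable (D : DihSit G) {q : ℕ} [Fact q.Prime]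

theorem _root_.Cfsg.Lib.SubdegThree.odd_of_q (hq : q ≠ 2) {R : Subgroup G} (hR : IsPGroup q R) :
    Odd (Nat.card R) := by
  obtain ⟨r, hr⟩ := hR.exists_card_eq
  rw [hr]
  exact ((Fact.out : q.Prime).odd_of_ne_two hq).pow

theorem not_qd (D : DihSit G) (hq : q ≠ 2) : ¬ Cfsg.Involves ↥(Cfsg.qd q) G := by
  refine not_involves_qd hq D.S fun u hu v hv hu2 hv2 => ?_
  obtain ⟨i, rfl | rfl⟩ := D.hgen u hu
  · obtain ⟨j, rfl | rfl⟩ := D.hgen v hv
    · exact (Commute.pow_pow_self D.c i j).eq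
    · exact absurd (D.refl_sq j) hv2
  · exact absurd (D.refl_sq i) hu2

/-- A reflection and the central involution centralise `R`: odd elements normalising `R` centralise it. -/
theorem bad_case {R : Subgroup G} (hR : Odd (Nat.card R)) (hne : R ≠ ⊥) (hP : D.P ≤ normalizer (R : Set G)) {i : ℕ}
    (hi : D.c ^ i * D.t ∈ centralizer (R : Set G)) (hz : D.z ∈ centralizer (R : Set G)) :
    R ≤ D.Y ∧ ∀ k ∈ normalizer (R : Set G), Odd (orderOf k) → k ∈ centralizer (R : Set G) := by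
  have hRO : R ≤ D.O := fun y hy => D.hOmem y (mem_centralizer_iff.1 hz y hy) (odd_orderOf_of_mem hR hy)
  have hodd : ¬ 2 ∣ i := by
    rintro ⟨a, rfl⟩
    refine hne ((Subgroup.eq_bot_iff_forall _).2 fun y hy => ?_)
    have hyO := hRO hy
    refine eq_one_of_odd_of_two (odd_orderOf_of_mem hR hy) ?_
    have h1 := mem_centralizer_iff.1 hi y hy
    have h2 : D.c ^ (2 * a) * D.t * y * (D.c ^ (2 * a) * D.t)⁻¹ = y⁻¹ := by
      rw [show D.c ^ (2 * a) * D.t * y * (D.c ^ (2 * a) * D.t)⁻¹ =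
        D.c ^ (2 * a) * (D.t * y * D.t⁻¹) * (D.c ^ (2 * a))⁻¹ by group, D.t_inv hyO,
        D.c_even_O a (inv_mem hyO), mul_inv_cancel_right]
    rw [← h1, mul_inv_cancel_right] at h2
    nth_rewrite 1 [h2]
    exact inv_mul_cancel y
  obtain ⟨a, rfl⟩ : ∃ a, i = 2 * a + 1 := ⟨i / 2, by omega⟩
  have hRY : R ≤ D.Y := by
    intro y hy
    have hyO := hRO hy
    refine ⟨hyO, ?_⟩
    have h1 := mem_centralizer_iff.1 hi y⁻¹ (inv_mem hy)
    have h2 : D.c ^ (2 * a) * (D.c * y * D.c⁻¹) * (D.c ^ (2 * a))⁻¹ = y⁻¹ := by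
      have h3 : D.c ^ (2 * a + 1) * D.t * y⁻¹ * (D.c ^ (2 * a + 1) * D.t)⁻¹ = y⁻¹ := by
        rw [← h1, mul_inv_cancel_right]
      rw [show D.c ^ (2 * a + 1) * D.t * y⁻¹ * (D.c ^ (2 * a + 1) * D.t)⁻¹ =
        D.c ^ (2 * a + 1) * (D.t * y⁻¹ * D.t⁻¹) * (D.c ^ (2 * a + 1))⁻¹ by group, D.t_inv (inv_mem hyO),
        inv_inv, pow_succ] at h3
      rw [← h3]
      group
    have h4 : D.c * y * D.c⁻¹ ∈ D.O := D.O_conj D.cz hyO
    rwa [D.c_even_O a h4, mul_inv_cancel_right] at h2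
  refine ⟨hRY, fun k hk hko => ?_⟩
  -- a Sylow subgroup of the centraliser, with centre generated by the central involution
  haveI : Fact (Nat.Prime 2) := ⟨Nat.prime_two⟩
  set K := normalizer (R : Set G) with hK
  obtain ⟨T, hT⟩ := (D.P_isPGroup.comap_subtype (K := K)).exists_le_sylow
  have hTS : (T : Subgroup K).map K.subtype ≤ (D.S : Subgroup G) :=
    D.two_le_S (T.2.map _) fun x hx => ⟨⟨x, hP hx⟩, hT hx, rfl⟩
  have hTmem : ∀ x : K, (x : G) ∈ (D.S : Subgroup G) →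
      x ∈ (T : Subgroup K) := by
    intro x hx
    have hle : (T : Subgroup K) ≤
        (D.S : Subgroup G).subgroupOf K := fun y hy => hTS ⟨y, hy, rfl⟩
    rw [← T.3 (D.S.2.comap_subtype) hle]
    exact hx
  set C : Subgroup K := (centralizer (R : Set G)).subgroupOf K with hC
  haveI : C.Normal := by
    refine (normal_subgroupOf_iff_le_normalizer (centralizer_le_normalizer _)).2 ?_
    exact normalizer_le_normalizer_centralizer' R
  obtain ⟨c', hc', b, hb, hcb⟩ := mem_sup_of_normal_left.1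
    ((Cfsg.Lib.ZJ.sup_normalizer_inf_eq_top C T).ge (mem_top ⟨k, hk⟩))
  have hcb' : (c' : G) * (b : G) = k := congrArg Subtype.val hcb
  have heC : D.e ∈ centralizer (R : Set G) := mem_centralizer_iff.2 fun y hy => (D.e_O (hRO hy)).symm
  have hsC : D.s ∈ centralizer (R : Set G) := mem_centralizer_iff.2 fun y hy => (D.s_Y (hRY hy)).symm
  have hW : ∀ {w : G}, w ∈ (D.S : Subgroup G) → (hw : w ∈ centralizer (R : Set G)) →
      (⟨w, centralizer_le_normalizer _ hw⟩ : K) ∈ (T : Subgroup K) ⊓ C := fun hwS hw => ⟨hTmem _ hwS, hw⟩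
  have hbz : (b : G) * D.z = D.z * (b : G) := by
    set w : G := (b : G) * D.z * (b : G)⁻¹ with hw
    have hmem : ∀ x : K, x ∈ (T : Subgroup K) ⊓ C → (b : G) * x * (b : G)⁻¹ ∈ (D.S : Subgroup G) :=
      fun x hx => hTS ⟨b * x * b⁻¹, ((mem_normalizer_iff.1 hb x).1 hx).1, rfl⟩
    have hwS : w ∈ (D.S : Subgroup G) := hmem _ (hW (D.hPS D.z_mem_P) hz)
    have hcomm : ∀ v, v ∈ (D.S : Subgroup G) → v ∈ centralizer (R : Set G) → w * v = v * w := by
      intro v hv hvC
      have h1 : b⁻¹ * ⟨v, centralizer_le_normalizer _ hvC⟩ * b⁻¹⁻¹ ∈ (T : Subgroup K) ⊓ C :=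
        (mem_normalizer_iff.1 (inv_mem hb) _).1 (hW hv hvC)
      have h2 : (b : G)⁻¹ * v * ((b : G)⁻¹)⁻¹ ∈ (D.S : Subgroup G) := hTS ⟨_, h1.1, rfl⟩
      have h3 := D.z_S h2
      calc w * v = (b : G) * (D.z * ((b : G)⁻¹ * v * ((b : G)⁻¹)⁻¹)) * (b : G)⁻¹ := by rw [hw]; group
        _ = (b : G) * ((b : G)⁻¹ * v * ((b : G)⁻¹)⁻¹ * D.z) * (b : G)⁻¹ := by rw [h3]
        _ = v * w := by rw [hw]; group
    have hw2 : orderOf w = 2 := by rw [hw, ← MulAut.conj_apply, MulEquiv.orderOf_eq, D.order_z]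
    rcases D.invol_cases hwS hw2 with h | ⟨j, h⟩
    · exact mul_inv_eq_iff_eq_mul.1 h
    · exfalso
      have h1 := hcomm D.e (D.hPS D.e_mem_P) heC
      obtain ⟨e₀, he⟩ := D.e_pow
      rw [h, he, mul_assoc, ← mul_assoc (D.c ^ (2 * e₀)), (Commute.pow_pow_self D.c (2 * e₀) j).eq,
        mul_assoc (D.c ^ j)] at h1
      have h5 := D.t_conj_pow (2 * e₀)
      rw [mul_left_cancel h1, mul_inv_cancel_right, ← he] at h5
      refine D.z_ne (D.e_sq.symm.trans ?_)
      nth_rewrite 1 [h5]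
      exact inv_mul_cancel _
  obtain ⟨o, ho, σ, hσ, hbσ⟩ := D.hCdec _ hbz
  refine mem_centralizer_iff.2 fun y hy => ?_
  have hsq : k * (k * y * k⁻¹) * k⁻¹ = y := by
    have hconj : ∀ y ∈ R, k * y * k⁻¹ = y ∨ k * y * k⁻¹ = y⁻¹ := by
      intro y hy
      have hy' := hRY hy
      have hrot : ∀ j, D.c ^ j * y * (D.c ^ j)⁻¹ = y ∨ D.c ^ j * y * (D.c ^ j)⁻¹ = y⁻¹ := by
        intro j
        rcases Nat.even_or_odd' j with ⟨e, rfl | rfl⟩
        · left; rw [D.c_even_O e hy'.1, mul_inv_cancel_right]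
        · right
          rw [pow_succ, show D.c ^ (2 * e) * D.c * y * (D.c ^ (2 * e) * D.c)⁻¹ =
            D.c ^ (2 * e) * (D.c * y * D.c⁻¹) * (D.c ^ (2 * e))⁻¹ by group, hy'.2,
            D.c_even_O e (inv_mem hy'.1), mul_inv_cancel_right]
      have hsy : σ * y * σ⁻¹ = y ∨ σ * y * σ⁻¹ = y⁻¹ := by
        obtain ⟨j, rfl | rfl⟩ := D.hgen σ hσ
        · exact hrot j
        · rw [show D.c ^ j * D.t * y * (D.c ^ j * D.t)⁻¹ = D.c ^ j * (D.t * y * D.t⁻¹) * (D.c ^ j)⁻¹ by group,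
            D.t_inv hy'.1, show D.c ^ j * y⁻¹ * (D.c ^ j)⁻¹ = (D.c ^ j * y * (D.c ^ j)⁻¹)⁻¹ by group]
          rcases hrot j with e | e <;> rw [e]
          exacts [Or.inr rfl, Or.inl (inv_inv y)]
      have hfix : ∀ v ∈ R, (c' : G) * v * (c' : G)⁻¹ = v := fun v hv => by
        rw [show (c' : G) * v = v * c' from (mem_centralizer_iff.1 hc' v hv).symm, mul_inv_cancel_right]
      rw [← hcb', show (c' : G) * (b : G) * y * ((c' : G) * (b : G))⁻¹ =
        (c' : G) * ((b : G) * y * (b : G)⁻¹) * (c' : G)⁻¹ by group, hbσ,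
        show o * σ * y * (o * σ)⁻¹ = o * (σ * y * σ⁻¹) * o⁻¹ by group]
      rcases hsy with e | e <;> rw [e]
      · left; rw [D.O_comm ho hy'.1, mul_inv_cancel_right, hfix y hy]
      · right; rw [D.O_comm ho (inv_mem hy'.1), mul_inv_cancel_right, hfix _ (inv_mem hy)]
    rcases hconj y hy with e | e <;> rw [e]
    · exact e
    · rw [show k * y⁻¹ * k⁻¹ = (k * y * k⁻¹)⁻¹ by group, e, inv_inv]
  have h2 : Commute (k ^ 2) y := by
    show k ^ 2 * y = y * k ^ 2
    calc k ^ 2 * y = k * (k * y * k⁻¹) * k⁻¹ * (k * k) := by rw [pow_two]; group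
      _ = y * k ^ 2 := by rw [hsq, pow_two]
  obtain ⟨e, he⟩ := hko
  have h3 : (k ^ 2) ^ (e + 1) = k := by
    rw [← pow_mul, show 2 * (e + 1) = orderOf k + 1 by omega, pow_succ, pow_orderOf_eq_one, one_mul]
  have h4 := h2.pow_left (e + 1)
  rw [h3] at h4
  exact h4.eq.symm

/-- The hypotheses of the climb. -/
structure Ladder (D : DihSit G) (q : ℕ) where
  Q : Subgroup G
  x : G
  hQ : IsPGroup q Q
  hPQ : D.P ≤ normalizer (Q : Set G)
  hx1 : x ≠ 1
  hxQ : x ∈ Q
  hxt : x * D.t = D.t * x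
  hx'Q : D.d⁻¹ * x * D.d ∈ Q
  hY : ∀ y ∈ D.Y, (∃ k, y ^ q ^ k = 1) → D.d * y * D.d⁻¹ ∈ Q ∧ D.d⁻¹ * y * D.d ∈ Q

/-- The bad case contradicts the product of the conjugates of `Y`. -/
theorem Ladder.no_bad (L : Ladder D q) (hq : q ≠ 2) {R : Subgroup G} (hR : IsPGroup q R) (hne : R ≠ ⊥)
    (hP : D.P ≤ normalizer (R : Set G)) (hQR : L.Q ≤ normalizer (R : Set G)) {i : ℕ}
    (hi : D.c ^ i * D.t ∈ centralizer (R : Set G)) (hz : D.z ∈ centralizer (R : Set G)) : False := by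
  obtain ⟨hRY, hcent⟩ := D.bad_case (odd_of_q hq hR) hne hP hi hz
  have hQc : ∀ a ∈ L.Q, a ∈ centralizer (R : Set G) := fun a ha =>
    hcent a (hQR ha) (odd_orderOf_of_mem (odd_of_q hq L.hQ) ha)
  let Y₀ : Subgroup G :=
    { carrier := {y | y ∈ D.Y ∧ ∃ k, y ^ q ^ k = 1}
      one_mem' := ⟨one_mem _, 0, one_pow _⟩
      mul_mem' := by
        rintro a b ⟨ha, k, hk⟩ ⟨hb, l, hl⟩
        refine ⟨mul_mem ha hb, k + l, ?_⟩
        rw [Commute.mul_pow (D.O_comm ha.1 hb.1), pow_add, pow_mul, hk, one_pow, one_mul,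
          mul_comm (q ^ k), pow_mul, hl, one_pow]
      inv_mem' := by
        rintro a ⟨ha, k, hk⟩
        exact ⟨inv_mem ha, k, by rw [inv_pow, hk, inv_one]⟩ }
  refine hne ((Subgroup.eq_bot_iff_forall _).2 fun y hy => ?_)
  have hyq : ∃ k, y ^ q ^ k = 1 := by
    obtain ⟨k, hk⟩ := hR ⟨y, hy⟩
    exact ⟨k, congrArg Subtype.val hk⟩
  exact D.gamma_bot (Y₀ := Y₀) (fun a ha => ha.1) ⟨hRY hy, hyq⟩
    (fun w hw => mem_centralizer_iff.1 (hQc _ (L.hY w hw.1 hw.2).1) y hy)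
    (fun w hw => mem_centralizer_iff.1 (hQc _ (L.hY w hw.1 hw.2).2) y hy)

/-- In the good case the centraliser has cyclic Sylow two-subgroups. -/
theorem cyclic_cent {R : Subgroup G} (hgood : ∀ i, ¬ (D.c ^ i * D.t ∈ centralizer (R : Set G) ∧
    D.z ∈ centralizer (R : Set G))) :
    IsCyclic ↥((D.S : Subgroup G) ⊓ centralizer (R : Set G)) := by
  set W := (D.S : Subgroup G) ⊓ centralizer (R : Set G) with hW
  by_cases hrot : ∀ w ∈ W, w ∈ zpowers D.c
  · exact isCyclic_of_injective (Subgroup.inclusion (show W ≤ zpowers D.c from hrot))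
      (Subgroup.inclusion_injective _)
  push Not at hrot
  obtain ⟨w, hw, hwc⟩ := hrot
  obtain ⟨i, rfl | rfl⟩ := D.hgen w hw.1
  · exact absurd (pow_mem (mem_zpowers _) _) hwc
  have hzC : D.z ∉ centralizer (R : Set G) := fun h => hgood i ⟨hw.2, h⟩
  have hall : ∀ v ∈ W, v = 1 ∨ v = D.c ^ i * D.t := by
    intro v hv
    have hpow : ∀ j, D.c ^ j ∈ W → D.c ^ j = 1 := by
      intro j hj
      by_contra hne
      obtain ⟨k, hk⟩ := D.S.2.exists_card_eq
      obtain ⟨r, -, hr⟩ := (Nat.dvd_prime_pow Nat.prime_two).1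
        (hk ▸ Subgroup.orderOf_dvd_natCard _ hj.1)
      obtain ⟨r', rfl⟩ : ∃ r', r = r' + 1 := Nat.exists_eq_succ_of_ne_zero (by
        rintro rfl
        rw [pow_zero, orderOf_eq_one_iff] at hr
        exact hne hr)
      set u := (D.c ^ j) ^ 2 ^ r' with hu
      have hu2 : orderOf u = 2 := by
        rw [hu, orderOf_pow' _ (by positivity), hr, Nat.gcd_eq_right (pow_dvd_pow 2 (Nat.le_succ _)),
          pow_succ, Nat.mul_div_cancel_left _ (by positivity)]
      have huW : u ∈ W := pow_mem hj _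
      rcases D.invol_cases huW.1 hu2 with e | ⟨l, e⟩
      · exact hzC (e ▸ huW.2)
      · refine D.not_pow_comm (i := l) ?_
        rw [← e, hu, ← pow_mul]
        exact (Commute.pow_self D.c _).eq
    obtain ⟨j, rfl | rfl⟩ := D.hgen v hv.1
    · exact Or.inl (hpow j hv)
    · right
      have h1 : D.c ^ j * D.t * (D.c ^ i * D.t) = D.c ^ (j + (D.m - 1) * i) := by
        rw [show D.c ^ j * D.t * (D.c ^ i * D.t) = D.c ^ j * (D.t * D.c ^ i * D.t⁻¹) * (D.t * D.t) by group,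
          D.t_conj_pow, D.t_sq, mul_one, pow_add, mul_comm (D.m - 1) i, pow_mul]
        congr 1
        refine (eq_inv_of_mul_eq_one_left ?_).symm
        rw [← pow_succ, Nat.sub_add_cancel (by have := D.hm; omega), ← pow_mul, D.c_pow_one]
        exact dvd_mul_left _ _
      have h2 := hpow _ (h1 ▸ mul_mem hv hw)
      rw [← h1] at h2
      exact (eq_inv_of_mul_eq_one_left h2).trans (inv_eq_of_mul_eq_one_right (D.refl_sq i))
  have hwz : W ≤ zpowers (D.c ^ i * D.t) := fun v hv => by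
    rcases hall v hv with rfl | rfl
    exacts [one_mem _, mem_zpowers _]
  exact isCyclic_of_injective (Subgroup.inclusion hwz) (Subgroup.inclusion_injective _)

/-- An element of the normaliser of the four-group centralising `t` completes `P` to the whole subgroup. -/
theorem range_of_outside {H : Subgroup G} (hP : D.P ≤ H) {n : G} (hn : n ∈ H) (hnt : n * D.t = D.t * n)
    (hz : n * D.z * n⁻¹ = 1 ∨ n * D.z * n⁻¹ = D.z ∨ n * D.z * n⁻¹ = D.t ∨ n * D.z * n⁻¹ = D.z * D.t)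
    (hnV : ¬ (n = 1 ∨ n = D.z ∨ n = D.t ∨ n = D.z * D.t)) : D.ι.range ≤ H := by
  obtain ⟨k, rfl⟩ := D.mem_range_of hz (Or.inr (Or.inr (Or.inl (mul_inv_eq_iff_eq_mul.2 hnt))))
  have hkb : k * pb = pb * k := D.inj (by rw [map_mul, map_mul]; exact hnt)
  have hkV : ¬ InV k := fun h => hnV (D.of_inV h)
  obtain ⟨a, ha, b, hb, hab⟩ := (by decide +kernel : ∀ k : Equiv.Perm (Fin 4), k * pb = pb * k → ¬ InV k →
    ∃ a, a * pa = pa * a ∧ ∃ b, b * pa = pa * b ∧ pd = a * k * b) k hkb hkV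
  refine D.range_le (hP D.z_mem_P) (hP D.t_mem_P) ?_ (hP D.e_mem_P)
  rw [Sym4.d, hab, map_mul, map_mul]
  exact mul_mem (mul_mem (hP (D.mem_P.2 ha)) hn) (hP (D.mem_P.2 hb))

/-- In a subgroup without the whole of the subgroup `S₄` the centraliser of `t` has Sylow subgroup the four-group. -/
theorem cent_t_sylow {H : Subgroup G} (hP : D.P ≤ H) (hnA : ¬ D.ι.range ≤ H) {T : Subgroup G}
    (hT : IsPGroup 2 T) (hTH : T ≤ H) (hTt : ∀ x ∈ T, x * D.t = D.t * x) (hV : D.V ≤ T) : T ≤ D.V := by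
  haveI : Fact (Nat.Prime 2) := ⟨Nat.prime_two⟩
  by_contra hne
  haveI := hT.isNilpotent
  have hlt := Group.normalizerCondition_of_isNilpotent (D.V.subgroupOf T)
    (lt_top_iff_ne_top.2 fun h => hne (subgroupOf_eq_top.1 h))
  obtain ⟨n, hn, hnV⟩ := SetLike.exists_of_lt hlt
  have hz : (n : G) * D.z * (n : G)⁻¹ ∈ D.V :=
    (mem_normalizer_iff.1 hn ⟨D.z, hV (D.mem_V.2 (Or.inr (Or.inl rfl)))⟩).1 (D.mem_V.2 (Or.inr (Or.inl rfl)))
  exact hnA (D.range_of_outside hP (hTH n.2) (hTt _ n.2) (D.mem_V.1 hz)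
    fun h => hnV (mem_subgroupOf.2 (D.mem_V.2 h)))

/-- The terminal step of the climb. -/
theorem terminal {H : Subgroup G} (hP : D.P ≤ H) (hnA : ¬ D.ι.range ≤ H) {x h : G} (hxo : Odd (orderOf x))
    (hx1 : x ≠ 1) (hxt : x * D.t = D.t * x) (hh : h ∈ H) (hhx : h * x * h⁻¹ = D.d⁻¹ * x * D.d) : False := by
  haveI : Fact (Nat.Prime 2) := ⟨Nat.prime_two⟩
  set L := H ⊓ centralizer ({D.t} : Set G) with hL
  have hVL : D.V ≤ L := by
    intro v hv
    refine ⟨?_, mem_centralizer_singleton_iff.2 ?_⟩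
    · obtain ⟨k, hk, rfl⟩ := hv
      exact hP (D.four_mem_P hk)
    · rcases D.mem_V.1 hv with rfl | rfl | rfl | rfl
      · rw [one_mul, mul_one]
      · exact D.t_z.symm
      · rfl
      · rw [mul_assoc, D.t_sq, mul_one, ← mul_assoc, D.t_z, mul_assoc, D.t_sq, mul_one]
  have hVp : IsPGroup 2 D.V := IsPGroup.of_card (n := 2) (by rw [D.card_V]; rfl)
  obtain ⟨T, hT⟩ := (hVp.comap_subtype (K := L)).exists_le_sylow
  have hTV : (T : Subgroup L).map L.subtype ≤ D.V :=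
    D.cent_t_sylow hP hnA (T.2.map _) ((map_subtype_le _).trans inf_le_left)
      (fun a ha => mem_centralizer_singleton_iff.1 ((map_subtype_le _ ha : a ∈ L)).2)
      (fun v hv => ⟨⟨v, hVL hv⟩, hT hv, rfl⟩)
  have hsmall : ∀ U : Subgroup G, IsPGroup 2 U → U ≤ L → ∃ g ∈ L, ∀ a ∈ U, g * a * g⁻¹ ∈ D.V := by
    intro U hU hUL
    obtain ⟨T', hT'⟩ := (hU.comap_subtype (K := L)).exists_le_sylow
    obtain ⟨g, hg⟩ := MulAction.exists_smul_eq L T' T
    refine ⟨g, g.2, fun a ha => hTV ⟨g * ⟨a, hUL ha⟩ * g⁻¹, ?_, rfl⟩⟩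
    rw [← hg, Sylow.coe_subgroup_smul]
    exact ⟨⟨a, hUL ha⟩, hT' ha, rfl⟩
  -- the two involutions are not conjugate
  have hzt : ∀ g ∈ H, g * D.z * g⁻¹ ≠ D.t := by
    intro g hg e
    obtain ⟨g', hg', hV'⟩ := hsmall (D.P.map (MulAut.conj g).toMonoidHom) (D.P_isPGroup.map _) (by
      rintro _ ⟨a, ha, rfl⟩
      refine ⟨H.mul_mem (H.mul_mem hg (hP ha)) (H.inv_mem hg), mem_centralizer_singleton_iff.2 ?_⟩
      show g * a * g⁻¹ * D.t = D.t * (g * a * g⁻¹)
      rw [← e]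
      calc g * a * g⁻¹ * (g * D.z * g⁻¹) = g * (a * D.z) * g⁻¹ := by group
        _ = _ := by rw [D.z_S (D.hPS ha)]; group)
    have hle : (D.P.map (MulAut.conj g).toMonoidHom).map (MulAut.conj g').toMonoidHom ≤ D.V := by
      rintro _ ⟨a, ha, rfl⟩
      exact hV' a ha
    have := card_dvd_of_le hle
    rw [card_map_of_injective (MulAut.conj g').injective, card_map_of_injective (MulAut.conj g).injective,
      D.card_P, D.card_V] at this
    omega
  -- two involutions centralising the image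
  set u := h * D.t * h⁻¹ with hu
  set y := D.d⁻¹ * x * D.d with hy
  have hu2 : u * u = 1 := by
    rw [hu, show h * D.t * h⁻¹ * (h * D.t * h⁻¹) = h * (D.t * D.t) * h⁻¹ by group, D.t_sq]; group
  have huH : u ∈ H := mul_mem (mul_mem hh (hP D.t_mem_P)) (inv_mem hh)
  have huy : u * y = y * u := by
    rw [hu, ← hhx]
    calc h * D.t * h⁻¹ * (h * x * h⁻¹) = h * (D.t * x) * h⁻¹ := by group
      _ = _ := by rw [← hxt]; group
  have hzy : D.z * y = y * D.z := by
    rw [hy, ← D.d_inv_t]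
    calc D.d⁻¹ * D.t * D.d * (D.d⁻¹ * x * D.d) = D.d⁻¹ * (D.t * x) * D.d := by group
      _ = _ := by rw [← hxt]; group
  set w := u * D.z with hw
  have hinvw : u * w * u⁻¹ = w⁻¹ := by
    rw [hw, mul_inv_rev u D.z, D.z_inv_self, inv_eq_of_mul_eq_one_right hu2,
      show u * (u * D.z) * u = u * u * (D.z * u) by group, hu2, one_mul]
  obtain ⟨n, hn | hn⟩ := Nat.even_or_odd' (orderOf w)
  · -- an involution commuting with both
    have hn0 : 0 < orderOf w := orderOf_pos w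
    set i := w ^ n with hi
    have hio : orderOf i = 2 := by
      rw [hi, orderOf_pow' _ (by omega), hn, Nat.gcd_eq_right (dvd_mul_left n 2),
        Nat.mul_div_cancel _ (by omega)]
    have hi2 : i * i = 1 := by rw [← pow_two, ← hio, pow_orderOf_eq_one]
    have hiu : u * i = i * u := by
      rw [← mul_inv_eq_iff_eq_mul, hi, ← conj_pow, hinvw, inv_pow, inv_eq_iff_mul_eq_one, ← hi, hi2]
    have hiy : i * y = y * i := by
      have h1 : Commute w y := by
        show u * D.z * y = y * (u * D.z)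
        rw [mul_assoc, hzy, ← mul_assoc, huy, mul_assoc]
      exact (h1.pow_left n).eq
    have hiH : i ∈ H := pow_mem (mul_mem huH (hP D.z_mem_P)) _
    have hiu1 : i ≠ u := by
      intro e
      have h1 : Commute u w := by rw [← e]; exact Commute.pow_self w n
      have h2 : w * w = 1 := by
        have := hinvw
        rw [h1.eq, mul_inv_cancel_right] at this
        nth_rewrite 1 [this]
        exact inv_mul_cancel w
      have hn1 : n = 1 := by
        have := Nat.le_of_dvd two_pos (orderOf_dvd_of_pow_eq_one (show w ^ 2 = 1 by rw [pow_two, h2]))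
        omega
      rw [hi, hn1, pow_one, hw, mul_eq_left] at e
      exact D.z_ne e
    set j := h⁻¹ * i * h with hj
    have hjt : j * D.t = D.t * j := by
      rw [hj, show D.t = h⁻¹ * u * h by rw [hu]; group]
      calc h⁻¹ * i * h * (h⁻¹ * u * h) = h⁻¹ * (i * u) * h := by group
        _ = _ := by rw [← hiu]; group
    have hjx : j * x = x * j := by
      rw [hj, show x = h⁻¹ * y * h by rw [← hhx]; group]
      calc h⁻¹ * i * h * (h⁻¹ * y * h) = h⁻¹ * (i * y) * h := by group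
        _ = _ := by rw [hiy]; group
    have hj2 : j * j = 1 := by
      rw [hj, show h⁻¹ * i * h * (h⁻¹ * i * h) = h⁻¹ * (i * i) * h by group, hi2]; group
    have hj1 : j ≠ 1 := fun e => by
      rw [hj] at e
      have : i = h * (h⁻¹ * i * h) * h⁻¹ := by group
      rw [e, mul_one, mul_inv_cancel] at this
      rw [this, orderOf_one] at hio
      omega
    have hjt1 : j ≠ D.t := fun e => hiu1 (by rw [hu, ← e, hj]; group)
    have hjL : zpowers j ≤ L := zpowers_le.2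
      ⟨H.mul_mem (H.mul_mem (H.inv_mem hh) hiH) hh, mem_centralizer_singleton_iff.2 hjt⟩
    obtain ⟨g, hg, hgV⟩ := hsmall (zpowers j) (IsPGroup.of_card (n := 1) (by
      rw [Nat.card_zpowers, pow_one]; exact orderOf_eq_prime (by rw [pow_two, hj2]) hj1)) hjL
    have hgt : g * D.t = D.t * g := mem_centralizer_singleton_iff.1 hg.2
    set x₁ := g * x * g⁻¹ with hx₁
    have hcj : ∀ v, v * x = x * v → x₁ * (g * v * g⁻¹) = g * v * g⁻¹ * x₁ := by
      intro v hv
      calc g * x * g⁻¹ * (g * v * g⁻¹) = g * (x * v) * g⁻¹ := by group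
        _ = _ := by rw [← hv, hx₁]; group
    have h1 : x₁ * D.t = D.t * x₁ := by
      have := hcj D.t hxt.symm
      rwa [hgt, mul_inv_cancel_right] at this
    have h2 : x₁ * D.z = D.z * x₁ := by
      have hj' := hcj j hjx
      rcases D.mem_V.1 (hgV j (mem_zpowers j)) with e | e | e | e
      · exact absurd (conj_eq_one_iff.1 e) hj1
      · rwa [e] at hj'
      · refine absurd ?_ hjt1
        have h3 : j = g⁻¹ * (g * j * g⁻¹) * g := by group
        rw [e, mul_assoc, ← hgt, inv_mul_cancel_left] at h3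
        exact h3
      · rw [e, ← mul_assoc] at hj'
        refine mul_right_cancel (b := D.t) ?_
        rw [hj', mul_assoc D.z D.t x₁, ← h1, ← mul_assoc]
    refine hx1 (conj_eq_one_iff.1 (?_ : x₁ = 1))
    refine eq_one_of_odd_of_two ?_ ?_
    · rw [hx₁, ← MulAut.conj_apply, MulEquiv.orderOf_eq]; exact hxo
    · rcases D.cent_four h2 h1 with e | e | e | e <;> rw [e]
      exacts [one_mul 1, D.z_sq, D.t_sq, by
        rw [show D.z * D.t * (D.z * D.t) = D.z * (D.t * D.z) * D.t by group, D.t_z, mul_assoc, mul_assoc,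
          D.t_sq, mul_one, D.z_sq]]
  · -- otherwise they are conjugate in the subgroup
    set v := w ^ (n + 1) with hv
    have hvu : u * v * u⁻¹ = v⁻¹ := by rw [hv, ← conj_pow, hinvw, inv_pow]
    have hv2 : v * v = w := by
      rw [hv, ← pow_add, show n + 1 + (n + 1) = orderOf w + 1 by omega, pow_succ, pow_orderOf_eq_one, one_mul]
    have huv : v⁻¹ * u * v = D.z := by
      calc v⁻¹ * u * v = u * v * u⁻¹ * u * v := by rw [hvu]
        _ = u * (v * v) := by group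
        _ = D.z := by rw [hv2, hw, ← mul_assoc, hu2, one_mul]
    refine hzt (h⁻¹ * v) (mul_mem (inv_mem hh) (pow_mem (mul_mem huH (hP D.z_mem_P)) _)) ?_
    rw [← huv, hu]
    group

/-- There is no ladder. -/
theorem Ladder.false (L : Ladder D q) (hq : q ≠ 2) : False := by
  classical
  haveI : Fact (Nat.Prime 2) := ⟨Nat.prime_two⟩
  let f : Subgroup G → ℕ := fun R => (Nat.card ↥(normalizer (R : Set G))).factorization q
  let good : Set (Subgroup G) :=
    {R | IsPGroup q R ∧ R ≠ ⊥ ∧ D.P ≤ normalizer (R : Set G) ∧ L.Q ≤ normalizer (R : Set G)}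
  have hQne : L.Q ≠ ⊥ := fun h => L.hx1 (mem_bot.1 (h ▸ L.hxQ))
  obtain ⟨R, ⟨hR, hne, hPR, hQR⟩, hmax⟩ :=
    Set.exists_max_image good f (Set.toFinite _) ⟨L.Q, L.hQ, hQne, L.hPQ, le_normalizer⟩
  have hgood : ∀ i, ¬ (D.c ^ i * D.t ∈ centralizer (R : Set G) ∧ D.z ∈ centralizer (R : Set G)) :=
    fun i h => L.no_bad D hq hR hne hPR hQR h.1 h.2
  have hcyc := D.cyclic_cent hgood
  set K := normalizer (R : Set G) with hK
  -- the Sylow subgroups
  haveI : (R.subgroupOf K).Normal := normal_in_normalizer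
  obtain ⟨T, hT⟩ := (D.P_isPGroup.comap_subtype (K := K)).exists_le_sylow
  have hTS : (T : Subgroup K).map K.subtype ≤ (D.S : Subgroup G) :=
    D.two_le_S (T.2.map _) fun x hx => ⟨⟨x, hPR hx⟩, hT hx, rfl⟩
  obtain ⟨T₂⟩ : Nonempty (Sylow 2 ↥(centralizer (R.subgroupOf K : Set K))) := inferInstance
  have hT₂ : IsCyclic T₂ := by
    obtain ⟨T₃, hT₃⟩ := (T₂.2.map (centralizer (R.subgroupOf K : Set K)).subtype).exists_le_sylow
    obtain ⟨g, hg⟩ := MulAction.exists_smul_eq K T₃ T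
    let φ : ↥(T₂ : Subgroup ↥(centralizer (R.subgroupOf K : Set K))) →* G :=
      (K.subtype.comp ((MulAut.conj g).toMonoidHom.comp (centralizer (R.subgroupOf K : Set K)).subtype)).comp
        (Subgroup.subtype _)
    have hφ : ∀ a, φ a ∈ (D.S : Subgroup G) ⊓ centralizer (R : Set G) := by
      intro a
      refine ⟨hTS ⟨g * (a.1 : K) * g⁻¹, ?_, rfl⟩, mem_centralizer_iff.2 fun r hr => ?_⟩
      · rw [← hg, Sylow.coe_subgroup_smul]
        exact ⟨(a.1 : K), hT₃ ⟨a.1, a.2, rfl⟩, rfl⟩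
      · have h1 : g⁻¹ * ⟨r, le_normalizer hr⟩ * g⁻¹⁻¹ ∈ R.subgroupOf K :=
          Subgroup.Normal.conj_mem inferInstance _ (mem_subgroupOf.2 hr) _
        have h2 := congrArg (fun w : K => ((g * w * g⁻¹ : K) : G)) (mem_centralizer_iff.1 a.1.2 _ h1)
        simp only [Subgroup.coe_mul, Subgroup.coe_inv, mul_assoc, inv_inv, mul_inv_cancel_left] at h2
        show r * ((g : G) * ((a.1 : K) : G) * (g : G)⁻¹) = (g : G) * ((a.1 : K) : G) * (g : G)⁻¹ * r
        simpa [mul_assoc] using h2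
    have hinj : Function.Injective φ := fun a b h => Subtype.ext (Subtype.ext ((MulAut.conj g).injective
      (Subtype.ext h)))
    exact isCyclic_of_injective (φ.codRestrict ((D.S : Subgroup G) ⊓ centralizer (R : Set G)) hφ)
      fun a b h => hinj (congrArg (Subtype.val : ↥((D.S : Subgroup G) ⊓ centralizer (R : Set G)) → G) h)
  -- the fixed conjugate
  obtain ⟨R₀, hR₀⟩ := (L.hQ.comap_subtype (K := K)).exists_le_sylow
  have hst : Cfsg.Lib.ZJ.Stable q (K ⧸ Cfsg.pPrimeCore q K) :=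
    Cfsg.Lib.CtrlD.stable_section hq (D.not_qd hq)
      ⟨K, QuotientGroup.mk' (Cfsg.pPrimeCore q K), QuotientGroup.mk'_surjective _⟩
  have hPQK : D.P.subgroupOf K ≤ normalizer (L.Q.subgroupOf K : Set K) := fun a ha =>
    mem_normalizer_iff.2 fun b => mem_normalizer_iff.1 (L.hPQ ha) b
  obtain ⟨k, hkP, hkQ⟩ := zj_fixed (D := R.subgroupOf K) hq hst (hR.comap_subtype (K := K)) T₂ hT₂ R₀
    (D.P_isPGroup.comap_subtype (K := K)) hR₀ hPQK
  set Z := Cfsg.centerThompsonAOf ((R₀ : Subgroup K).map K.subtype) with hZ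
  have hZmap : (Cfsg.centerThompsonAOf (R₀ : Subgroup K)).map K.subtype = Z :=
    Cfsg.Lib.ZJ.centerThompsonAOf_map_injOn K.subtype_injective.injOn
  have hnorm : ∀ a : K, a ∈ normalizer (Cfsg.centerThompsonAOf (R₀ : Subgroup K) : Set K) →
      (a : G) ∈ normalizer (Z : Set G) := fun a ha => hZmap ▸ le_normalizer_map K.subtype ⟨a, ha, rfl⟩
  set Z' := Z.map (MulAut.conj (k : G)).toMonoidHom with hZ'
  have hN' : ∀ a : K, k⁻¹ * a * k ∈ normalizer (Cfsg.centerThompsonAOf (R₀ : Subgroup K) : Set K) →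
      (a : G) ∈ normalizer (Z' : Set G) := by
    intro a ha
    refine le_normalizer_map (MulAut.conj (k : G)).toMonoidHom ⟨_, hnorm _ ha, ?_⟩
    show (k : G) * ((k⁻¹ * a * k : K) : G) * (k : G)⁻¹ = a
    simp only [Subgroup.coe_mul, Subgroup.coe_inv]
    group
  have hPZ' : D.P ≤ normalizer (Z' : Set G) := fun a ha => hN' ⟨a, hPR ha⟩ (hkP ⟨a, hPR ha⟩ ha)
  have hQZ' : L.Q ≤ normalizer (Z' : Set G) := fun a ha => hN' ⟨a, hQR ha⟩ (hkQ ⟨a, hQR ha⟩ ha)
  set R₁ := (R₀ : Subgroup K).map K.subtype with hR₁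
  have hR₁p : IsPGroup q R₁ := R₀.2.map _
  have hR₁ne : R₁ ≠ ⊥ := fun h => L.hx1 (mem_bot.1 (h ▸ ⟨⟨L.x, hQR L.hxQ⟩, hR₀ L.hxQ, rfl⟩))
  have hZR₁ : Z ≤ R₁ := (inf_le_left : Z ≤ Cfsg.thompsonSubgroupAOf R₁).trans (map_subtype_le _)
  have hgoodZ : Z' ∈ good := by
    refine ⟨(hR₁p.to_le hZR₁).map _, fun h => ?_, hPZ', hQZ'⟩
    rw [hZ', Subgroup.map_eq_bot_iff_of_injective _ (MulAut.conj (k : G)).injective] at h
    exact Cfsg.Lib.ZJ.centerThompsonAOf_ne_bot hR₁p hR₁ne h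
  -- the `q`-part does not grow
  have hfR : f R = (Nat.card R₁).factorization q := by
    show (Nat.card K).factorization q = _
    rw [hR₁, card_map_of_injective K.subtype_injective, R₀.card_eq_multiplicity,
      (Fact.out : q.Prime).factorization_pow, Finsupp.single_eq_same]
  have hNZ : R₁ ≤ normalizer (Z : Set G) := le_normalizer_centerThompsonAOf _
  have hfZ : ∀ U : Subgroup G, IsPGroup q U → U ≤ normalizer (Z : Set G) →
      (Nat.card U).factorization q ≤ f Z' := by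
    intro U hU hle
    have hc : Nat.card U ∣ Nat.card ↥(normalizer (Z' : Set G)) := by
      rw [← card_map_of_injective (f := (MulAut.conj (k : G)).toMonoidHom) (MulAut.conj (k : G)).injective]
      exact card_dvd_of_le ((map_mono hle).trans (le_normalizer_map _))
    exact (Nat.factorization_le_iff_dvd Nat.card_pos.ne' Nat.card_pos.ne').2 hc q
  -- so it is a Sylow subgroup
  obtain ⟨S₁, hS₁⟩ := hR₁p.exists_le_sylow
  have hS₁eq : R₁ = (S₁ : Subgroup G) := by
    by_contra hne'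
    haveI := S₁.2.isNilpotent
    have hlt := Group.normalizerCondition_of_isNilpotent (R₁.subgroupOf (S₁ : Subgroup G))
      (lt_top_iff_ne_top.2 fun h => hne' (le_antisymm hS₁ (subgroupOf_eq_top.1 h)))
    obtain ⟨a, ha, haR⟩ := SetLike.exists_of_lt hlt
    have haN : (a : G) ∈ normalizer (R₁ : Set G) := by
      have := le_normalizer_map (S₁ : Subgroup G).subtype ⟨a, ha, rfl⟩
      rwa [subgroupOf_map_subtype, inf_eq_left.2 hS₁] at this
    have haZ : (a : G) ∈ normalizer (Z : Set G) := by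
      refine mem_normalizer_iff_map_conj_eq.2 ?_
      refine (Cfsg.Lib.ZJ.centerThompsonAOf_map (MulAut.conj (a : G)) R₁).trans ?_
      congr 1
      exact mem_normalizer_iff_map_conj_eq.1 haN
    set U := R₁ ⊔ zpowers (a : G) with hU
    have hUS : U ≤ (S₁ : Subgroup G) := sup_le hS₁ (zpowers_le.2 a.2)
    have hUp : IsPGroup q U := S₁.2.to_le hUS
    have h1 := (hfZ U hUp (sup_le hNZ (zpowers_le.2 haZ))).trans ((hmax Z' hgoodZ).trans_eq hfR)
    obtain ⟨r, hr⟩ := hUp.exists_card_eq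
    obtain ⟨r₁, hr₁⟩ := hR₁p.exists_card_eq
    rw [hr, hr₁, (Fact.out : q.Prime).factorization_pow, (Fact.out : q.Prime).factorization_pow,
      Finsupp.single_eq_same, Finsupp.single_eq_same] at h1
    refine haR (mem_subgroupOf.2 ?_)
    rw [Subgroup.eq_of_le_of_card_ge (le_sup_left : R₁ ≤ U)
      (by rw [hr, hr₁]; exact Nat.pow_le_pow_right (Fact.out : q.Prime).pos h1)]
    exact mem_sup_right (mem_zpowers _)
  -- a Sylow subgroup over `Q` inside the terminal subgroup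
  set H := normalizer (Z' : Set G) with hH
  set S₂ : Sylow q G := (k : G) • S₁ with hS₂
  have hS₂c : (S₂ : Subgroup G) = (S₁ : Subgroup G).map (MulAut.conj (k : G)).toMonoidHom :=
    Sylow.coe_subgroup_smul
  have hZS₂ : Cfsg.centerThompsonAOf (S₂ : Subgroup G) = Z' := by
    rw [hS₂c, ← Cfsg.Lib.ZJ.centerThompsonAOf_map, ← hS₁eq]
  have hS₂H : (S₂ : Subgroup G) ≤ H := by
    rw [hH, ← hZS₂]; exact le_normalizer_centerThompsonAOf _
  obtain ⟨U, hU⟩ := (L.hQ.comap_subtype (K := H)).exists_le_sylow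
  obtain ⟨g, hg⟩ := MulAction.exists_smul_eq H (S₂.subtype hS₂H) U
  set S₃ : Sylow q G := (g : G) • S₂ with hS₃
  have hS₃c : (S₃ : Subgroup G) = (S₂ : Subgroup G).map (MulAut.conj (g : G)).toMonoidHom :=
    Sylow.coe_subgroup_smul
  have hZS₃ : Cfsg.centerThompsonAOf (S₃ : Subgroup G) = Z' := by
    rw [hS₃c, ← Cfsg.Lib.ZJ.centerThompsonAOf_map, hZS₂]
    exact mem_normalizer_iff_map_conj_eq.1 g.2
  have hQS₃ : L.Q ≤ (S₃ : Subgroup G) := by
    intro a ha
    have h1 : (⟨a, hQZ' ha⟩ : H) ∈ U := hU ha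
    rw [← hg, ← SetLike.mem_coe, Sylow.coe_smul] at h1
    obtain ⟨b, hb, hab⟩ := h1
    rw [hS₃c]
    exact ⟨(b : G), hb, congrArg Subtype.val hab⟩
  -- fusion
  have hfus := (Cfsg.Agent.S3081.result hq S₃ (S₃ : Subgroup G) (Cfsg.Lib.ZJ.stronglyClosed_self _)
    (D.not_qd hq)).1 {L.x} (Set.singleton_subset_iff.2 (hQS₃ L.hxQ))
  obtain ⟨h, hh, hhx⟩ := hfus.2 D.d⁻¹ (by
    rw [Set.image_singleton, Set.singleton_subset_iff, inv_inv]
    exact hQS₃ L.hx'Q)
  rw [hZS₃] at hh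
  refine D.terminal (H := H) hPZ' (fun hle => ?_) (odd_orderOf_of_mem (odd_of_q hq L.hQ) L.hxQ) L.hx1 L.hxt
    hh ?_
  · exact hgoodZ.2.1 (D.la Z' (odd_of_q hq hgoodZ.1) hle)
  · rw [← hhx _ rfl, inv_inv]

end DihSit

end Cfsg.Lib.SubdegThree
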