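import Cfsg.Agent.SubdegThree.DihClimb
import Cfsg.Agent.S3277
import Cfsg.Agent.S0508

/-!
The dihedral situation: the group is a projective special linear group of dimension two.
-/

set_option autoImplicit false
set_option linter.style.haveILetI false
set_option linter.unusedSectionVars false

namespace Cfsg.Lib.SubdegThree

open Subgroup

universe u

variable {G : Type u} [Group G] [Finite G]

theorem orderOf_conj' (g x : G) : orderOf (g * x * g⁻¹) = orderOf x := by
  rw [← MulAut.conj_apply, MulEquiv.orderOf_eq]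

theorem commute_conj {a b : G} (g : G) (h : a * b = b * a) :
    g * a * g⁻¹ * (g * b * g⁻¹) = g * b * g⁻¹ * (g * a * g⁻¹) := by
  calc g * a * g⁻¹ * (g * b * g⁻¹) = g * (a * b) * g⁻¹ := by group
    _ = g * b * g⁻¹ * (g * a * g⁻¹) := by rw [h]; group

namespace DihSit

variable (D : DihSit G)

theorem V_le_P : D.V ≤ D.P := by
  rintro _ ⟨k, hk, rfl⟩
  exact D.four_mem_P hk

/-- An odd element fixed by the four-group is trivial. -/
theorem four_fixed {x : G} (hx : Odd (orderOf x)) (hz : x * D.z = D.z * x) (ht : x * D.t = D.t * x) : x = 1 :=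
  D.O_fix (D.hOmem x hz hx) ht

/-- The Sylow two-subgroups of the centraliser of a subgroup normalised by `P`. -/
theorem sylow_cent_le {U : Subgroup G} (hPU : D.P ≤ normalizer (U : Set G))
    (T : Sylow 2 ↥(centralizer (U : Set G))) :
    ∃ g : G, g ∈ normalizer (U : Set G) ∧ ∀ a ∈ (T : Subgroup ↥(centralizer (U : Set G))),
      g * (a : G) * g⁻¹ ∈ (D.S : Subgroup G) ⊓ centralizer (U : Set G) := by
  haveI : Fact (Nat.Prime 2) := ⟨Nat.prime_two⟩
  set K := normalizer (U : Set G) with hK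
  obtain ⟨T₀, hT₀⟩ := (D.P_isPGroup.comap_subtype (K := K)).exists_le_sylow
  have hTS : (T₀ : Subgroup K).map K.subtype ≤ (D.S : Subgroup G) :=
    D.two_le_S (T₀.2.map _) fun x hx => ⟨⟨x, hPU hx⟩, hT₀ hx, rfl⟩
  obtain ⟨T₁, hT₁⟩ := (T.2.map (Subgroup.inclusion (centralizer_le_normalizer (U : Set G)))).exists_le_sylow
  obtain ⟨g, hg⟩ := MulAction.exists_smul_eq K T₁ T₀
  refine ⟨g, g.2, fun a ha => ⟨hTS ⟨g * (Subgroup.inclusion (centralizer_le_normalizer _) a) * g⁻¹, ?_, rfl⟩, ?_⟩⟩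
  · rw [← hg, Sylow.coe_subgroup_smul]
    exact ⟨_, hT₁ ⟨a, ha, rfl⟩, rfl⟩
  · exact (mem_normalizer_iff.1 (normalizer_le_normalizer_centralizer' U g.2) (a : G)).1 a.2

/-- The odd elements of a centraliser with cyclic Sylow two-subgroups form a subgroup. -/
theorem odd_part {U : Subgroup G} (hPU : D.P ≤ normalizer (U : Set G))
    (hcyc : IsCyclic ↥((D.S : Subgroup G) ⊓ centralizer (U : Set G))) :
    ∃ R : Subgroup G, Odd (Nat.card R) ∧ R ≤ centralizer (U : Set G) ∧ D.P ≤ normalizer (R : Set G) ∧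
      (∀ x ∈ centralizer (U : Set G), Odd (orderOf x) → x ∈ R) ∧
      ∀ x ∈ centralizer (U : Set G), x ∈ normalizer (R : Set G) := by
  haveI : Fact (Nat.Prime 2) := ⟨Nat.prime_two⟩
  set C := centralizer (U : Set G) with hC
  obtain ⟨T⟩ : Nonempty (Sylow 2 C) := inferInstance
  have hT : IsCyclic T := by
    obtain ⟨g, -, hg⟩ := D.sylow_cent_le hPU T
    let φ : ↥(T : Subgroup C) →* G :=
      ((MulAut.conj g).toMonoidHom.comp C.subtype).comp (Subgroup.subtype _)
    have hφ : ∀ a, φ a ∈ (D.S : Subgroup G) ⊓ C := fun a => hg a.1 a.2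
    exact isCyclic_of_injective (φ.codRestrict _ hφ) fun a b h => Subtype.ext (Subtype.ext
      ((MulAut.conj g).injective (congrArg (Subtype.val : ↥((D.S : Subgroup G) ⊓ C) → G) h)))
  haveI := hT
  obtain ⟨N, hN, hNodd, hNind⟩ : ∃ N : Subgroup C, N.Normal ∧ Odd (Nat.card N) ∧ ∃ k, N.index = 2 ^ k := by
    by_cases he : 2 ∣ Nat.card C
    · have hmin := (Nat.minFac_eq_two_iff _).2 he
      have hle := IsCyclic.normalizer_le_centralizer hmin hT
      refine ⟨_, MonoidHom.normal_ker (MonoidHom.transferSylow T hle), Nat.not_even_iff_odd.1 fun hev =>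
        MonoidHom.not_dvd_card_ker_transferSylow T hle hev.two_dvd, ?_⟩
      obtain ⟨k, hk⟩ := T.2.exists_card_eq
      exact ⟨k, ((MonoidHom.ker_transferSylow_isComplement' T hle).symm.index_eq_card).trans hk⟩
    · exact ⟨⊤, inferInstance, by rw [card_top]; exact Nat.odd_iff.2 (by omega), 0, by simp⟩
  haveI := hN
  obtain ⟨k, hk⟩ := hNind
  have hmem : ∀ x : C, Odd (orderOf x) → x ∈ N := by
    intro x hx
    have h1 : orderOf (x : C ⧸ N) ∣ 2 ^ k := by
      rw [← hk, Subgroup.index_eq_card]; exact orderOf_dvd_natCard _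
    exact (QuotientGroup.eq_one_iff x).1 (orderOf_eq_one_iff.1 (Nat.eq_one_of_dvd_coprimes
      ((Nat.coprime_two_right.2 hx).pow_right k) (orderOf_map_dvd (QuotientGroup.mk' N) x) h1))
  set R := N.map C.subtype with hR
  have hRodd : Odd (Nat.card R) := by rwa [hR, card_map_of_injective C.subtype_injective]
  have hmemR : ∀ x ∈ C, Odd (orderOf x) → x ∈ R := fun x hx ho =>
    ⟨⟨x, hx⟩, hmem _ (by rwa [Subgroup.orderOf_mk]), rfl⟩
  have hRC : R ≤ C := map_subtype_le _
  have hnorm : normalizer (C : Set G) ≤ normalizer (R : Set G) := by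
    have key : ∀ g ∈ normalizer (C : Set G), ∀ x ∈ R, g * x * g⁻¹ ∈ R := fun g hg x hx =>
      hmemR _ ((mem_normalizer_iff.1 hg x).1 (hRC hx)) (by
        rw [orderOf_conj']; exact odd_orderOf_of_mem hRodd hx)
    exact fun g hg => mem_normalizer_iff.2 fun x => ⟨key g hg x, fun hx => by
      simpa [mul_assoc] using key g⁻¹ (inv_mem hg) _ hx⟩
  exact ⟨R, hRodd, hRC, hPU.trans ((normalizer_le_normalizer_centralizer' U).trans hnorm), hmemR,
    fun x hx => hnorm (le_normalizer hx)⟩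

/-- No element of prime order centralising `t` is linked to the core. -/
theorem no_link {R : Subgroup G} (hR : Odd (Nat.card R)) (hPR : D.P ≤ normalizer (R : Set G)) {q : ℕ}
    [Fact q.Prime] {x : G} (hx : orderOf x = q) (hxt : x * D.t = D.t * x) (hxR : x ∈ R)
    (hx'R : D.d⁻¹ * x * D.d ∈ R)
    (hY : ∀ y ∈ D.Y, (∃ k, y ^ q ^ k = 1) → D.d * y * D.d⁻¹ ∈ R ∧ D.d⁻¹ * y * D.d ∈ R) : False := by
  haveI : Fact (Nat.Prime 2) := ⟨Nat.prime_two⟩
  have hq : q ≠ 2 := by
    rintro rfl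
    have := odd_orderOf_of_mem hR hxR
    rw [hx] at this
    exact absurd this (by decide)
  have hVR : D.V ≤ normalizer (R : Set G) := D.V_le_P.trans hPR
  have hcop : (Nat.card D.V).Coprime (Nat.card R) := by
    rw [D.card_V]; exact ((Nat.coprime_two_left.2 hR).pow_left 2 : (2 ^ 2).Coprime _)
  haveI := D.V_comm
  have hsol : Group.IsSolvable D.V ∨ Group.IsSolvable R :=
    Or.inl (Group.isSolvable_of_comm fun a b => mul_comm' a b)
  obtain ⟨Q, hQ⟩ := Cfsg.Lib.Coprime.exists_invariant_sylow hVR hcop hsol q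
  set Q₀ := (Q : Subgroup R).map R.subtype with hQ₀
  have hQR : Q₀ ≤ R := map_subtype_le _
  have huniq : ∀ Q' : Sylow q R,
      D.V ≤ normalizer ((Q' : Subgroup R).map R.subtype : Set G) → Q' = Q := by
    intro Q' hQ'
    obtain ⟨c, hc, hcQ⟩ := Cfsg.Lib.Coprime.invariant_sylow_conj hVR hcop hsol q Q' Q hQ' hQ
    have hc1 : (c : G) = 1 := D.four_fixed (odd_orderOf_of_mem hR c.2)
      (mem_centralizer_iff.1 hc D.z (D.mem_V.2 (Or.inr (Or.inl rfl)))).symm
      (mem_centralizer_iff.1 hc D.t (D.mem_V.2 (Or.inr (Or.inr (Or.inl rfl))))).symm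
    rwa [show c = 1 from Subtype.ext hc1, one_smul] at hcQ
  have hbig : ∀ U : Subgroup G, U ≤ R → IsPGroup q U → D.V ≤ normalizer (U : Set G) → U ≤ Q₀ := by
    intro U hUR hU hVU
    obtain ⟨Q', hUQ, hQ'⟩ := Cfsg.Lib.Coprime.exists_invariant_sylow_ge hVR hcop hsol q hUR hU hVU
    rwa [huniq Q' hQ'] at hUQ
  have hPQ : D.P ≤ normalizer (Q₀ : Set G) := by
    intro g hg
    refine mem_normalizer_iff_map_conj_eq.2 (Subgroup.eq_of_le_of_card_ge ?_ ?_)
    · refine hbig _ ((map_mono hQR).trans (mem_normalizer_iff_map_conj_eq.1 (hPR hg)).le) ((Q.2.map _).map _) ?_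
      intro v hv
      have hVg : g⁻¹ * v * g⁻¹⁻¹ ∈ D.V := by
        have hvP := D.V_le_P hv
        obtain ⟨a, ha⟩ := D.P_le hg
        obtain ⟨k, hk, rfl⟩ := hv
        exact ⟨a⁻¹ * k * a⁻¹⁻¹, (by decide +kernel : ∀ a k : Equiv.Perm (Fin 4), InV k → InV (a⁻¹ * k * a⁻¹⁻¹)) a k hk,
          by rw [map_mul, map_mul, map_inv, map_inv, map_inv, ha]⟩
      refine le_normalizer_map (MulAut.conj g).toMonoidHom ⟨_, hQ hVg, ?_⟩
      show g * (g⁻¹ * v * g⁻¹⁻¹) * g⁻¹ = v
      group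
    · exact (Nat.card_congr (Q₀.equivMapOfInjective _ (MulAut.conj g).injective).toEquiv).le
  have hxq : IsPGroup q (zpowers x) := IsPGroup.of_card (n := 1) (by rw [Nat.card_zpowers, hx, pow_one])
  have hcyc : ∀ v ∈ R, ∀ g : G, (g * v * g⁻¹ = v ∨ g * v * g⁻¹ = v⁻¹) →
      g ∈ normalizer (zpowers v : Set G) := by
    intro v _ g hg
    rw [mem_normalizer_iff_map_conj_eq, MonoidHom.map_zpowers]
    show zpowers (g * v * g⁻¹) = zpowers v
    rcases hg with e | e <;> rw [e]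
    exact zpowers_inv
  have hVcyc : ∀ v ∈ R, (D.z * v * D.z⁻¹ = v ∨ D.z * v * D.z⁻¹ = v⁻¹) →
      (D.t * v * D.t⁻¹ = v ∨ D.t * v * D.t⁻¹ = v⁻¹) → D.V ≤ normalizer (zpowers v : Set G) := by
    intro v hv h1 h2 w hw
    rcases D.mem_V.1 hw with rfl | rfl | rfl | rfl
    exacts [one_mem _, hcyc v hv _ h1, hcyc v hv _ h2, mul_mem (hcyc v hv _ h1) (hcyc v hv _ h2)]
  have hx'o : orderOf (D.d⁻¹ * x * D.d) = q := by
    rw [show D.d⁻¹ * x * D.d = D.d⁻¹ * x * D.d⁻¹⁻¹ by group, orderOf_conj', hx]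
  have hx'z : D.d⁻¹ * x * D.d * D.z = D.z * (D.d⁻¹ * x * D.d) := by
    have := commute_conj D.d⁻¹ hxt
    rwa [inv_inv, D.d_inv_t] at this
  have hx'O : D.d⁻¹ * x * D.d ∈ D.O := D.hOmem _ hx'z (odd_orderOf_of_mem hR hx'R)
  have hxQ : x ∈ Q₀ := hbig _ (zpowers_le.2 hxR) hxq (hVcyc x hxR
    (Or.inr (D.th_t_inv ⟨hxt, odd_orderOf_of_mem hR hxR⟩))
    (Or.inl (by rw [← hxt, mul_inv_cancel_right]))) (mem_zpowers x)
  have hx'Q : D.d⁻¹ * x * D.d ∈ Q₀ := hbig _ (zpowers_le.2 hx'R)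
    (IsPGroup.of_card (n := 1) (by rw [Nat.card_zpowers, hx'o, pow_one])) (hVcyc _ hx'R
    (Or.inl (by rw [← hx'z, mul_inv_cancel_right])) (Or.inr (D.t_inv hx'O))) (mem_zpowers _)
  refine DihSit.Ladder.false D
    { Q := Q₀, x := x, hQ := Q.2.map _, hPQ := hPQ, hxQ := hxQ, hxt := hxt, hx'Q := hx'Q,
      hx1 := fun h => (Fact.out : q.Prime).ne_one (by rw [← hx, h, orderOf_one]), hY := ?_ } hq
  intro y hy hk
  obtain ⟨k, hk⟩ := hk
  obtain ⟨h1, h2⟩ := hY y hy ⟨k, hk⟩
  have hord : ∀ g : G, IsPGroup q (zpowers (g * y * g⁻¹)) := fun g => by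
    obtain ⟨j, -, hj⟩ := (Nat.dvd_prime_pow (Fact.out : q.Prime)).1 (orderOf_dvd_of_pow_eq_one hk)
    exact IsPGroup.of_card (n := j) (by rw [Nat.card_zpowers, orderOf_conj', hj])
  have hq2 := hord D.d⁻¹
  rw [inv_inv] at hq2
  have hzy : D.z * y * D.z⁻¹ = y := by rw [← D.hOle y hy.1, mul_inv_cancel_right]
  have hty : D.t * y * D.t⁻¹ = y⁻¹ := D.t_inv hy.1
  have hzty : D.z * D.t * y * (D.z * D.t)⁻¹ = y⁻¹ := by
    rw [show D.z * D.t * y * (D.z * D.t)⁻¹ = D.z * (D.t * y * D.t⁻¹) * D.z⁻¹ by group, hty,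
      show D.z * y⁻¹ * D.z⁻¹ = (D.z * y * D.z⁻¹)⁻¹ by group, hzy]
  have hcj : ∀ g h v : G, g * (h * v * h⁻¹) * g⁻¹ = h * ((h⁻¹ * g * h) * v * (h⁻¹ * g * h)⁻¹) * h⁻¹ := by
    intros; group
  constructor
  · refine hbig _ (zpowers_le.2 h1) (hord D.d) (hVcyc _ h1 ?_ ?_) (mem_zpowers _)
    · right; rw [hcj, D.d_inv_z, hzty]; group
    · left; rw [hcj, D.d_inv_t, hzy]
  · refine hbig _ (zpowers_le.2 h2) hq2 (hVcyc _ h2 ?_ ?_) (mem_zpowers _)
    · right
      have e := hcj D.z D.d⁻¹ y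
      rw [inv_inv, D.d_z, hty] at e
      rw [e]; group
    · right
      have e := hcj D.t D.d⁻¹ y
      rw [inv_inv, D.d_t, hzty] at e
      rw [e]; group

theorem S_normalizes {U : Subgroup G} (hU : U ≤ D.Y) {g : G} (hg : g ∈ (D.S : Subgroup G)) {y : G} (hy : y ∈ U) :
    g * y * g⁻¹ ∈ U := by
  have hy' := hU hy
  have hrot : ∀ j, D.c ^ j * y * (D.c ^ j)⁻¹ = y ∨ D.c ^ j * y * (D.c ^ j)⁻¹ = y⁻¹ := by
    intro j
    rcases Nat.even_or_odd' j with ⟨b, rfl | rfl⟩
    · left; rw [D.c_even_O b hy'.1, mul_inv_cancel_right]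
    · right
      rw [pow_succ, show D.c ^ (2 * b) * D.c * y * (D.c ^ (2 * b) * D.c)⁻¹ =
        D.c ^ (2 * b) * (D.c * y * D.c⁻¹) * (D.c ^ (2 * b))⁻¹ by group, hy'.2,
        D.c_even_O b (inv_mem hy'.1), mul_inv_cancel_right]
  obtain ⟨j, rfl | rfl⟩ := D.hgen g hg
  · rcases hrot j with e | e <;> rw [e]
    exacts [hy, inv_mem hy]
  · rw [show D.c ^ j * D.t * y * (D.c ^ j * D.t)⁻¹ = D.c ^ j * (D.t * y * D.t⁻¹) * (D.c ^ j)⁻¹ by group,
      D.t_inv hy'.1, show D.c ^ j * y⁻¹ * (D.c ^ j)⁻¹ = (D.c ^ j * y * (D.c ^ j)⁻¹)⁻¹ by group]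
    rcases hrot j with e | e <;> rw [e]
    exacts [inv_mem hy, by rw [inv_inv]; exact hy]

theorem P_le_normalizer_Y : D.P ≤ normalizer (D.Y : Set G) := fun g hg =>
  mem_normalizer_iff.2 fun y => ⟨fun hy => D.S_normalizes le_rfl (D.hPS hg) hy, fun hy => by
    have := D.S_normalizes le_rfl (inv_mem (D.hPS hg)) hy
    simpa [mul_assoc] using this⟩

/-- Some element of odd order centralises both `t` and `Y`. -/
theorem exists_th (hY : D.Y ≠ ⊥) : ∃ a : G, a ≠ 1 ∧ Odd (orderOf a) ∧ a * D.t = D.t * a ∧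
    a ∈ centralizer (D.Y : Set G) := by
  classical
  haveI : Fact (Nat.Prime 2) := ⟨Nat.prime_two⟩
  by_contra hno
  push Not at hno
  have htn : D.t ∈ normalizer (D.Y : Set G) := D.P_le_normalizer_Y D.t_mem_P
  have htn' := normalizer_le_normalizer_centralizer' D.Y htn
  set X := centralizer (D.Y : Set G) ⊔ zpowers D.t with hX
  have hnX : zpowers D.t ≤ normalizer (centralizer (D.Y : Set G) : Set G) := zpowers_le.2 htn'
  have hXle : X ≤ normalizer (D.Y : Set G) := sup_le (centralizer_le_normalizer _) (zpowers_le.2 htn)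
  have htX : D.t ∈ X := mem_sup_right (mem_zpowers _)
  have hCX : centralizer (D.Y : Set G) ≤ X := le_sup_left
  have hzC : D.z ∈ centralizer (D.Y : Set G) :=
    mem_centralizer_iff.2 fun y hy => D.hOle y (D.Y_le hy)
  have hsC : D.s ∈ centralizer (D.Y : Set G) := mem_centralizer_iff.2 fun y hy => (D.s_Y hy).symm
  have hcX : D.c ∈ X := by
    rw [show D.c = D.t * D.s by unfold DihSit.s; rw [← mul_assoc, D.t_sq, one_mul]]
    exact mul_mem htX (hCX hsC)
  have hSX : (D.S : Subgroup G) ≤ X := fun a ha => by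
    obtain ⟨j, rfl | rfl⟩ := D.hgen a ha
    exacts [pow_mem hcX _, mul_mem (pow_mem hcX _) htX]
  -- the centraliser of `t` in `X` is the four-group
  set CX := X ⊓ centralizer ({D.t} : Set G) with hCXdef
  have hCX2 : IsPGroup 2 CX := by
    obtain ⟨k, hk⟩ : ∃ k, Nat.card CX = 2 ^ k := by
      refine ⟨(Nat.card CX).factorization 2, Nat.eq_pow_of_factorization_eq_single Nat.card_pos.ne' ?_⟩
      ext r
      by_cases hr : r = 2
      · subst hr; simp
      rw [Finsupp.single_eq_of_ne (Ne.symm (Ne.symm hr)), Nat.factorization_eq_zero_iff]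
      by_contra hcon
      push Not at hcon
      obtain ⟨hr1, hr2, -⟩ := hcon
      haveI := Fact.mk hr1
      obtain ⟨b, hb⟩ := exists_prime_orderOf_dvd_card' r hr2
      obtain ⟨haX, hat⟩ := b.2
      have ha : orderOf (b : G) = r := (Subgroup.orderOf_coe b).trans hb
      set a : G := (b : G) with habdef
      clear_value a
      have hodd : Odd (orderOf a) := ha ▸ hr1.odd_of_ne_two hr
      obtain ⟨b, hb, w, hw, hbw⟩ := (Cfsg.Lib.Coprime.mem_sup_of_le_normalizer hnX).1 haX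
      have haC : a ∈ centralizer (D.Y : Set G) := by
        refine mem_centralizer_iff.2 fun y hy => ?_
        have hsq : a * a ∈ centralizer (D.Y : Set G) := by
          have hww : w * w = 1 := by
            obtain ⟨j, rfl⟩ := mem_zpowers_iff.1 hw
            rw [← zpow_add, ← two_mul, zpow_mul, zpow_two, D.t_sq, one_zpow]
          rw [← hbw, show b * w * (b * w) = b * (w * b * w⁻¹) * (w * w) by group, hww, mul_one]
          exact mul_mem hb ((mem_normalizer_iff.1 (hnX hw) b).1 hb)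
        obtain ⟨n, hn⟩ := hodd
        have : a = (a * a) ^ (n + 1) := by
          rw [← pow_two, ← pow_mul, show 2 * (n + 1) = orderOf a + 1 by omega, pow_succ, pow_orderOf_eq_one,
            one_mul]
        rw [this]
        exact mem_centralizer_iff.1 (pow_mem hsq _) y hy
      refine hno a ?_ hodd (mem_centralizer_singleton_iff.1 hat) haC
      rintro rfl
      rw [orderOf_one] at ha
      exact hr1.ne_one ha.symm
    exact IsPGroup.of_card hk
  have hVX : D.V ≤ CX := by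
    intro v hv
    refine ⟨hSX (D.hPS (D.V_le_P hv)), mem_centralizer_singleton_iff.2 ?_⟩
    rcases D.mem_V.1 hv with rfl | rfl | rfl | rfl
    · rw [one_mul, mul_one]
    · exact D.t_z.symm
    · rfl
    · rw [mul_assoc, D.t_sq, mul_one, ← mul_assoc, D.t_z, mul_assoc, D.t_sq, mul_one]
  have hnA : ¬ D.ι.range ≤ normalizer (D.Y : Set G) := fun h => hY (D.la _ D.Y_odd h)
  have hCXV : CX = D.V := le_antisymm (D.cent_t_sylow D.P_le_normalizer_Y hnA hCX2 (inf_le_left.trans hXle)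
    (fun a ha => mem_centralizer_singleton_iff.1 ha.2) hVX) hVX
  -- the hypotheses of the recognition theorem
  set t' : X := ⟨D.t, htX⟩ with ht'
  have hcmap : (centralizer ({t'} : Set X)).map X.subtype = CX := by
    ext a
    constructor
    · rintro ⟨a, ha, rfl⟩
      exact ⟨a.2, mem_centralizer_singleton_iff.2 (congrArg Subtype.val (mem_centralizer_singleton_iff.1 ha))⟩
    · rintro ⟨ha, hat⟩
      exact ⟨⟨a, ha⟩, mem_centralizer_singleton_iff.2 (Subtype.ext (mem_centralizer_singleton_iff.1 hat :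
        a * D.t = D.t * a)), rfl⟩
  have hV2 : ∀ v ∈ D.V, v * v = 1 := by
    rintro _ ⟨k, hk, rfl⟩
    rw [← map_mul, (by decide +kernel : ∀ a : Equiv.Perm (Fin 4), InV a → a * a = 1) k hk, map_one]
  have hiso : Nonempty (X ≃* ↥(alternatingGroup (Fin 5))) := by
    refine Cfsg.Agent.S3277.result t' (by rw [ht', Subgroup.orderOf_mk, D.order_t]) ?_ ?_ ?_ ?_
    · rw [← card_map_of_injective X.subtype_injective, hcmap, hCXV, D.card_V]
    · intro a ha
      refine Subtype.ext ?_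
      have : (a : G) ∈ D.V := hCXV ▸ hcmap ▸ mem_map_of_mem _ ha
      rw [Subgroup.coe_pow, pow_two, hV2 _ this, Subgroup.coe_one]
    · rintro ⟨T, N, hN, hNT⟩
      haveI := hN
      obtain ⟨g, hg⟩ := MulAction.exists_smul_eq X T (D.S.subtype hSX)
      obtain ⟨k, hk, hkz⟩ := D.exists_fuse hY
      have hkX : k ∈ X := hCX (mem_centralizer_iff.2 fun y hy => (hk y hy).symm)
      have hS' : ∀ a ∈ (D.S : Subgroup G), ∀ (ha : a ∈ X), g⁻¹ * ⟨a, ha⟩ * g ∈ (T : Subgroup X) := by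
        intro a ha haX
        have h : (⟨a, haX⟩ : X) ∈ D.S.subtype hSX := mem_subgroupOf.2 ha
        rw [← hg, ← SetLike.mem_coe, Sylow.coe_smul] at h
        obtain ⟨b, hb, hab⟩ := h
        rw [show g⁻¹ * (⟨a, haX⟩ : X) * g = b by rw [← hab]; show g⁻¹ * (g * b * g⁻¹) * g = b; group]
        exact hb
      let π := QuotientGroup.mk' N
      have hsurj : ∀ x : X, ∃ b ∈ (T : Subgroup X), π x = π b := by
        intro x
        obtain ⟨⟨⟨a, ha⟩, ⟨b, hb⟩⟩, hab⟩ := hNT.2 x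
        refine ⟨b, hb, ?_⟩
        rw [← (hab : a * b = x), map_mul, show π a = 1 from (QuotientGroup.eq_one_iff a).2 ha, one_mul]
      have hinj : ∀ b ∈ (T : Subgroup X), π b = 1 → b = 1 := fun b hb hb1 =>
        mem_bot.1 (hNT.disjoint.le_bot ⟨(QuotientGroup.eq_one_iff b).1 hb1, hb⟩)
      set zX : X := ⟨D.z, hSX (D.hPS D.z_mem_P)⟩
      set sX : X := ⟨D.s, hSX D.s_mem⟩
      have hcomm : ∀ x : X, π x * π zX = π zX * π x := by
        intro x
        obtain ⟨b, hb, hxb⟩ := hsurj (g⁻¹ * x * g)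
        have hbS : ((g * b * g⁻¹ : X) : G) ∈ (D.S : Subgroup G) := by
          have : g * b * g⁻¹ ∈ (g • T : Sylow 2 X) := by
            rw [← SetLike.mem_coe, Sylow.coe_smul]; exact ⟨b, hb, rfl⟩
          rw [hg] at this
          exact this
        have h1 : π x = π (g * b * g⁻¹) := by
          rw [map_mul, map_mul, ← hxb, map_mul, map_mul, map_inv]; group
        rw [h1, ← map_mul, ← map_mul]
        exact congrArg π (Subtype.ext (D.z_S hbS))
      have heq : π sX = π zX := by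
        rw [show sX = (⟨k, hkX⟩ : X) * zX * (⟨k, hkX⟩ : X)⁻¹ from Subtype.ext hkz.symm, map_mul, map_mul,
          hcomm, map_inv, mul_inv_cancel_right]
      have h1 := hinj _ (hS' _ (mul_mem D.s_mem (inv_mem (D.hPS D.z_mem_P)))
        (sX * zX⁻¹).2) (by
        rw [show (⟨D.s * D.z⁻¹, (sX * zX⁻¹).2⟩ : X) = sX * zX⁻¹ from rfl, map_mul, map_mul, map_mul, heq,
          map_inv, map_inv, mul_inv_cancel, mul_one, inv_mul_cancel])
      have h2 : D.s * D.z⁻¹ = 1 := by
        have h3 : (⟨D.s * D.z⁻¹, (sX * zX⁻¹).2⟩ : X) = g * (g⁻¹ * ⟨D.s * D.z⁻¹, (sX * zX⁻¹).2⟩ * g) * g⁻¹ := by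
          group
        rw [h1, mul_one, mul_inv_cancel] at h3
        exact congrArg Subtype.val h3
      rw [mul_inv_eq_one, D.s_eq] at h2
      exact D.refl_ne_z _ h2
    · intro E hE hEe
      haveI := hE
      obtain ⟨hEc, hE2⟩ := hEe
      have hEp : IsPGroup 2 E := fun a => ⟨1, Subtype.ext (by simpa using hE2 a a.2)⟩
      have hES : ∀ a : X, a ∈ E → (a : G) ∈ (D.S : Subgroup G) := fun a ha =>
        Cfsg.Lib.Thompson.le_sylow_of_normal hEp (D.S.subtype hSX) ha
      have hinv : ∀ a : X, a ∈ E → a ≠ 1 → (a : G) = D.z ∨ ∃ i, (a : G) = D.c ^ i * D.t := fun a ha h1 =>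
        D.invol_cases (hES a ha) (by rw [Subgroup.orderOf_coe]; exact orderOf_eq_prime (hE2 a ha) h1)
      constructor
      · intro hc
        obtain ⟨a, ha, ha1⟩ : ∃ a : X, a ∈ E ∧ a ≠ 1 := by
          by_contra hcon
          push Not at hcon
          have hbot : E = ⊥ := (Subgroup.eq_bot_iff_forall _).2 hcon
          rw [hbot, Subgroup.card_bot] at hc
          omega
        have hcen : ∀ x : X, x * a = a * x := by
          intro x
          have h1 : x * a * x⁻¹ ∈ E := hE.conj_mem a ha x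
          have h2 : (⟨x * a * x⁻¹, h1⟩ : E) = ⟨a, ha⟩ := by
            haveI : Fintype E := Fintype.ofFinite _
            by_contra hne
            have h3 : ({1, ⟨a, ha⟩, ⟨x * a * x⁻¹, h1⟩} : Finset E).card = 3 := by
              rw [Finset.card_eq_three]
              refine ⟨_, _, _, fun e => ha1 (congrArg Subtype.val e).symm, fun e => ha1 ?_, fun e => hne e.symm, rfl⟩
              exact conj_eq_one_iff.1 (congrArg Subtype.val e).symm
            have h4 := Finset.card_le_univ ({1, ⟨a, ha⟩, ⟨x * a * x⁻¹, h1⟩} : Finset E)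
            rw [h3, ← Nat.card_eq_fintype_card, hc] at h4
            omega
          exact mul_inv_eq_iff_eq_mul.1 (congrArg Subtype.val h2)
        rcases hinv a ha ha1 with e | ⟨i, e⟩
        · obtain ⟨k, hk, hkz⟩ := D.exists_fuse hY
          have hkX : k ∈ X := hCX (mem_centralizer_iff.2 fun y hy => (hk y hy).symm)
          have := congrArg Subtype.val (hcen ⟨k, hkX⟩)
          rw [Subgroup.coe_mul, Subgroup.coe_mul, e] at this
          change k * D.z = D.z * k at this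
          rw [this, mul_inv_cancel_right] at hkz
          exact D.refl_ne_z (D.m - 1) (D.s_eq ▸ hkz.symm)
        · have := congrArg Subtype.val (hcen ⟨D.c, hcX⟩)
          rw [Subgroup.coe_mul, Subgroup.coe_mul, e] at this
          exact D.not_pow_comm this.symm
      · intro hc
        by_cases hr : ∃ a : X, a ∈ E ∧ ∃ i, (a : G) = D.c ^ i * D.t
        · obtain ⟨a, ha, i, hai⟩ := hr
          have h1 : (⟨D.c, hcX⟩ : X) * a * (⟨D.c, hcX⟩ : X)⁻¹ * a ∈ E := mul_mem (hE.conj_mem a ha _) ha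
          have h2 := congrArg Subtype.val (hE2 _ h1)
          rw [Subgroup.coe_pow, Subgroup.coe_mul, Subgroup.coe_mul, Subgroup.coe_mul, Subgroup.coe_inv, hai,
            Subgroup.coe_one] at h2
          change (D.c * (D.c ^ i * D.t) * D.c⁻¹ * (D.c ^ i * D.t)) ^ 2 = 1 at h2
          have h3 := D.refl_conj i 1
          rw [pow_one, mul_one] at h3
          rw [h3, add_comm, pow_add, mul_assoc (D.c ^ 2), mul_assoc (D.c ^ 2), D.refl_sq, mul_one, ← pow_mul] at h2
          have := Nat.le_of_dvd (by norm_num) (D.c_pow_one.1 h2)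
          have := D.hm
          omega
        · push Not at hr
          have hsub : ∀ a : X, a ∈ E → a = 1 ∨ a = ⟨D.z, hSX (D.hPS D.z_mem_P)⟩ := fun a ha => by
            by_cases h1 : a = 1
            · exact Or.inl h1
            rcases hinv a ha h1 with e | ⟨i, e⟩
            · exact Or.inr (Subtype.ext e)
            · exact absurd e (hr a ha i)
          have hle : E ≤ zpowers ⟨D.z, hSX (D.hPS D.z_mem_P)⟩ := fun a ha => by
            rcases hsub a ha with rfl | rfl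
            exacts [one_mem _, mem_zpowers _]
          have := card_dvd_of_le hle
          rw [hc, Nat.card_zpowers, Subgroup.orderOf_mk, D.order_z] at this
          omega
  obtain ⟨e⟩ := hiso
  have h60 : Nat.card X = 60 := by
    rw [Nat.card_congr e.toEquiv, nat_card_alternatingGroup, Nat.card_fin]; rfl
  obtain ⟨k, hk⟩ := D.hm2
  have hdvd : 2 ^ k ∣ 60 := by
    rw [← hk, ← h60, ← D.hord]
    exact Subgroup.orderOf_dvd_natCard _ hcX
  have h8 : 8 ∣ 2 ^ k := by
    refine pow_dvd_pow 2 (m := 3) ?_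
    by_contra h3
    have := D.hm
    rw [hk] at this
    interval_cases k <;> omega
  exact absurd (h8.trans hdvd) (by norm_num)

/-- The subgroup `Y` is trivial. -/
theorem Y_bot : D.Y = ⊥ := by
  classical
  haveI : Fact (Nat.Prime 2) := ⟨Nat.prime_two⟩
  by_contra hY
  obtain ⟨a, ha1, hao, hat, haY⟩ := D.exists_th hY
  set u := D.d⁻¹ * a * D.d with hu
  have huo : Odd (orderOf u) := by
    rw [hu, show D.d⁻¹ * a * D.d = D.d⁻¹ * a * D.d⁻¹⁻¹ by group, orderOf_conj']; exact hao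
  have hu1 : u ≠ 1 := fun h => ha1 (by
    have : a = D.d * u * D.d⁻¹ := by rw [hu]; group
    rw [this, h]; group)
  have huz : u * D.z = D.z * u := by
    have := commute_conj D.d⁻¹ hat
    rwa [inv_inv, D.d_inv_t] at this
  have huO : u ∈ D.O := D.hOmem u huz huo
  have h2 : ∀ y ∈ D.Y, u * (D.d⁻¹ * y * D.d) = D.d⁻¹ * y * D.d * u := fun y hy => by
    have := commute_conj D.d⁻¹ (mem_centralizer_iff.1 haY y hy)
    rw [inv_inv] at this
    exact this.symm
  have h1 : ∀ y ∈ D.Y, u * (D.d * y * D.d⁻¹) = D.d * y * D.d⁻¹ * u := by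
    intro y hy
    have hez : D.e * D.d * D.z * (D.e * D.d)⁻¹ = D.d⁻¹ * D.z * D.d⁻¹⁻¹ := by
      rw [inv_inv, D.d_inv_z, show D.e * D.d * D.z * (D.e * D.d)⁻¹ = D.e * (D.d * D.z * D.d⁻¹) * D.e⁻¹ by group,
        D.d_z, D.e_t]
    obtain ⟨y', hy', he⟩ := D.Y_indep hez hy
    have h3 : D.e * (D.d * y * D.d⁻¹) * D.e⁻¹ = D.d⁻¹ * y' * D.d := by
      rw [show D.e * (D.d * y * D.d⁻¹) * D.e⁻¹ = D.e * D.d * y * (D.e * D.d)⁻¹ by group, he, inv_inv]
    have h4 := h2 y' hy'
    rw [← h3] at h4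
    have h5 : D.e * u * D.e⁻¹ = u := by rw [D.e_O huO, mul_inv_cancel_right]
    have h6 := commute_conj D.e⁻¹ h4
    have h7 : D.e⁻¹ * u * D.e⁻¹⁻¹ = u := by
      calc D.e⁻¹ * u * D.e⁻¹⁻¹ = D.e⁻¹ * (D.e * u * D.e⁻¹) * D.e⁻¹⁻¹ := by rw [h5]
        _ = u := by group
    rw [h7,
      show D.e⁻¹ * (D.e * (D.d * y * D.d⁻¹) * D.e⁻¹) * D.e⁻¹⁻¹ = D.d * y * D.d⁻¹ by group] at h6
    exact h6
  have huY : u ∉ D.Y := fun h => hu1 (D.gamma_bot le_rfl h h1 h2)
  -- the centraliser of `u`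
  have hPU : D.P ≤ normalizer (zpowers u : Set G) := by
    intro g hg
    rw [mem_normalizer_iff_map_conj_eq, MonoidHom.map_zpowers]
    show zpowers (g * u * g⁻¹) = zpowers u
    obtain ⟨k, rfl⟩ := D.P_le hg
    obtain ⟨v, hv, j, rfl⟩ := (by decide +kernel : ∀ k : Equiv.Perm (Fin 4), k * pa = pa * k →
      ∃ v, InV v ∧ ∃ j : Fin 2, k = v * pe ^ (j : ℕ)) k (D.mem_P.1 hg)
    have he : D.e ^ (j : ℕ) * u * (D.e ^ (j : ℕ))⁻¹ = u := by
      rw [(Commute.pow_left (D.e_O huO : Commute D.e u) j).eq, mul_inv_cancel_right]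
    rw [map_mul, map_pow, show D.ι v * D.e ^ (j : ℕ) * u * (D.ι v * D.e ^ (j : ℕ))⁻¹ =
      D.ι v * (D.e ^ (j : ℕ) * u * (D.e ^ (j : ℕ))⁻¹) * (D.ι v)⁻¹ by group, he]
    rcases D.of_inV hv with e | e | e | e <;> rw [e]
    · group
    · rw [← huz, mul_inv_cancel_right]
    · rw [D.t_inv huO, zpowers_inv]
    · rw [show D.z * D.t * u * (D.z * D.t)⁻¹ = D.z * (D.t * u * D.t⁻¹) * D.z⁻¹ by group, D.t_inv huO,
        ← D.hOle _ (inv_mem huO), mul_inv_cancel_right, zpowers_inv]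
  have hcyc : IsCyclic ↥((D.S : Subgroup G) ⊓ centralizer (zpowers u : Set G)) := by
    have hle : (D.S : Subgroup G) ⊓ centralizer (zpowers u : Set G) ≤ zpowers D.c := by
      rintro g ⟨hg, hgc⟩
      obtain ⟨i, rfl | rfl⟩ := D.hgen g hg
      · exact pow_mem (mem_zpowers _) _
      exfalso
      have hcu := mem_centralizer_iff.1 hgc u (mem_zpowers u)
      have h3 : D.c ^ i * u⁻¹ * (D.c ^ i)⁻¹ = u := by
        rw [← D.t_inv huO, show D.c ^ i * (D.t * u * D.t⁻¹) * (D.c ^ i)⁻¹ =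
          D.c ^ i * D.t * u * (D.c ^ i * D.t)⁻¹ by group, ← hcu, mul_inv_cancel_right]
      rcases Nat.even_or_odd' i with ⟨b, rfl | rfl⟩
      · rw [D.c_even_O b (inv_mem huO), mul_inv_cancel_right] at h3
        exact hu1 (eq_one_of_odd_of_two huo (by nth_rewrite 1 [← h3]; exact inv_mul_cancel u))
      · refine huY ⟨huO, ?_⟩
        rw [pow_succ, show D.c ^ (2 * b) * D.c * u⁻¹ * (D.c ^ (2 * b) * D.c)⁻¹ =
          D.c ^ (2 * b) * (D.c * u⁻¹ * D.c⁻¹) * (D.c ^ (2 * b))⁻¹ by group,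
          D.c_even_O b (D.O_conj D.cz (inv_mem huO)), mul_inv_cancel_right] at h3
        calc D.c * u * D.c⁻¹ = (D.c * u⁻¹ * D.c⁻¹)⁻¹ := by group
          _ = u⁻¹ := by rw [h3]
    exact isCyclic_of_injective (Subgroup.inclusion hle) (Subgroup.inclusion_injective _)
  obtain ⟨R, hRodd, -, hPR, hmem, -⟩ := D.odd_part hPU hcyc
  have hcent : ∀ v, u * v = v * u → v ∈ centralizer (zpowers u : Set G) := by
    intro v hv
    refine mem_centralizer_iff.2 fun w hw => ?_
    obtain ⟨j, rfl⟩ := mem_zpowers_iff.1 hw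
    exact (Commute.zpow_left (hv : Commute u v) j).eq
  have hR1 : ∀ y ∈ D.Y, D.d * y * D.d⁻¹ ∈ R := fun y hy => hmem _ (hcent _ (h1 y hy)) (by
    rw [orderOf_conj']; exact odd_orderOf_of_mem D.Y_odd hy)
  have hR2 : ∀ y ∈ D.Y, D.d⁻¹ * y * D.d ∈ R := fun y hy => hmem _ (hcent _ (h2 y hy)) (by
    rw [show D.d⁻¹ * y * D.d = D.d⁻¹ * y * D.d⁻¹⁻¹ by group, orderOf_conj']
    exact odd_orderOf_of_mem D.Y_odd hy)
  obtain ⟨q, hq, hqY⟩ := Nat.exists_prime_and_dvd (n := Nat.card D.Y)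
    (fun h => hY (Subgroup.card_eq_one.1 h))
  haveI := Fact.mk hq
  obtain ⟨y₀, hy₀⟩ := exists_prime_orderOf_dvd_card' q hqY
  rw [← Subgroup.orderOf_coe] at hy₀
  have hy₀O : (y₀ : G) ∈ D.O := D.Y_le y₀.2
  refine D.no_link hRodd hPR (x := D.d * y₀ * D.d⁻¹) (by rw [orderOf_conj', hy₀]) ?_ (hR1 _ y₀.2) ?_
    (fun y hy _ => ⟨hR1 y hy, hR2 y hy⟩)
  · rw [← D.d_z]; exact commute_conj _ (D.hOle _ hy₀O)
  · rw [show D.d⁻¹ * (D.d * (y₀ : G) * D.d⁻¹) * D.d = y₀ by group]
    exact hmem _ (hcent _ (D.O_comm huO hy₀O)) (odd_orderOf_of_mem D.hOodd hy₀O)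

theorem c_O {y : G} (hy : y ∈ D.O) : D.c * y = y * D.c := by
  have hw : y⁻¹ * (D.c * y * D.c⁻¹) ∈ D.Y := by
    have hc1 : D.c * y * D.c⁻¹ ∈ D.O := D.O_conj D.cz hy
    refine ⟨mul_mem (inv_mem hy) hc1, ?_⟩
    have h2 : D.c * (D.c * y * D.c⁻¹) * D.c⁻¹ = y := by
      rw [show D.c * (D.c * y * D.c⁻¹) * D.c⁻¹ = D.c ^ 2 * y * (D.c ^ 2)⁻¹ by rw [pow_two]; group,
        D.c_sq_O hy, mul_inv_cancel_right]
    calc D.c * (y⁻¹ * (D.c * y * D.c⁻¹)) * D.c⁻¹
        = (D.c * y * D.c⁻¹)⁻¹ * (D.c * (D.c * y * D.c⁻¹) * D.c⁻¹) := by group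
      _ = _ := by rw [h2]; group
  rw [D.Y_bot, mem_bot, inv_mul_eq_one] at hw
  exact (mul_inv_eq_iff_eq_mul.1 hw.symm)

theorem refl_O (i : ℕ) {y : G} (hy : y ∈ D.O) : D.c ^ i * D.t * y * (D.c ^ i * D.t)⁻¹ = y⁻¹ := by
  rw [show D.c ^ i * D.t * y * (D.c ^ i * D.t)⁻¹ = D.c ^ i * (D.t * y * D.t⁻¹) * (D.c ^ i)⁻¹ by group,
    D.t_inv hy, (Commute.pow_left (D.c_O (inv_mem hy) : Commute D.c y⁻¹) i).eq, mul_inv_cancel_right]

/-- The normalisers of the non-trivial subgroups of the core centralise the central involution. -/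
theorem normalizer_le_cent {U : Subgroup G} (hU : U ≤ D.O) (hne : U ≠ ⊥) :
    normalizer (U : Set G) ≤ centralizer ({D.z} : Set G) := by
  classical
  haveI : Fact (Nat.Prime 2) := ⟨Nat.prime_two⟩
  have hcU : D.c ∈ centralizer (U : Set G) := mem_centralizer_iff.2 fun y hy => (D.c_O (hU hy)).symm
  have hzU : D.z ∈ centralizer (U : Set G) := mem_centralizer_iff.2 fun y hy => D.hOle y (hU hy)
  have hrefl : ∀ i, D.c ^ i * D.t ∉ centralizer (U : Set G) := fun i h => hne
    ((Subgroup.eq_bot_iff_forall _).2 fun y hy => eq_one_of_odd_of_two (odd_orderOf_of_mem D.hOodd (hU hy)) (by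
      have h1 := D.refl_O i (hU hy)
      rw [← mem_centralizer_iff.1 h y hy, mul_inv_cancel_right] at h1
      nth_rewrite 1 [h1]
      exact inv_mul_cancel y))
  have hle : (D.S : Subgroup G) ⊓ centralizer (U : Set G) ≤ zpowers D.c := by
    rintro g ⟨hg, hgc⟩
    obtain ⟨i, rfl | rfl⟩ := D.hgen g hg
    exacts [pow_mem (mem_zpowers _) _, absurd hgc (hrefl i)]
  have hPU : D.P ≤ normalizer (U : Set G) := by
    intro g hg
    have key : ∀ g ∈ (D.S : Subgroup G), ∀ y ∈ U, g * y * g⁻¹ ∈ U := by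
      intro g hg y hy
      obtain ⟨i, rfl | rfl⟩ := D.hgen g hg
      · rw [(Commute.pow_left (D.c_O (hU hy) : Commute D.c y) i).eq, mul_inv_cancel_right]; exact hy
      · rw [D.refl_O i (hU hy)]; exact inv_mem hy
    exact mem_normalizer_iff.2 fun y => ⟨key g (D.hPS hg) y, fun hy => by
      simpa [mul_assoc] using key g⁻¹ (inv_mem (D.hPS hg)) _ hy⟩
  obtain ⟨R, hRodd, hRC, hPR, hmem, hRn⟩ := D.odd_part hPU
    (isCyclic_of_injective (Subgroup.inclusion hle) (Subgroup.inclusion_injective _))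
  -- `t` has no fixed points on the odd part
  have hfix : ∀ x ∈ R, x * D.t = D.t * x → x = 1 := by
    intro x hx hxt
    by_contra hx1
    obtain ⟨q, hq, hqd⟩ := Nat.exists_prime_and_dvd (n := orderOf x) (fun h => hx1 (orderOf_eq_one_iff.1 h))
    haveI := Fact.mk hq
    set x₀ := x ^ (orderOf x / q) with hx₀
    have hx₀q : orderOf x₀ = q := orderOf_pow_orderOf_div (orderOf_pos x).ne' hqd
    have hx₀t : x₀ * D.t = D.t * x₀ := (Commute.pow_left (hxt : Commute x D.t) _).eq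
    have hodd : Odd (orderOf (D.d⁻¹ * x₀ * D.d)) := by
      rw [show D.d⁻¹ * x₀ * D.d = D.d⁻¹ * x₀ * D.d⁻¹⁻¹ by group, orderOf_conj']
      exact odd_orderOf_of_mem hRodd (pow_mem hx _)
    have hx'O : D.d⁻¹ * x₀ * D.d ∈ D.O := D.hOmem _ (by
      have := commute_conj D.d⁻¹ hx₀t
      rwa [inv_inv, D.d_inv_t] at this) hodd
    refine D.no_link hRodd hPR hx₀q hx₀t (pow_mem hx _) (hmem _ ?_ hodd) ?_
    · exact mem_centralizer_iff.2 fun y hy => D.O_comm (hU hy) hx'O
    · intro y hy _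
      rw [D.Y_bot, mem_bot] at hy
      subst hy
      simp
  have hRO : R ≤ D.O := by
    have hVR : D.V ≤ normalizer (R : Set G) := D.V_le_P.trans hPR
    haveI := D.V_comm
    have hgen := Cfsg.Lib.Coprime.centralizerJoin_eq (A := D.V) (K := R) D.V_not_cyclic hVR (by
      rw [D.card_V]; exact ((Nat.coprime_two_left.2 hRodd).pow_left 2 : (2 ^ 2).Coprime _))
    refine hgen.symm.le.trans (iSup₂_le fun a ha x hx => ?_)
    obtain ⟨hxR, hxa⟩ := hx
    have hxo : Odd (orderOf x) := odd_orderOf_of_mem hRodd hxR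
    have hc := mem_centralizer_singleton_iff.1 hxa
    rcases D.mem_V.1 ha.1 with rfl | rfl | rfl | rfl
    · exact absurd rfl ha.2
    · exact D.hOmem x hc hxo
    · rw [hfix x hxR hc]; exact one_mem _
    · have heR : D.e⁻¹ * x * D.e⁻¹⁻¹ ∈ R :=
        (mem_normalizer_iff.1 (hPR (inv_mem D.e_mem_P)) x).1 hxR
      have he1 : D.e⁻¹ * x * D.e⁻¹⁻¹ = 1 := by
        refine hfix _ heR ?_
        have := commute_conj D.e⁻¹ hc
        rwa [show D.e⁻¹ * (D.z * D.t) * D.e⁻¹⁻¹ = D.t by rw [← D.e_t]; group] at this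
      rw [conj_eq_one_iff.1 he1]
      exact one_mem _
  intro k hk
  refine mem_centralizer_singleton_iff.2 ?_
  set w := k * D.z * k⁻¹ with hw
  have hwC : w ∈ centralizer (U : Set G) :=
    (mem_normalizer_iff.1 (normalizer_le_normalizer_centralizer' U hk) D.z).1 hzU
  obtain ⟨T⟩ : Nonempty (Sylow 2 ↥(centralizer (U : Set G))) := inferInstance
  -- all of the centraliser commutes with the central involution
  have hCz : ∀ v ∈ centralizer (U : Set G), v * D.z = D.z * v := by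
    intro v hv
    set C := centralizer (U : Set G) with hC
    set L := C ⊓ centralizer ({D.z} : Set G) with hL
    suffices hCL : C ≤ L from mem_centralizer_singleton_iff.1 (hCL hv).2
    have hLC : L ≤ C := inf_le_left
    obtain ⟨a, ha⟩ : ∃ a, Nat.card C = a := ⟨_, rfl⟩
    refine (Subgroup.eq_of_le_of_card_ge hLC ?_).ge
    refine Nat.le_of_dvd Nat.card_pos ?_
    refine (Nat.factorization_le_iff_dvd Nat.card_pos.ne' Nat.card_pos.ne').1 fun r => ?_
    by_cases hr : r.Prime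
    swap
    · rw [Nat.factorization_eq_zero_of_not_prime _ hr]; exact Nat.zero_le _
    haveI := Fact.mk hr
    obtain ⟨W⟩ : Nonempty (Sylow r C) := inferInstance
    by_cases hr2 : r = 2
    · subst hr2
      obtain ⟨g, hg, hgW⟩ := D.sylow_cent_le hPU W
      -- conjugate the whole Sylow subgroup into the rotations
      let W₀ := ((W : Subgroup C).map C.subtype).map (MulAut.conj g).toMonoidHom
      have hW₀ : W₀ ≤ L := by
        rintro _ ⟨_, ⟨b, hb, rfl⟩, rfl⟩
        have h := hgW b hb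
        exact ⟨h.2, mem_centralizer_singleton_iff.2 (D.z_S h.1)⟩
      have := card_dvd_of_le hW₀
      rw [card_map_of_injective (MulAut.conj g).injective, card_map_of_injective C.subtype_injective,
        W.card_eq_multiplicity] at this
      exact (hr.pow_dvd_iff_le_factorization Nat.card_pos.ne').1 this
    · have hW₀ : (W : Subgroup C).map C.subtype ≤ L := by
        rintro _ ⟨b, hb, rfl⟩
        obtain ⟨j, hj⟩ := W.2.exists_card_eq
        obtain ⟨j', -, hj'⟩ := (Nat.dvd_prime_pow hr).1 (hj ▸ Subgroup.orderOf_dvd_natCard _ hb)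
        refine ⟨b.2, mem_centralizer_singleton_iff.2 (D.hOle _ (hRO (hmem _ b.2 ?_)))⟩
        rw [show orderOf (C.subtype b) = orderOf b from Subgroup.orderOf_coe b, hj']
        exact (hr.odd_of_ne_two hr2).pow
      have := card_dvd_of_le hW₀
      rw [card_map_of_injective C.subtype_injective, W.card_eq_multiplicity] at this
      exact (hr.pow_dvd_iff_le_factorization Nat.card_pos.ne').1 this
  obtain ⟨o, ho, σ, hσ, hoσ⟩ := D.hCdec w (hCz w hwC)
  have hoU : o ∈ centralizer (U : Set G) := mem_centralizer_iff.2 fun y hy => D.O_comm (hU hy) ho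
  have hσU : σ ∈ centralizer (U : Set G) := by
    rw [show σ = o⁻¹ * w by rw [hoσ]; group]
    exact mul_mem (inv_mem hoU) hwC
  obtain ⟨j, hj | hj⟩ := D.hgen σ hσ
  swap
  · exact absurd hσU (hj ▸ hrefl j)
  subst hj
  have hcomm : Commute o (D.c ^ j) := (Commute.pow_left (D.c_O ho : Commute D.c o) j).symm
  have hw2 : orderOf w = 2 := by rw [hw, orderOf_conj', D.order_z]
  have hcop : (orderOf o).Coprime (orderOf (D.c ^ j)) := by
    obtain ⟨r, hr⟩ := D.S.2.exists_card_eq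
    exact ((Nat.coprime_two_right.2 (odd_orderOf_of_mem D.hOodd ho)).pow_right r).coprime_dvd_right
      (hr ▸ Subgroup.orderOf_dvd_natCard _ hσ)
  rw [hoσ, hcomm.orderOf_mul_eq_mul_orderOf_of_coprime hcop] at hw2
  have ho1 : o = 1 := by
    have h3 : orderOf o ∣ 2 := ⟨_, hw2.symm⟩
    exact eq_one_of_odd_of_two (odd_orderOf_of_mem D.hOodd ho)
      (by rw [← pow_two]; exact orderOf_dvd_iff_pow_eq_one.1 h3)
  subst ho1
  rw [one_mul] at hoσ
  rw [orderOf_one, one_mul] at hw2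
  rcases D.invol_cases hσ hw2 with e | ⟨l, e⟩
  · exact mul_inv_eq_iff_eq_mul.1 (hoσ.trans e)
  · exact absurd (e ▸ hσU) (hrefl l)

/-- The group is a projective special linear group. -/
theorem exists_psl (D : DihSit G) : ∃ (F : Type) (_ : Field F) (_ : Fintype F), Odd (Fintype.card F) ∧
    Nonempty (G ≃* Matrix.ProjectiveSpecialLinearGroup (Fin 2) F) := by
  classical
  haveI : Fact (Nat.Prime 2) := ⟨Nat.prime_two⟩
  haveI := D.simple
  set C := centralizer ({D.z} : Set G) with hC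
  have hOC : D.O ≤ C := fun x hx => mem_centralizer_singleton_iff.2 (D.hOle x hx)
  have hO : D.O = (Cfsg.oddCore C).map C.subtype := by
    refine le_antisymm ?_ ?_
    · have key : ∀ g ∈ C, ∀ x ∈ D.O, g * x * g⁻¹ ∈ D.O := fun g hg x hx =>
        D.O_conj (mem_centralizer_singleton_iff.1 hg) hx
      haveI : (D.O.subgroupOf C).Normal := ⟨fun n hn g => key g g.2 n hn⟩
      intro x hx
      refine ⟨⟨x, hOC hx⟩, Cfsg.Lib.Components.le_pPrimeCore (N := D.O.subgroupOf C) ?_ hx, rfl⟩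
      rw [Nat.card_congr (subgroupOfEquivOfLe hOC).toEquiv]
      exact Nat.coprime_two_right.2 D.hOodd
    · rintro _ ⟨x, hx, rfl⟩
      refine D.hOmem _ (mem_centralizer_singleton_iff.1 x.2) ?_
      rw [show orderOf (C.subtype x) = orderOf x from Subgroup.orderOf_coe x]
      exact odd_orderOf_of_mem (Nat.coprime_two_right.1 (Cfsg.Lib.Components.coprime_card_pPrimeCore 2)) hx
  refine Cfsg.Agent.S0508.result D.S D.m (by have := D.hm; omega) ?_ D.z D.order_z (D.hPS D.z_mem_P)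
    (fun s hs => D.z_S hs) D.O hO ?_ ?_ (fun U hU hne => D.normalizer_le_cent hU hne)
  · exact D.hdih
  · intro hne
    have hcap : (D.S : Subgroup G) ⊓ centralizer (D.O : Set G) = zpowers D.c := by
      refine le_antisymm ?_ (zpowers_le.2 ⟨D.hcS, mem_centralizer_iff.2 fun y hy => (D.c_O hy).symm⟩)
      rintro g ⟨hg, hgc⟩
      obtain ⟨i, rfl | rfl⟩ := D.hgen g hg
      · exact pow_mem (mem_zpowers _) _
      · exfalso
        refine hne ((Subgroup.eq_bot_iff_forall _).2 fun y hy =>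
          eq_one_of_odd_of_two (odd_orderOf_of_mem D.hOodd hy) ?_)
        have h1 := D.refl_O i hy
        rw [← mem_centralizer_iff.1 hgc y hy, mul_inv_cancel_right] at h1
        nth_rewrite 1 [h1]
        exact inv_mul_cancel y
    rw [hcap]
    refine ⟨inferInstance, ?_⟩
    refine Subgroup.index_eq_two_iff.2 ⟨⟨D.t, D.hPS D.t_mem_P⟩, fun b => ?_⟩
    rw [mem_subgroupOf, mem_subgroupOf, Subgroup.coe_mul]
    have hnot : ∀ i : ℕ, D.c ^ i * D.t ∉ zpowers D.c := fun i h => by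
      obtain ⟨l, hl⟩ := mem_zpowers_iff.1 h
      exact D.not_pow_comm (i := i) (by rw [← hl]; exact (Commute.zpow_self D.c l).eq)
    obtain ⟨i, hi | hi⟩ := D.hgen b b.2
    · exact Or.inr ⟨by rw [hi]; exact pow_mem (mem_zpowers _) _, by rw [hi]; exact hnot i⟩
    · exact Or.inl ⟨by rw [hi, mul_assoc, D.t_sq, mul_one]; exact pow_mem (mem_zpowers _) _,
        by rw [hi]; exact hnot i⟩
  · intro s hs hsC y hy
    obtain ⟨i, rfl | rfl⟩ := D.hgen s hs
    · refine absurd (mem_centralizer_iff.2 fun y hy => ?_) hsC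
      exact ((Commute.pow_left (D.c_O hy : Commute D.c y) i).eq).symm
    · exact D.refl_O i hy

end DihSit

end Cfsg.Lib.SubdegThree
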