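import Cfsg.Agent.SubdegThree.DihBase

/-!
The dihedral situation: reflections, the second four-group and the product of the three conjugates of `Y`.
-/

set_option autoImplicit false
set_option linter.style.haveILetI false
set_option linter.unusedSectionVars false

namespace Cfsg.Lib.SubdegThree

open Subgroup

universe u

variable {G : Type u} [Group G] [Finite G]

namespace DihSit

variable (D : DihSit G)

theorem t_inv_self : D.t⁻¹ = D.t := inv_eq_of_mul_eq_one_right D.t_sq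

theorem z_inv_self : D.z⁻¹ = D.z := inv_eq_of_mul_eq_one_right D.z_sq

theorem d_d : D.d⁻¹ = D.d * D.d := by
  refine inv_eq_of_mul_eq_one_right ?_
  rw [← map_mul, ← map_mul, ← pow_two, ← pow_succ', perm_facts.2.2.2.2.2.2.2.2.1, map_one]

theorem d_inv_z : D.d⁻¹ * D.z * D.d = D.z * D.t := by
  have h := congrArg (fun w => D.d⁻¹ * w * D.d) D.d_zt
  simpa [mul_assoc] using h.symm

theorem d_inv_t : D.d⁻¹ * D.t * D.d = D.z := by
  have h := congrArg (fun w => D.d⁻¹ * w * D.d) D.d_z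
  simpa [mul_assoc] using h.symm

theorem O_S {x : G} (hx : x ∈ D.O) (hxS : x ∈ (D.S : Subgroup G)) : x = 1 := by
  obtain ⟨k, hk⟩ := D.S.2.exists_card_eq
  exact orderOf_eq_one_iff.1 (Nat.eq_one_of_dvd_coprimes
    ((Nat.coprime_two_right.2 (odd_orderOf_of_mem D.hOodd hx)).pow_right k) dvd_rfl
    (hk ▸ Subgroup.orderOf_dvd_natCard _ hxS))

/-- The Sylow subgroup is the only one above `P`. -/
theorem two_le_S {T : Subgroup G} (hT : IsPGroup 2 T) (hP : D.P ≤ T) : T ≤ (D.S : Subgroup G) := by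
  haveI : Fact (Nat.Prime 2) := ⟨Nat.prime_two⟩
  obtain ⟨T', hT'⟩ := hT.exists_le_sylow
  refine hT'.trans ?_
  set C := centralizer ({D.z} : Set G)
  have hTC : (T' : Subgroup G) ≤ C :=
    fun x hx => mem_centralizer_singleton_iff.2 (D.z_central T'.2 (hP.trans hT') hx)
  have hSC : (D.S : Subgroup G) ≤ C := fun x hx => mem_centralizer_singleton_iff.2 (D.z_S hx)
  obtain ⟨⟨g, hg⟩, hgT⟩ := MulAction.exists_smul_eq C (D.S.subtype hSC) (T'.subtype hTC)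
  obtain ⟨o, ho, a, ha, rfl⟩ := D.hCdec g (mem_centralizer_singleton_iff.1 hg)
  have hmem : ∀ x ∈ (T' : Subgroup G), o⁻¹ * x * o ∈ (D.S : Subgroup G) := by
    intro x hx
    have h : (⟨x, hTC hx⟩ : C) ∈ T'.subtype hTC := mem_subgroupOf.2 hx
    rw [← hgT, ← SetLike.mem_coe, Sylow.coe_smul] at h
    obtain ⟨⟨y, hy⟩, hy', hxy⟩ := h
    have hyS : y ∈ (D.S : Subgroup G) := hy'
    have hxy' : o * a * y * (o * a)⁻¹ = x := congrArg Subtype.val hxy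
    rw [← hxy', show o⁻¹ * (o * a * y * (o * a)⁻¹) * o = a * y * a⁻¹ by group]
    exact mul_mem (mul_mem ha hyS) (inv_mem ha)
  have ho1 : o = 1 := by
    have h := hmem D.t (hT' (hP D.t_mem_P))
    have h2 : o⁻¹ * D.t * o = D.t * (o * o) := by
      have := D.t_inv ho
      rw [← this]
      calc D.t * o * D.t⁻¹ * D.t * o = D.t * (o * o) := by group
        _ = _ := rfl
    rw [h2] at h
    have h3 := mul_mem (inv_mem (D.hPS D.t_mem_P)) h
    rw [inv_mul_cancel_left] at h3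
    exact eq_one_of_odd_of_two (odd_orderOf_of_mem D.hOodd ho) (D.O_S (mul_mem ho ho) h3)
  intro x hx
  simpa [ho1] using hmem x hx

/-- Conjugating a reflection by a rotation. -/
theorem refl_conj (i j : ℕ) : D.c ^ j * (D.c ^ i * D.t) * (D.c ^ j)⁻¹ = D.c ^ (i + 2 * j) * D.t := by
  have h := D.t_conj_pow j
  rw [← h, show D.c ^ j * (D.c ^ i * D.t) * (D.t * D.c ^ j * D.t⁻¹) =
      D.c ^ j * D.c ^ i * (D.t * D.t) * D.c ^ j * D.t⁻¹ by group, D.t_sq, mul_one, D.t_inv_self,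
    ← pow_add, ← pow_add]
  congr 2
  omega

/-- The involutions of the Sylow subgroup. -/
theorem invol_cases {x : G} (hx : x ∈ (D.S : Subgroup G)) (ho : orderOf x = 2) :
    x = D.z ∨ ∃ i, x = D.c ^ i * D.t := by
  obtain ⟨k, hk | hk⟩ := D.hgen x hx
  · left
    obtain ⟨i, hi, -⟩ := D.z_pow
    subst hk
    have h2k : D.m ∣ 2 * k := D.c_pow_one.1 (by rw [mul_comm, pow_mul, ← ho]; exact pow_orderOf_eq_one _)
    have h2i : D.m ∣ 2 * i := D.c_pow_one.1 (by rw [mul_comm, pow_mul, hi, pow_two, D.z_sq])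
    have hnk : ¬ D.m ∣ k := fun h => by rw [D.c_pow_one.2 h, orderOf_one] at ho; omega
    have hni : ¬ D.m ∣ i := fun h => D.z_ne (hi.symm.trans (D.c_pow_one.2 h))
    obtain ⟨a, ha⟩ := h2k
    obtain ⟨b, hb⟩ := h2i
    have hao : Odd a := by
      by_contra he
      obtain ⟨a', rfl⟩ := (Nat.not_odd_iff_even.1 he)
      exact hnk ⟨a', by rw [mul_add] at ha; omega⟩
    have hbo : Odd b := by
      by_contra he
      obtain ⟨b', rfl⟩ := (Nat.not_odd_iff_even.1 he)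
      exact hni ⟨b', by rw [mul_add] at hb; omega⟩
    obtain ⟨e, he⟩ := hao.add_odd hbo
    have hsum : D.c ^ (k + i) = 1 :=
      D.c_pow_one.2 ⟨e, by have := congrArg (D.m * ·) he; simp only [mul_add] at this; omega⟩
    rw [pow_add, hi] at hsum
    rw [← inv_eq_of_mul_eq_one_left hsum, D.z_inv_self]
  · exact Or.inr ⟨k, hk⟩

theorem s_eq : D.s = D.c ^ (D.m - 1) * D.t := by
  have h : D.c ^ (D.m - 1) = D.c⁻¹ := by
    refine eq_inv_of_mul_eq_one_left ?_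
    rw [← pow_succ, Nat.sub_add_cancel (by have := D.hm; omega), D.c_pow_one]
  rw [h, ← D.hinv, DihSit.s]
  group

theorem s_mem : D.s ∈ (D.S : Subgroup G) := mul_mem (D.hPS D.t_mem_P) D.hcS

theorem refl_sq (i : ℕ) : D.c ^ i * D.t * (D.c ^ i * D.t) = 1 := by
  rw [show D.c ^ i * D.t * (D.c ^ i * D.t) = D.c ^ i * (D.t * D.c ^ i * D.t⁻¹) * (D.t * D.t) by group,
    D.t_conj_pow, mul_inv_cancel, one_mul, D.t_sq]

theorem refl_ne (i : ℕ) : D.c ^ i * D.t ≠ 1 := fun h => D.not_pow_comm (i := i) (by rw [h, one_mul, mul_one])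

theorem refl_ne_z (i : ℕ) : D.c ^ i * D.t ≠ D.z := fun h => D.not_pow_comm (h ▸ D.cz.symm)

theorem order_refl (i : ℕ) : orderOf (D.c ^ i * D.t) = 2 :=
  orderOf_eq_prime (by rw [pow_two, D.refl_sq]) (D.refl_ne i)

theorem m_even : 2 ∣ D.m := by
  obtain ⟨k, hk⟩ := D.hm2
  have := D.hm
  rw [hk] at this ⊢
  exact dvd_pow_self 2 (by rintro rfl; norm_num at this)

/-- An even reflection is conjugate to `t`. -/
theorem even_refl {i : ℕ} (hi : 2 ∣ i) : ∃ r ∈ (D.S : Subgroup G), r * (D.c ^ i * D.t) * r⁻¹ = D.t := by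
  obtain ⟨a, rfl⟩ := hi
  refine ⟨(D.c ^ a)⁻¹, inv_mem (pow_mem D.hcS _), ?_⟩
  rw [← mul_right_inj (D.c ^ a), ← mul_left_inj (D.c ^ a)⁻¹]
  have h := D.refl_conj 0 a
  rw [pow_zero, one_mul, zero_add] at h
  rw [h]
  group

/-- An odd reflection is conjugate to `s`. -/
theorem odd_refl {i : ℕ} (hi : ¬ 2 ∣ i) : ∃ r ∈ (D.S : Subgroup G), r * (D.c ^ i * D.t) * r⁻¹ = D.s := by
  obtain ⟨m', hm'⟩ := D.m_even
  have := D.hm
  refine ⟨D.c ^ ((D.m * (i + 1) - (i + 1)) / 2), pow_mem D.hcS _, ?_⟩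
  rw [D.refl_conj, D.s_eq]
  congr 1
  obtain ⟨i', rfl⟩ : ∃ i', i = 2 * i' + 1 := ⟨i / 2, by omega⟩
  rw [pow_eq_pow_iff_modEq, D.hord]
  have e : 2 * i' + 1 + 2 * ((D.m * (2 * i' + 1 + 1) - (2 * i' + 1 + 1)) / 2) =
      (2 * i' + 1) * D.m + (D.m - 1) := by
    have h1 : D.m * (2 * i' + 1 + 1) - (2 * i' + 1 + 1) = 2 * (D.m * (i' + 1) - (i' + 1)) := by
      rw [show D.m * (2 * i' + 1 + 1) = 2 * (D.m * (i' + 1)) by ring]; omega
    rw [h1, Nat.mul_div_cancel_left _ two_pos, show (2 * i' + 1) * D.m = 2 * (D.m * (i' + 1)) - D.m by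
      rw [show 2 * (D.m * (i' + 1)) = (2 * i' + 1) * D.m + D.m by ring, Nat.add_sub_cancel]]
    have h2 : i' + 1 ≤ D.m * (i' + 1) := Nat.le_mul_of_pos_left _ (by omega)
    have h3 : D.m ≤ D.m * (i' + 1) := Nat.le_mul_of_pos_right _ (by omega)
    omega
  rw [e]
  unfold Nat.ModEq
  rw [Nat.mul_add_mod_self_right]

theorem s_z : D.s * D.z = D.z * D.s := D.z_S D.s_mem

theorem e_s : D.e * D.s * D.e⁻¹ = D.z * D.s := by
  obtain ⟨i, hi⟩ := D.e_pow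
  have hz : D.z = D.c ^ (2 * (2 * i)) := by rw [← D.e_sq, hi, ← pow_add]; ring_nf
  rw [D.s_eq, hi, D.refl_conj, hz, ← mul_assoc (D.c ^ _) (D.c ^ _) D.t, ← pow_add]
  congr 2
  ring

/-- An element centralising `Y` that fuses the two classes. -/
theorem exists_fuse (hY : D.Y ≠ ⊥) :
    ∃ k, (∀ y ∈ D.Y, k * y = y * k) ∧ k * D.z * k⁻¹ = D.s := by
  obtain ⟨y₀, hy₀, hy₀1⟩ := (Subgroup.ne_bot_iff_exists_ne_one.1 hY : ∃ a : D.Y, a ≠ 1) |>
    fun ⟨a, ha⟩ => (⟨(a : G), a.2, fun h => ha (Subtype.ext h)⟩ : ∃ y, y ∈ D.Y ∧ y ≠ 1)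
  have hsord : orderOf D.s = 2 := by rw [D.s_eq]; exact D.order_refl _
  obtain ⟨g, hg⟩ := D.conj_z hsord
  have hw : g * D.z * g⁻¹ * D.z = D.z * (g * D.z * g⁻¹) := by
    calc g * D.z * g⁻¹ * D.z = g * D.z * g⁻¹ * (g * D.s * g⁻¹) := by rw [hg]
      _ = g * (D.z * D.s) * g⁻¹ := by group
      _ = g * D.s * g⁻¹ * (g * D.z * g⁻¹) := by rw [← D.s_z]; group
      _ = D.z * (g * D.z * g⁻¹) := by rw [hg]
  obtain ⟨o, ho, a, ha, hoa⟩ := D.hCdec _ hw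
  -- move the image into the Sylow subgroup
  have hw2 : o * a * (o * a) = 1 := by
    rw [← hoa, show g * D.z * g⁻¹ * (g * D.z * g⁻¹) = g * (D.z * D.z) * g⁻¹ by group, D.z_sq]; group
  have hao : a * o * a⁻¹ ∈ D.O := D.O_conj (D.z_S ha) ho
  have ha2 : a * a = 1 := by
    refine D.O_S ?_ (mul_mem ha ha)
    have h : a * a = (a * o * a⁻¹)⁻¹ * o⁻¹ := by
      rw [eq_comm, ← mul_inv_rev, inv_eq_iff_mul_eq_one, ← hw2]; group
    rw [h]
    exact mul_mem (inv_mem hao) (inv_mem ho)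
  have hinv : a * o * a⁻¹ = o⁻¹ := by
    rw [eq_inv_iff_mul_eq_one, inv_eq_of_mul_eq_one_right ha2]
    have := congrArg (fun w => o⁻¹ * w * o) hw2
    simpa [mul_assoc] using this
  obtain ⟨b, hb⟩ := odd_orderOf_of_mem D.hOodd ho
  set o₀ := o ^ (b + 1) with ho₀
  have ho₀O : o₀ ∈ D.O := pow_mem ho _
  have hsq : o₀ * o₀ = o := by
    rw [ho₀, ← pow_add, show b + 1 + (b + 1) = orderOf o + 1 by omega, pow_succ, pow_orderOf_eq_one, one_mul]
  have hinv₀ : a * o₀ * a⁻¹ = o₀⁻¹ := by rw [ho₀, ← conj_pow, hinv, inv_pow]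
  have hmove : o₀⁻¹ * (g * D.z * g⁻¹) * o₀ = a := by
    rw [hoa, ← hsq]
    calc o₀⁻¹ * (o₀ * o₀ * a) * o₀ = o₀ * (a * o₀ * a⁻¹) * a := by group
      _ = a := by rw [hinv₀, mul_inv_cancel, one_mul]
  have hao2 : orderOf a = 2 := by
    rw [← hmove, show o₀⁻¹ * (g * D.z * g⁻¹) * o₀ = o₀⁻¹ * g * D.z * (o₀⁻¹ * g)⁻¹ by group,
      ← MulAut.conj_apply, MulEquiv.orderOf_eq, D.order_z]
  have hg₀ : o₀⁻¹ * g * D.s * (o₀⁻¹ * g)⁻¹ = D.z := by
    rw [show o₀⁻¹ * g * D.s * (o₀⁻¹ * g)⁻¹ = o₀⁻¹ * (g * D.s * g⁻¹) * o₀ by group, hg, mul_assoc,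
      ← D.hOle o₀ ho₀O, inv_mul_cancel_left]
  have hsz : D.s ≠ D.z := by rw [D.s_eq]; exact D.refl_ne_z _
  obtain rfl | ⟨i, rfl⟩ := D.invol_cases ha hao2
  · exfalso
    refine hsz ?_
    have : o₀⁻¹ * g * D.s * (o₀⁻¹ * g)⁻¹ = o₀⁻¹ * g * D.z * (o₀⁻¹ * g)⁻¹ := by
      rw [hg₀]; conv_lhs => rw [← hmove]
      group
    exact mul_left_cancel (mul_right_cancel this)
  by_cases hi : 2 ∣ i
  · exfalso
    obtain ⟨r, hr, hrt⟩ := D.even_refl hi
    set n := r * o₀⁻¹ * g with hn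
    have hnz : n * D.z * n⁻¹ = D.t := by
      rw [hn, show r * o₀⁻¹ * g * D.z * (r * o₀⁻¹ * g)⁻¹ = r * (o₀⁻¹ * (g * D.z * g⁻¹) * o₀) * r⁻¹ by group,
        hmove, hrt]
    have hns : n * D.s * n⁻¹ = D.z := by
      rw [hn, show r * o₀⁻¹ * g * D.s * (r * o₀⁻¹ * g)⁻¹ = r * (o₀⁻¹ * g * D.s * (o₀⁻¹ * g)⁻¹) * r⁻¹ by group,
        hg₀, D.z_S hr, mul_inv_cancel_right]
    have hc : ∀ v, y₀ * v = v * y₀ → n * y₀ * n⁻¹ * (n * v * n⁻¹) = n * v * n⁻¹ * (n * y₀ * n⁻¹) := by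
      intro v hv
      calc n * y₀ * n⁻¹ * (n * v * n⁻¹) = n * (y₀ * v) * n⁻¹ := by group
        _ = n * v * n⁻¹ * (n * y₀ * n⁻¹) := by rw [hv]; group
    have h1 := hc D.s (D.s_Y hy₀).symm
    have h2 := hc D.z (D.hOle y₀ hy₀.1)
    rw [hns] at h1
    rw [hnz] at h2
    refine hy₀1 (conj_eq_one_iff.1 (?_ : n * y₀ * n⁻¹ = 1))
    refine eq_one_of_odd_of_two ?_ ?_
    · rw [← MulAut.conj_apply, MulEquiv.orderOf_eq]; exact odd_orderOf_of_mem D.Y_odd hy₀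
    · rcases D.cent_four h1 h2 with e | e | e | e <;> rw [e]
      exacts [one_mul 1, D.z_sq, D.t_sq, by
        rw [show D.z * D.t * (D.z * D.t) = D.z * (D.t * D.z) * D.t by group, D.t_z, mul_assoc, mul_assoc,
          D.t_sq, mul_one, D.z_sq]]
  · obtain ⟨r, hr, hrs⟩ := D.odd_refl hi
    set n := r * o₀⁻¹ * g with hn
    have hnz : n * D.z * n⁻¹ = D.s := by
      rw [hn, show r * o₀⁻¹ * g * D.z * (r * o₀⁻¹ * g)⁻¹ = r * (o₀⁻¹ * (g * D.z * g⁻¹) * o₀) * r⁻¹ by group,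
        hmove, hrs]
    have hns : n * D.s * n⁻¹ = D.z := by
      rw [hn, show r * o₀⁻¹ * g * D.s * (r * o₀⁻¹ * g)⁻¹ = r * (o₀⁻¹ * g * D.s * (o₀⁻¹ * g)⁻¹) * r⁻¹ by group,
        hg₀, D.z_S hr, mul_inv_cancel_right]
    have hnY : ∀ y ∈ D.Y, n * y * n⁻¹ ∈ D.Y := by
      intro y hy
      have h1 : n * y * n⁻¹ * D.z = D.z * (n * y * n⁻¹) := by
        rw [← hns]
        calc n * y * n⁻¹ * (n * D.s * n⁻¹) = n * (y * D.s) * n⁻¹ := by group
          _ = _ := by rw [← D.s_Y hy]; group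
      have h2 : D.s * (n * y * n⁻¹) = n * y * n⁻¹ * D.s := by
        rw [← hnz]
        calc n * D.z * n⁻¹ * (n * y * n⁻¹) = n * (D.z * y) * n⁻¹ := by group
          _ = _ := by rw [← D.hOle y hy.1]; group
      have hO : n * y * n⁻¹ ∈ D.O := D.hOmem _ h1 (by
        rw [← MulAut.conj_apply, MulEquiv.orderOf_eq]; exact odd_orderOf_of_mem D.Y_odd hy)
      refine ⟨hO, ?_⟩
      have h3 : D.t * (D.c * (n * y * n⁻¹) * D.c⁻¹) * D.t⁻¹ = n * y * n⁻¹ := by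
        rw [show D.t * (D.c * (n * y * n⁻¹) * D.c⁻¹) * D.t⁻¹ = D.s * (n * y * n⁻¹) * D.s⁻¹ by
          unfold DihSit.s; group, h2, mul_inv_cancel_right]
      have h4 : D.c * (n * y * n⁻¹) * D.c⁻¹ = D.t⁻¹ * (n * y * n⁻¹) * D.t := by
        conv_rhs => rw [← h3]
        group
      rw [h4]
      conv_lhs => rw [D.t_inv_self]; arg 2; rw [← D.t_inv_self]
      exact D.t_inv hO
    have hsurj : ∀ y ∈ D.Y, ∃ y' ∈ D.Y, n * y' * n⁻¹ = y := by
      intro y hy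
      let f : D.Y → D.Y := fun a => ⟨n * a * n⁻¹, hnY a a.2⟩
      have hf : Function.Injective f := fun a b h =>
        Subtype.ext (mul_left_cancel (mul_right_cancel (congrArg Subtype.val h)))
      obtain ⟨y', h'⟩ := Finite.injective_iff_surjective.1 hf ⟨y, hy⟩
      exact ⟨y', y'.2, congrArg Subtype.val h'⟩
    refine ⟨D.e * (n * D.e * n⁻¹), fun y hy => ?_, ?_⟩
    · obtain ⟨y', hy', hy''⟩ := hsurj y hy
      have hk : n * D.e * n⁻¹ * y = y * (n * D.e * n⁻¹) := by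
        rw [← hy'']
        calc n * D.e * n⁻¹ * (n * y' * n⁻¹) = n * (D.e * y') * n⁻¹ := by group
          _ = _ := by rw [D.e_O hy'.1]; group
      rw [mul_assoc, hk, ← mul_assoc, D.e_O hy.1, mul_assoc]
    · calc D.e * (n * D.e * n⁻¹) * D.z * (D.e * (n * D.e * n⁻¹))⁻¹
          = D.e * (n * (D.e * (n⁻¹ * D.z * n) * D.e⁻¹) * n⁻¹) * D.e⁻¹ := by group
        _ = D.e * (n * (D.z * D.s) * n⁻¹) * D.e⁻¹ := by
            rw [show n⁻¹ * D.z * n = D.s by rw [← hns]; group, D.e_s]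
        _ = D.e * (D.s * D.z) * D.e⁻¹ := by
            rw [show n * (D.z * D.s) * n⁻¹ = n * D.z * n⁻¹ * (n * D.s * n⁻¹) by group, hnz, hns]
        _ = D.e * D.s * D.e⁻¹ * (D.e * D.z * D.e⁻¹) := by group
        _ = D.s := by
            rw [D.e_s, D.e_z, mul_inv_cancel_right, mul_assoc, D.s_z, ← mul_assoc, D.z_sq, one_mul]

/-- The three conjugates of a subgroup of `Y` do not commute pairwise. -/
theorem gamma_bot {Y₀ : Subgroup G} (hY₀ : Y₀ ≤ D.Y) {y : G} (hy : y ∈ Y₀)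
    (h1 : ∀ w ∈ Y₀, y * (D.d * w * D.d⁻¹) = D.d * w * D.d⁻¹ * y)
    (h2 : ∀ w ∈ Y₀, y * (D.d⁻¹ * w * D.d) = D.d⁻¹ * w * D.d * y) : y = 1 := by
  haveI : Fact (Nat.Prime 2) := ⟨Nat.prime_two⟩
  set Γ : Set G := {v | v ∈ Y₀ ∧ (∀ w ∈ Y₀, v * (D.d * w * D.d⁻¹) = D.d * w * D.d⁻¹ * v) ∧
    ∀ w ∈ Y₀, v * (D.d⁻¹ * w * D.d) = D.d⁻¹ * w * D.d * v} with hΓ
  set U : Set G := {x | ∃ v ∈ Γ, x = v ∨ x = D.d * v * D.d⁻¹ ∨ x = D.d⁻¹ * v * D.d} with hU
  have hcj : ∀ {a b : G} (g : G), a * b = b * a →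
      g * a * g⁻¹ * (g * b * g⁻¹) = g * b * g⁻¹ * (g * a * g⁻¹) := by
    intro a b g h
    calc g * a * g⁻¹ * (g * b * g⁻¹) = g * (a * b) * g⁻¹ := by group
      _ = g * b * g⁻¹ * (g * a * g⁻¹) := by rw [h]; group
  have hd2 : ∀ w, D.d * (D.d * w * D.d⁻¹) * D.d⁻¹ = D.d⁻¹ * w * D.d := by
    intro w
    rw [show D.d * (D.d * w * D.d⁻¹) * D.d⁻¹ = D.d * D.d * w * (D.d * D.d)⁻¹ by group, ← D.d_d, inv_inv]
  have hd2' : ∀ w, D.d⁻¹ * (D.d⁻¹ * w * D.d) * D.d = D.d * w * D.d⁻¹ := by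
    intro w
    rw [← hd2 w]; group
  have hUc : ∀ a ∈ U, ∀ b ∈ U, a * b = b * a := by
    have hYY : ∀ a ∈ Y₀, ∀ b ∈ Y₀, a * b = b * a := fun a ha b hb => D.O_comm (hY₀ ha).1 (hY₀ hb).1
    have h13 : ∀ v ∈ Γ, ∀ w ∈ Γ,
        D.d * v * D.d⁻¹ * (D.d⁻¹ * w * D.d) = D.d⁻¹ * w * D.d * (D.d * v * D.d⁻¹) := by
      intro v hv w hw
      have := hcj D.d (hv.2.1 w hw.1)
      rwa [hd2] at this
    rintro a ⟨v, hv, rfl | rfl | rfl⟩ b ⟨w, hw, rfl | rfl | rfl⟩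
    · exact hYY _ hv.1 _ hw.1
    · exact hv.2.1 w hw.1
    · exact hv.2.2 w hw.1
    · exact (hw.2.1 v hv.1).symm
    · exact hcj _ (hYY v hv.1 w hw.1)
    · exact h13 v hv w hw
    · exact (hw.2.2 v hv.1).symm
    · exact (h13 w hw v hv).symm
    · have := hcj D.d⁻¹ (hYY v hv.1 w hw.1)
      rwa [inv_inv] at this
  haveI := Subgroup.isMulCommutative_closure hUc
  have hodd : ∀ x ∈ closure U, Odd (orderOf x) := by
    intro x hx
    induction hx using closure_induction with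
    | mem x hx =>
      obtain ⟨v, hv, hx⟩ := hx
      have hvo := odd_orderOf_of_mem D.hOodd (hY₀ hv.1).1
      rcases hx with rfl | rfl | rfl
      · exact hvo
      · rw [← MulAut.conj_apply, MulEquiv.orderOf_eq]; exact hvo
      · rw [show D.d⁻¹ * v * D.d = MulAut.conj D.d⁻¹ v by simp, MulEquiv.orderOf_eq]; exact hvo
    | one => simp
    | mul a b ha hb iha ihb =>
      refine (iha.mul ihb).of_dvd_nat ((Commute.orderOf_mul_dvd_lcm ?_).trans (Nat.lcm_dvd_mul _ _))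
      exact congrArg Subtype.val (mul_comm' (⟨a, ha⟩ : closure U) ⟨b, hb⟩)
    | inv a ha iha => rwa [orderOf_inv]
  have hcard : Odd (Nat.card (closure U)) := by
    refine Nat.not_even_iff_odd.1 fun he => ?_
    obtain ⟨x, hx⟩ := exists_prime_orderOf_dvd_card' 2 (even_iff_two_dvd.1 he)
    have h := hodd x x.2
    rw [Subgroup.orderOf_coe, hx] at h
    exact absurd h (by decide)
  have hnorm : ∀ g, (∀ x ∈ U, g * x * g⁻¹ ∈ closure U) → g ∈ normalizer (closure U : Set G) := by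
    intro g hg
    refine mem_normalizer_iff_map_conj_eq.2 (Subgroup.eq_of_le_of_card_ge ?_ ?_)
    · rw [MonoidHom.map_closure, closure_le]
      rintro _ ⟨x, hx, rfl⟩
      exact hg x hx
    · exact (Nat.card_congr ((closure U).equivMapOfInjective _ (MulAut.conj g).injective).toEquiv).le
  have hΓinv : ∀ v ∈ Γ, v⁻¹ ∈ Γ := fun v hv =>
    ⟨inv_mem hv.1, fun w hw => (Commute.inv_left (hv.2.1 w hw : Commute v _)).eq,
      fun w hw => (Commute.inv_left (hv.2.2 w hw : Commute v _)).eq⟩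
  have hz : ∀ v ∈ Γ, D.z * v * D.z⁻¹ = v := fun v hv => by
    rw [← D.hOle v (hY₀ hv.1).1, mul_inv_cancel_right]
  have ht : ∀ v ∈ Γ, D.t * v * D.t⁻¹ = v⁻¹ := fun v hv => D.t_inv (hY₀ hv.1).1
  have hzt : ∀ v ∈ Γ, D.z * D.t * v * (D.z * D.t)⁻¹ = v⁻¹ := fun v hv => by
    rw [show D.z * D.t * v * (D.z * D.t)⁻¹ = D.z * (D.t * v * D.t⁻¹) * D.z⁻¹ by group, ht v hv,
      hz _ (hΓinv v hv)]
  have hconj : ∀ (g h v : G), g * (h * v * h⁻¹) * g⁻¹ = h * ((h⁻¹ * g * h) * v * (h⁻¹ * g * h)⁻¹) * h⁻¹ := by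
    intros; group
  have hzR : D.z ∈ normalizer (closure U : Set G) := hnorm _ (by
    rintro x ⟨v, hv, rfl | rfl | rfl⟩
    · rw [hz x hv]; exact subset_closure ⟨x, hv, Or.inl rfl⟩
    · rw [hconj, D.d_inv_z, hzt v hv]
      exact subset_closure ⟨v⁻¹, hΓinv v hv, Or.inr (Or.inl rfl)⟩
    · have e := hconj D.z D.d⁻¹ v
      rw [inv_inv, D.d_z, ht v hv] at e
      rw [e]
      exact subset_closure ⟨v⁻¹, hΓinv v hv, Or.inr (Or.inr rfl)⟩)
  have htR : D.t ∈ normalizer (closure U : Set G) := hnorm _ (by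
    rintro x ⟨v, hv, rfl | rfl | rfl⟩
    · rw [ht x hv]; exact subset_closure ⟨x⁻¹, hΓinv x hv, Or.inl rfl⟩
    · rw [hconj, D.d_inv_t, hz v hv]
      exact subset_closure ⟨v, hv, Or.inr (Or.inl rfl)⟩
    · have e := hconj D.t D.d⁻¹ v
      rw [inv_inv, D.d_t, hzt v hv] at e
      rw [e]
      exact subset_closure ⟨v⁻¹, hΓinv v hv, Or.inr (Or.inr rfl)⟩)
  have hdR : D.d ∈ normalizer (closure U : Set G) := hnorm _ (by
    rintro x ⟨v, hv, rfl | rfl | rfl⟩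
    · exact subset_closure ⟨x, hv, Or.inr (Or.inl rfl)⟩
    · rw [hd2]; exact subset_closure ⟨v, hv, Or.inr (Or.inr rfl)⟩
    · rw [show D.d * (D.d⁻¹ * v * D.d) * D.d⁻¹ = v by group]
      exact subset_closure ⟨v, hv, Or.inl rfl⟩)
  have hbot := D.la4 hcard hzR htR hdR
  have hyU : y ∈ closure U := subset_closure ⟨y, ⟨hy, h1, h2⟩, Or.inl rfl⟩
  rw [hbot, mem_bot] at hyU
  exact hyU

end DihSit

end Cfsg.Lib.SubdegThree
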