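import Cfsg.Agent.SubdegThree.DihFinal
import Cfsg.Agent.S1190
import Cfsg.Agent.S1203
import Cfsg.Agent.S1206
import Cfsg.Agent.S3742

/-!
The quasi-dihedral situation: the quaternion subgroup and the element of order three permuting its subgroups.
-/

set_option autoImplicit false
set_option linter.style.haveILetI false
set_option linter.unusedSectionVars false

namespace Cfsg.Lib.SubdegThree

open Subgroup

universe u

variable {G : Type u} [Group G] [Finite G]

/-- A map from the quaternion group given by the images of its two generators. -/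
def quatHom (e w : G) (h4 : e ^ 4 = 1) (hw : w * w = e * e) (hwe : w * e * w⁻¹ = e⁻¹) :
    QuaternionGroup 2 →* G :=
  MonoidHom.mk' (fun x => match x with | .a i => e ^ i.val | .xa i => w * e ^ i.val) (by
    have h1 : ∀ a b : ℕ, a % 4 = b % 4 → e ^ a = e ^ b := fun a b h => by
      rw [pow_eq_pow_mod a h4, pow_eq_pow_mod b h4, h]
    have h2 : ∀ a : ℕ, e ^ a * w = w * e ^ (3 * a) := by
      intro a
      have h3 : w * e ^ (3 * a) * w⁻¹ = e ^ a := by
        rw [← conj_pow, hwe, inv_pow, inv_eq_iff_mul_eq_one, ← pow_add, h1 (3 * a + a) 0 (by omega), pow_zero]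
      rw [← h3, inv_mul_cancel_right]
    rintro (i | i) (j | j)
    · show e ^ (i + j).val = e ^ i.val * e ^ j.val
      rw [← pow_add]
      exact h1 _ _ (by rw [ZMod.val_add]; omega)
    · show w * e ^ (j - i).val = e ^ i.val * (w * e ^ j.val)
      rw [← mul_assoc, h2, mul_assoc, ← pow_add]
      refine congrArg (w * ·) (h1 _ _ ?_)
      revert i j; decide
    · show w * e ^ (i + j).val = w * e ^ i.val * e ^ j.val
      rw [mul_assoc, ← pow_add]
      exact congrArg (w * ·) (h1 _ _ (by rw [ZMod.val_add]; omega))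
    · show e ^ (((2 : ℕ) : ZMod (2 * 2)) + j - i).val = w * e ^ i.val * (w * e ^ j.val)
      rw [mul_assoc w, ← mul_assoc (e ^ i.val), h2, ← mul_assoc, ← mul_assoc, hw, mul_assoc _ (e ^ (3 * i.val)),
        ← pow_two e, ← pow_add, ← pow_add]
      refine h1 _ _ ?_
      revert i j; decide)

/-- The quasi-dihedral situation. -/
structure SdSit (G : Type u) [Group G] [Finite G] extends Sym4 G where
  simple : IsSimpleGroup G
  S : Sylow 2 G
  hPS : toSym4.P ≤ (S : Subgroup G)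
  h16 : 16 ≤ Nat.card (S : Subgroup G)
  hQD : Cfsg.IsQuasiDihedral (S : Subgroup G)
  w : G
  hwS : w ∈ (S : Subgroup G)
  hww : w * w = toSym4.z
  hwe : w * toSym4.e * w⁻¹ = toSym4.e⁻¹

theorem Sym4.e_fourth (D : Sym4 G) : D.e ^ 4 = 1 := by
  rw [show 4 = 2 * 2 from rfl, pow_mul, pow_two, pow_two, D.e_sq, D.z_sq]

theorem Sym4.e_inv (D : Sym4 G) : D.t * D.e * D.t⁻¹ = D.e⁻¹ := by
  rw [← map_inv, ← map_inv, ← map_mul, ← map_mul,
    (by decide +kernel : pb * pe * pb⁻¹ = pe⁻¹)]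

/-- The quasi-dihedral situation exists. -/
theorem Sym4.exists_sdSit (D : Sym4 G) (hsimple : IsSimpleGroup G)
    (S : Sylow 2 G) (hPS : D.P ≤ (S : Subgroup G)) (h16 : 16 ≤ Nat.card (S : Subgroup G))
    (hQD : Cfsg.IsQuasiDihedral (S : Subgroup G)) : ∃ T : SdSit G, T.toSym4 = D := by
  classical
  obtain ⟨n, hn, hcard, x, y, hx, hy, hrel⟩ := id hQD
  set N := 2 ^ (n - 1) with hN
  have hN2 : 2 ^ n = 2 * N := by
    rw [hN, ← pow_succ']; congr 1; omega
  have hN4 : 4 ≤ N := by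
    rw [hN]
    calc 4 = 2 ^ 2 := rfl
      _ ≤ 2 ^ (n - 1) := Nat.pow_le_pow_right two_pos (by omega)
  obtain ⟨N', hN'⟩ : ∃ N', N = 4 * N' := by
    rw [hN]
    exact pow_dvd_pow 2 (show 2 ≤ n - 1 by omega)
  rw [hN2] at hx
  set ze : G := D.z with hze
  let zS : (S : Subgroup G) := ⟨D.z, hPS D.z_mem_P⟩
  let eS : (S : Subgroup G) := ⟨D.e, hPS D.e_mem_P⟩
  let tS : (S : Subgroup G) := ⟨D.t, hPS D.t_mem_P⟩
  have hy2 : y * y = 1 := by
    rw [← pow_two]; exact (orderOf_dvd_iff_pow_eq_one (n := 2)).1 hy.dvd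
  have hconj : ∀ i : ℕ, y * x ^ i * y⁻¹ = x ^ ((N - 1) * i) := fun i => by
    rw [← conj_pow, hrel, ← pow_mul]
  have hyx : y ∉ zpowers x := by
    intro h
    obtain ⟨i, rfl⟩ := mem_zpowers_iff.1 h
    rw [(Commute.zpow_self x i).eq, mul_inv_cancel_right] at hrel
    nth_rewrite 1 [← pow_one x] at hrel
    rw [pow_eq_pow_iff_modEq, hx] at hrel
    have := (Nat.modEq_iff_dvd' (show 1 ≤ N - 1 by omega)).1 hrel
    have := Nat.le_of_dvd (by omega) this
    omega
  have hidx : (zpowers x).index = 2 := by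
    have h := (zpowers x).card_mul_index
    rw [Nat.card_zpowers, hx, hcard, pow_succ, hN2] at h
    exact Nat.eq_of_mul_eq_mul_left (show 0 < 2 * N by omega) h
  have hall : ∀ s : (S : Subgroup G), ∃ i : ℕ, s = x ^ i ∨ s = x ^ i * y := by
    intro s
    by_cases hs : s ∈ zpowers x
    · obtain ⟨i, hi⟩ := Submonoid.mem_powers_iff _ _ |>.1 (mem_powers_iff_mem_zpowers.2 hs)
      exact ⟨i, Or.inl hi.symm⟩
    · have h := Subgroup.mul_mem_iff_of_index_two hidx (a := s) (b := y)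
      obtain ⟨i, hi⟩ := Submonoid.mem_powers_iff _ _ |>.1
        (mem_powers_iff_mem_zpowers.2 (h.2 (iff_of_false hs hyx)))
      exact ⟨i, Or.inr (by rw [hi, mul_assoc, hy2, mul_one])⟩
  have hsq : ∀ i : ℕ, x ^ i * y * (x ^ i * y) = x ^ (N * i) := by
    intro i
    rw [show x ^ i * y * (x ^ i * y) = x ^ i * (y * x ^ i * y⁻¹) * (y * y) by group, hconj, hy2, mul_one,
      ← pow_add]
    congr 1
    obtain ⟨M, hM⟩ : ∃ M, N = M + 1 := ⟨N - 1, by omega⟩
    rw [hM, Nat.add_sub_cancel]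
    ring
  have h1 : ∀ i, x ^ i = 1 ↔ 2 * N ∣ i := fun i => by rw [← orderOf_dvd_iff_pow_eq_one, hx]
  have hzc : ∀ s : (S : Subgroup G), s * zS = zS * s := fun s => Subtype.ext (D.z_central S.2 hPS s.2)
  have hz2 : zS * zS = 1 := Subtype.ext D.z_sq
  -- the central involution
  have hzN : zS = x ^ N := by
    obtain ⟨i, hi | hi⟩ := hall zS
    · rw [hi]
      have h2 : x ^ (2 * i) = 1 := by rw [two_mul, pow_add, ← hi, hz2]
      obtain ⟨a, ha⟩ := (h1 _).1 h2
      have hi' : i = N * a := by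
        refine Nat.eq_of_mul_eq_mul_left two_pos ?_
        rw [ha, mul_assoc]
      rcases Nat.even_or_odd' a with ⟨b, rfl | rfl⟩
      · exfalso
        refine D.z_ne (congrArg Subtype.val (show zS = 1 from ?_))
        rw [hi, hi', (h1 _).2 ⟨b, by ring⟩]
      · rw [hi', show N * (2 * b + 1) = 2 * N * b + N by ring, pow_add, (h1 _).2 ⟨b, rfl⟩, one_mul]
    · exfalso
      have h := hzc x
      rw [hi, ← mul_assoc, ← pow_succ', mul_assoc, pow_succ, mul_assoc] at h
      have h2 := mul_left_cancel h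
      have h3 : y * x * y⁻¹ = x := by rw [← h2, mul_inv_cancel_right]
      rw [hrel] at h3
      conv_rhs at h3 => rw [← pow_one x]
      rw [pow_eq_pow_iff_modEq, hx] at h3
      have := (Nat.modEq_iff_dvd' (show 1 ≤ N - 1 by omega)).1 h3.symm
      have := Nat.le_of_dvd (by omega) this
      omega
  -- the element of order four is a rotation
  have heN : ∃ i, eS = x ^ i ∧ 2 ∣ i := by
    have he2 : eS * eS = zS := Subtype.ext D.e_sq
    obtain ⟨i, hi | hi⟩ := hall eS
    · refine ⟨i, hi, ?_⟩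
      rw [hi, hzN, ← pow_add, pow_eq_pow_iff_modEq, hx] at he2
      have : 4 ∣ 2 * N := ⟨2 * N', by omega⟩
      have := he2.of_dvd this
      unfold Nat.ModEq at this
      omega
    · exfalso
      have hodd : ¬ 2 ∣ i := by
        rintro ⟨a, rfl⟩
        rw [hi, hsq, (h1 _).2 ⟨a, by ring⟩] at he2
        exact D.z_ne (congrArg Subtype.val he2).symm
      obtain ⟨j, hj | hj⟩ := hall tS
      · have h : tS * x = x * tS := by rw [hj]; exact (Commute.pow_self x j).eq
        have h4 := D.cent_t S.2 hPS x.2 (congrArg Subtype.val h).symm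
        have hxx : x ^ 2 = 1 := Subtype.ext (by
          rw [pow_two, Subgroup.coe_mul, Subgroup.coe_one]
          rcases h4 with e0 | e0 | e0 | e0 <;> rw [e0]
          exacts [one_mul 1, D.z_sq, D.t_sq, by
            rw [show D.z * D.t * (D.z * D.t) = D.z * (D.t * D.z) * D.t by group, D.t_z, mul_assoc, mul_assoc,
              D.t_sq, mul_one, D.z_sq]])
        have := Nat.le_of_dvd two_pos ((h1 _).1 hxx)
        omega
      · have ht2 : tS * tS = 1 := Subtype.ext D.t_sq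
        have hjev : 2 ∣ j := by
          rw [hj, hsq, h1] at ht2
          obtain ⟨a, ha⟩ := ht2
          exact ⟨a, Nat.eq_of_mul_eq_mul_left (show 0 < N by omega) (by rw [ha]; ring)⟩
        -- `t e` is an involution but lies among the rotations of large order
        have hte : tS * eS * (tS * eS) = 1 := by
          refine Subtype.ext ?_
          show D.t * D.e * (D.t * D.e) = 1
          rw [show D.t * D.e * (D.t * D.e) = D.t * D.e * D.t⁻¹ * (D.t * D.t) * D.e by group, D.e_inv, D.t_sq,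
            mul_one, inv_mul_cancel]
        rw [hj, hi, show x ^ j * y * (x ^ i * y) = x ^ j * (y * x ^ i * y⁻¹) * (y * y) by group, hconj, hy2,
          mul_one, ← pow_add, ← pow_add, h1] at hte
        obtain ⟨a, ha⟩ := hte
        have hsum : j + (N - 1) * i = N * a := Nat.eq_of_mul_eq_mul_left two_pos (by rw [two_mul, ha, mul_assoc])
        have h3 : ¬ 2 ∣ (N - 1) * i := fun h => ((Nat.Prime.dvd_mul Nat.prime_two).1 h).elim (by omega) hodd
        have h5 : 2 ∣ N * a := dvd_mul_of_dvd_left (by omega) a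
        omega
  obtain ⟨i, hei, i', rfl⟩ := heN
  refine ⟨{ D with
    simple := hsimple
    S := S
    hPS := hPS
    h16 := h16
    hQD := hQD
    w := (x * y : (S : Subgroup G))
    hwS := (x * y).2
    hww := by
      have h := hsq 1
      rw [pow_one, mul_one, ← hzN] at h
      exact congrArg Subtype.val h
    hwe := by
      have h : x * y * eS * (x * y)⁻¹ = eS⁻¹ := by
        rw [hei, show x * y * x ^ (2 * i') * (x * y)⁻¹ = x * (y * x ^ (2 * i') * y⁻¹) * x⁻¹ by group, hconj,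
          (Commute.self_pow x _).eq, mul_inv_cancel_right, eq_inv_iff_mul_eq_one, ← pow_add, h1]
        obtain ⟨M, hM⟩ : ∃ M, N = M + 1 := ⟨N - 1, by omega⟩
        refine ⟨i', ?_⟩
        rw [hM, Nat.add_sub_cancel]
        ring
      exact congrArg Subtype.val h }, rfl⟩

namespace SdSit

variable (D : SdSit G)

/-- The quaternion subgroup as an image. -/
def qh : QuaternionGroup 2 →* G :=
  quatHom D.e D.w D.toSym4.e_fourth (D.hww.trans D.e_sq.symm) D.hwe

/-- The quaternion subgroup. -/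
def Q : Subgroup G := D.qh.range

theorem qh_a : D.qh (QuaternionGroup.a 1) = D.e := pow_one D.e

theorem qh_xa : D.qh (QuaternionGroup.xa 0) = D.w := by
  show D.w * D.e ^ (0 : ZMod (2 * 2)).val = D.w
  rw [ZMod.val_zero, pow_zero, mul_one]

theorem qh_z : D.qh (QuaternionGroup.a 2) = D.z := by
  show D.e ^ (2 : ZMod (2 * 2)).val = D.z
  rw [show (2 : ZMod (2 * 2)).val = 2 from rfl, pow_two, D.e_sq]

theorem qh_inj : Function.Injective D.qh := by
  rw [injective_iff_map_eq_one]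
  intro x hx
  by_contra hx1
  have h2 : x = QuaternionGroup.a 2 ∨ x * x = QuaternionGroup.a 2 :=
    (by decide : ∀ x : QuaternionGroup 2, x ≠ 1 → x = QuaternionGroup.a 2 ∨ x * x = QuaternionGroup.a 2) x hx1
  rcases h2 with rfl | h2
  · exact D.z_ne (D.qh_z.symm.trans hx)
  · refine D.z_ne ?_
    rw [← D.qh_z, ← h2, map_mul, hx, one_mul]

theorem e_mem_Q : D.e ∈ D.Q := ⟨_, D.qh_a⟩

theorem w_mem_Q : D.w ∈ D.Q := ⟨_, D.qh_xa⟩

theorem z_mem_Q : D.z ∈ D.Q := ⟨_, D.qh_z⟩

theorem Q_le_S : D.Q ≤ (D.S : Subgroup G) := by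
  rintro _ ⟨x | x, rfl⟩
  · exact pow_mem (D.hPS D.e_mem_P) _
  · exact mul_mem D.hwS (pow_mem (D.hPS D.e_mem_P) _)

/-- An element commuting with the generators centralises the quaternion subgroup. -/
theorem cent_Q {g : G} (he : g * D.e = D.e * g) (hw : g * D.w = D.w * g) : g ∈ centralizer (D.Q : Set G) := by
  refine mem_centralizer_iff.2 ?_
  rintro _ ⟨x | x, rfl⟩
  · exact ((Commute.pow_right (he : Commute g D.e) x.val).eq).symm
  · exact ((Commute.mul_right (hw : Commute g D.w) (Commute.pow_right (he : Commute g D.e) x.val)).eq).symm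

/-- An element fixing two classes modulo the centre acts as an element of the quaternion subgroup. -/
theorem inner_of_fix {g : G} (he : g * D.e * g⁻¹ = D.e ∨ g * D.e * g⁻¹ = D.e⁻¹)
    (hw : g * D.w * g⁻¹ = D.w ∨ g * D.w * g⁻¹ = D.w⁻¹) : g ∈ D.Q ⊔ centralizer (D.Q : Set G) := by
  have hwz : D.w * D.z = D.z * D.w := by rw [← D.hww, mul_assoc]
  have hwie : D.w⁻¹ * D.e * D.w⁻¹⁻¹ = D.e⁻¹ := by
    have h : D.w * D.e⁻¹ * D.w⁻¹ = D.e := by rw [← conj_inv, D.hwe, inv_inv]
    conv_lhs => rw [← h]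
    group
  have hew : D.e * D.w * D.e⁻¹ = D.w⁻¹ := by
    have h3 : D.e * D.w = D.w * D.e⁻¹ := by
      rw [← hwie]; group
    rw [h3, mul_assoc, ← mul_inv_rev, D.e_sq, (inv_eq_of_mul_eq_one_right D.z_sq : D.z⁻¹ = D.z), eq_inv_iff_mul_eq_one, mul_assoc, ← hwz,
      ← mul_assoc, D.hww, D.z_sq]
  have hewi : D.e⁻¹ * D.w * D.e⁻¹⁻¹ = D.w⁻¹ := by
    have h : D.e * D.w⁻¹ * D.e⁻¹ = D.w := by rw [← conj_inv, hew, inv_inv]
    conv_lhs => rw [← h]
    group
  obtain ⟨q, hq, hqe, hqw⟩ : ∃ q ∈ D.Q, q⁻¹ * (g * D.e * g⁻¹) * q = D.e ∧ q⁻¹ * (g * D.w * g⁻¹) * q = D.w := by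
    rcases he with he | he <;> rcases hw with hw | hw <;> rw [he, hw]
    · exact ⟨1, one_mem _, by group, by group⟩
    · refine ⟨D.e, D.e_mem_Q, by group, ?_⟩
      rw [← hew]; group
    · refine ⟨D.w, D.w_mem_Q, ?_, by group⟩
      rw [← D.hwe]; group
    · refine ⟨D.e * D.w, mul_mem D.e_mem_Q D.w_mem_Q, ?_, ?_⟩
      · calc (D.e * D.w)⁻¹ * D.e⁻¹ * (D.e * D.w) = D.w⁻¹ * D.e⁻¹ * D.w := by group
          _ = D.e := by rw [← D.hwe]; group
      · calc (D.e * D.w)⁻¹ * D.w⁻¹ * (D.e * D.w) = D.w⁻¹ * (D.e⁻¹ * D.w⁻¹ * D.e) * D.w := by group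
          _ = D.w⁻¹ * D.w * D.w := by rw [show D.e⁻¹ * D.w⁻¹ * D.e = D.w by rw [← hew]; group]
          _ = D.w := by group
  rw [show g = q * (q⁻¹ * g) by group]
  refine mul_mem_sup hq (D.cent_Q ?_ ?_)
  · calc q⁻¹ * g * D.e = q⁻¹ * (g * D.e * g⁻¹) * q * (q⁻¹ * g) := by group
      _ = _ := by rw [hqe]
  · calc q⁻¹ * g * D.w = q⁻¹ * (g * D.w * g⁻¹) * q * (q⁻¹ * g) := by group
      _ = _ := by rw [hqw]

theorem klein_V : IsKleinFour D.V := by
  refine ⟨D.card_V, ?_⟩
  have hne : (⟨D.z, D.mem_V.2 (Or.inr (Or.inl rfl))⟩ : D.V) ≠ 1 := fun h => D.z_ne (congrArg Subtype.val h)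
  haveI : Nontrivial D.V := ⟨⟨_, _, hne⟩⟩
  have h2 : Monoid.exponent D.V ∣ 2 := Monoid.exponent_dvd_of_forall_pow_eq_one fun g => by
    obtain ⟨x, k, hk, rfl⟩ := g
    refine Subtype.ext ?_
    rw [Subgroup.coe_pow, pow_two, Subgroup.coe_one]
    show D.ι k * D.ι k = 1
    rw [← map_mul, (by decide +kernel : ∀ a : Equiv.Perm (Fin 4), InV a → a * a = 1) k hk, map_one]
  rcases (Nat.dvd_prime Nat.prime_two).1 h2 with h | h
  · exact absurd (Monoid.exp_eq_one_iff.1 h) (not_subsingleton D.V)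
  · exact h

/-- An element of three-power order normalising the quaternion subgroup and moving the cyclic subgroup. -/
theorem exists_theta : ∃ θ : G, θ * D.z = D.z * θ ∧ θ ∈ normalizer (D.Q : Set G) ∧
    (∃ k, orderOf θ = 3 ^ k) ∧ θ * D.e * θ⁻¹ ≠ D.e ∧ θ * D.e * θ⁻¹ ≠ D.e⁻¹ := by
  classical
  haveI := D.simple
  have hT := D.klein_V
  have hTS : D.V ≤ (D.S : Subgroup G) := by
    intro v hv
    obtain ⟨k, hk, rfl⟩ := hv
    exact D.hPS (D.four_mem_P hk)
  have eQ : D.Q ≃* QuaternionGroup 2 := (MonoidHom.ofInjective D.qh_inj).symm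
  obtain ⟨-, h2⟩ := Cfsg.Agent.S1203.result D.S D.hQD D.V hT hTS D.Q D.Q_le_S eQ
  have h6 : (centralizer (D.V : Set G)).relIndex (normalizer (D.V : Set G)) = 6 := by
    have hC : centralizer (D.V : Set G) = D.V := by
      refine le_antisymm (fun x hx => D.mem_V.2 (D.cent_four
        (mem_centralizer_iff.1 hx D.z (D.mem_V.2 (Or.inr (Or.inl rfl)))).symm
        (mem_centralizer_iff.1 hx D.t (D.mem_V.2 (Or.inr (Or.inr (Or.inl rfl))))).symm)) ?_
      haveI := D.V_comm
      exact fun x hx => mem_centralizer_iff.2 fun y hy =>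
        congrArg Subtype.val (mul_comm' (⟨y, hy⟩ : D.V) ⟨x, hx⟩)
    have hN : normalizer (D.V : Set G) = D.ι.range := by
      refine le_antisymm (fun x hx => D.mem_range_of
        (D.mem_V.1 ((mem_normalizer_iff.1 hx _).1 (D.mem_V.2 (Or.inr (Or.inl rfl)))))
        (D.mem_V.1 ((mem_normalizer_iff.1 hx _).1 (D.mem_V.2 (Or.inr (Or.inr (Or.inl rfl))))))) ?_
      rintro _ ⟨a, rfl⟩
      refine mem_normalizer_iff_map_conj_eq.2 (Subgroup.eq_of_le_of_card_ge ?_
        (Nat.card_congr (D.V.equivMapOfInjective _ (MulAut.conj (D.ι a)).injective).toEquiv).le)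
      rintro _ ⟨_, ⟨k, hk, rfl⟩, rfl⟩
      exact ⟨a * k * a⁻¹, (by decide +kernel : ∀ a k : Equiv.Perm (Fin 4), InV k → InV (a * k * a⁻¹)) a k hk, by
        rw [map_mul, map_mul, map_inv]; rfl⟩
    rw [hC, hN]
    have h := Subgroup.relIndex_mul_relIndex ⊥ D.V D.ι.range bot_le (by rintro _ ⟨k, -, rfl⟩; exact ⟨k, rfl⟩)
    rw [relIndex_bot_left, relIndex_bot_left, D.card_V, D.card_range] at h
    omega
  rcases h2 with h2 | h2
  · exfalso
    obtain ⟨⟨K, hK, hK2, -⟩, -⟩ := Cfsg.Agent.S1206.result D.S D.hQD D.V hT hTS D.Q D.Q_le_S eQ h6 h2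
    rcases D.simple.eq_bot_or_eq_top_of_normal K hK with e0 | e0
    · rw [e0, index_bot] at hK2
      have := card_subgroup_dvd_card (D.S : Subgroup G)
      have := D.h16
      have := Nat.le_of_dvd Nat.card_pos (card_subgroup_dvd_card (D.S : Subgroup G))
      omega
    · rw [e0, index_top] at hK2
      omega
  set NQ := normalizer (D.Q : Set G) with hNQ
  set M := D.Q ⊔ centralizer (D.Q : Set G) with hM
  have hMN : M ≤ NQ := sup_le le_normalizer (centralizer_le_normalizer _)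
  haveI : (M.subgroupOf NQ).Normal := by
    refine (normal_subgroupOf_iff_le_normalizer hMN).2 fun g hg => ?_
    refine mem_normalizer_iff_map_conj_eq.2 (Subgroup.eq_of_le_of_card_ge ?_
      (Nat.card_congr (M.equivMapOfInjective _ (MulAut.conj g).injective).toEquiv).le)
    rw [hM, Subgroup.map_sup]
    refine sup_le_sup (mem_normalizer_iff_map_conj_eq.1 hg).le ?_
    rintro _ ⟨c, hc, rfl⟩
    exact (mem_normalizer_iff.1 (normalizer_le_normalizer_centralizer' D.Q hg) c).1 hc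
  have h6' : Nat.card (NQ ⧸ M.subgroupOf NQ) = 6 := h2
  haveI : Fact (Nat.Prime 3) := ⟨Nat.prime_three⟩
  obtain ⟨q, hq⟩ := exists_prime_orderOf_dvd_card' (G := NQ ⧸ M.subgroupOf NQ) 3 (by rw [h6']; norm_num)
  obtain ⟨n, rfl⟩ := QuotientGroup.mk'_surjective _ q
  obtain ⟨k, m, hm, hnm⟩ := Nat.exists_eq_pow_mul_and_not_dvd (orderOf_pos n).ne' 3 (by norm_num)
  set θ := n ^ m with hθ
  have hθk : orderOf θ = 3 ^ k := by
    rw [hθ, orderOf_pow' _ (show m ≠ 0 from fun h => hm (h ▸ dvd_zero 3)), hnm,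
      Nat.gcd_eq_right (dvd_mul_left m (3 ^ k)), Nat.mul_div_cancel _ (Nat.pos_of_ne_zero (show m ≠ 0 from fun h => hm (h ▸ dvd_zero 3)))]
  have hθM : (θ : G) ∉ M := by
    intro h
    have h1 : QuotientGroup.mk' (M.subgroupOf NQ) θ = 1 := (QuotientGroup.eq_one_iff θ).2 h
    rw [hθ, map_pow] at h1
    exact hm (hq ▸ orderOf_dvd_of_pow_eq_one h1)
  have hθN : (θ : G) ∈ NQ := θ.2
  have hθ3 : (θ : G) ^ 3 ∈ M := by
    have h1 : QuotientGroup.mk' (M.subgroupOf NQ) (θ ^ 3) = 1 := by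
      rw [map_pow, hθ, map_pow, ← pow_mul, mul_comm, pow_mul, ← hq, pow_orderOf_eq_one, one_pow]
    exact (QuotientGroup.eq_one_iff (θ ^ 3)).1 h1
  -- it fixes the central involution
  have hinvol : ∀ g ∈ D.Q, g * g = 1 → g = 1 ∨ g = D.z := by
    rintro _ ⟨x, rfl⟩ hg
    rw [← map_mul, ← map_one D.qh] at hg
    rcases (by decide : ∀ x : QuaternionGroup 2, x * x = 1 → x = 1 ∨ x = QuaternionGroup.a 2) x
      (D.qh_inj hg) with rfl | rfl
    · exact Or.inl (map_one _)
    · exact Or.inr D.qh_z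
  have hθz : (θ : G) * D.z = D.z * (θ : G) := by
    refine mul_inv_eq_iff_eq_mul.1 ?_
    rcases hinvol _ ((mem_normalizer_iff.1 hθN D.z).1 D.z_mem_Q) (by
      rw [show (θ : G) * D.z * (θ : G)⁻¹ * ((θ : G) * D.z * (θ : G)⁻¹) = (θ : G) * (D.z * D.z) * (θ : G)⁻¹ by group,
        D.z_sq, mul_one, mul_inv_cancel]) with h | h
    · exact absurd (conj_eq_one_iff.1 h) D.z_ne
    · exact h
  have hfour : ∀ g ∈ D.Q, g * g = D.z → g = D.e ∨ g = D.e⁻¹ ∨ g = D.w ∨ g = D.w⁻¹ ∨ g = D.e * D.w ∨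
      g = (D.e * D.w)⁻¹ := by
    rintro _ ⟨x, rfl⟩ hg
    rw [← map_mul, ← D.qh_z] at hg
    have := (by decide : ∀ x : QuaternionGroup 2, x * x = QuaternionGroup.a 2 → x = .a 1 ∨ x = (.a 1)⁻¹ ∨
      x = .xa 0 ∨ x = (.xa 0)⁻¹ ∨ x = .a 1 * .xa 0 ∨ x = (.a 1 * .xa 0)⁻¹) x (D.qh_inj hg)
    rcases this with rfl | rfl | rfl | rfl | rfl | rfl <;> simp only [map_inv, map_mul, D.qh_a, D.qh_xa] <;> tauto
  refine ⟨θ, hθz, hθN, ⟨k, by rw [Subgroup.orderOf_coe]; exact hθk⟩, ?_⟩
  suffices h : ¬ ((θ : G) * D.e * (θ : G)⁻¹ = D.e ∨ (θ : G) * D.e * (θ : G)⁻¹ = D.e⁻¹) from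
    ⟨fun e0 => h (Or.inl e0), fun e0 => h (Or.inr e0)⟩
  intro he
  refine hθM ?_
  -- two of the three classes are fixed, by the third power
  have hsq : ∀ g ∈ D.Q, g * g = D.z →
      (θ : G) * g * (θ : G)⁻¹ ∈ D.Q ∧ (θ : G) * g * (θ : G)⁻¹ * ((θ : G) * g * (θ : G)⁻¹) = D.z := fun g hg h =>
    ⟨(mem_normalizer_iff.1 hθN g).1 hg, by
      rw [show (θ : G) * g * (θ : G)⁻¹ * ((θ : G) * g * (θ : G)⁻¹) = (θ : G) * (g * g) * (θ : G)⁻¹ by group, h,
        hθz, mul_inv_cancel_right]⟩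
  have hcinv : ∀ g v : G, (θ : G) * g * (θ : G)⁻¹ = v → (θ : G) * g⁻¹ * (θ : G)⁻¹ = v⁻¹ := fun g v h => by
    rw [← h]; group
  obtain ⟨hw1, hw2⟩ := hsq _ D.w_mem_Q D.hww
  have hwne : ∀ v, (v = D.e ∨ v = D.e⁻¹) → (θ : G) * D.w * (θ : G)⁻¹ ≠ v := by
    intro v hv h
    have he' : D.w = D.e ∨ D.w = D.e⁻¹ := by
      have key : ∀ a, (θ : G) * D.w * (θ : G)⁻¹ = (θ : G) * a * (θ : G)⁻¹ → D.w = a :=
        fun a ha => mul_left_cancel (mul_right_cancel ha)
      rcases he with h1 | h1 <;> rcases hv with rfl | rfl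
      · exact Or.inl (key _ (h.trans h1.symm))
      · exact Or.inr (key _ (h.trans (hcinv _ _ h1).symm))
      · exact Or.inr (key _ (h.trans (by rw [hcinv _ _ h1, inv_inv])))
      · exact Or.inl (key _ (h.trans h1.symm))
    rw [← D.qh_a, ← D.qh_xa, ← map_inv] at he'
    rcases he' with h | h <;> exact absurd (D.qh_inj h) (by decide)
  rcases hfour _ hw1 hw2 with h | h | h | h | h | h
  · exact absurd h (hwne _ (Or.inl rfl))
  · exact absurd h (hwne _ (Or.inr rfl))
  · exact D.inner_of_fix he (Or.inl h)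
  · exact D.inner_of_fix he (Or.inr h)
  all_goals
    exfalso
    refine hθM ?_
    -- `θ` swaps the other two classes, so its cube does
    have hcl : ∀ g : G, (g = D.e ∨ g = D.e⁻¹) → (θ : G) * g * (θ : G)⁻¹ = D.e ∨ (θ : G) * g * (θ : G)⁻¹ = D.e⁻¹ := by
      rintro g (rfl | rfl)
      · exact he
      · rcases he with h1 | h1
        · exact Or.inr (hcinv _ _ h1)
        · exact Or.inl (by rw [hcinv _ _ h1, inv_inv])
    have hθ2 : (θ : G) ^ 2 ∈ M := by
      refine D.inner_of_fix ?_ ?_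
      · rw [pow_two, show (θ : G) * (θ : G) * D.e * ((θ : G) * (θ : G))⁻¹ =
          (θ : G) * ((θ : G) * D.e * (θ : G)⁻¹) * (θ : G)⁻¹ by group]
        exact hcl _ he
      · rw [pow_two, show (θ : G) * (θ : G) * D.w * ((θ : G) * (θ : G))⁻¹ =
          (θ : G) * ((θ : G) * D.w * (θ : G)⁻¹) * (θ : G)⁻¹ by group, h]
        obtain ⟨h3, h4⟩ := hsq _ (h ▸ hw1) (h ▸ hw2)
        rcases hfour _ h3 h4 with e1 | e1 | e1 | e1 | e1 | e1
        · exfalso
          rcases hcl D.e (Or.inl rfl) with e2 | e2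
          · have := mul_left_cancel (mul_right_cancel (e1.trans e2.symm))
            exact absurd (h.trans this) (hwne _ (Or.inl rfl))
          · have e3 := hcinv _ _ e2
            rw [inv_inv] at e3
            have := mul_left_cancel (mul_right_cancel (e1.trans e3.symm))
            exact absurd (h.trans this) (hwne _ (Or.inr rfl))
        · exfalso
          rcases hcl D.e (Or.inl rfl) with e2 | e2
          · have := mul_left_cancel (mul_right_cancel (e1.trans (hcinv _ _ e2).symm))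
            exact absurd (h.trans this) (hwne _ (Or.inr rfl))
          · have := mul_left_cancel (mul_right_cancel (e1.trans e2.symm))
            exact absurd (h.trans this) (hwne _ (Or.inl rfl))
        · exact Or.inl e1
        · exact Or.inr e1
        all_goals
          exfalso
          have hkey : (θ : G) * D.w * (θ : G)⁻¹ = D.w ∨ (θ : G) * D.w * (θ : G)⁻¹ = D.w⁻¹ := by
            first
              | exact Or.inl (h.trans (mul_left_cancel (mul_right_cancel (e1.trans h.symm))))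
              | exact Or.inr (h.trans (mul_left_cancel (mul_right_cancel (e1.trans (hcinv _ _ h).symm))))
              | exact Or.inr (by
                  have e3 := hcinv _ _ h
                  rw [inv_inv] at e3
                  exact h.trans (mul_left_cancel (mul_right_cancel (e1.trans e3.symm))))
          exact hθM (D.inner_of_fix he hkey)
    have := mul_mem hθ3 (inv_mem hθ2)
    rwa [pow_succ' _ 2, mul_inv_cancel_right] at this

end SdSit

end Cfsg.Lib.SubdegThree
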