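import Cfsg.Agent.SubdegThree.SdModel
import Cfsg.Agent.Chars.Count

/-!
The centraliser as an extension of `GL(2,3)`: lifts, the section, pairs of involutions.
-/

set_option autoImplicit false
set_option linter.unusedSectionVars false
set_option linter.style.haveILetI false

namespace Cfsg.Lib.SubdegThree

open Subgroup Cfsg.Lib.GLTwoThree Cfsg.Lib.Order9

universe u

variable {G : Type u} [Group G] [Finite G]

namespace CoreSetup

variable (D : CoreSetup G)
include D

/-- The centraliser. -/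
abbrev X : Subgroup G := centralizer ({D.z} : Set G)

/-- The involution inside its centraliser. -/
def zX : D.X := ⟨D.z, mem_centralizer_singleton_iff.2 rfl⟩

theorem π_zX : D.π D.zX = zk := D.π_z

theorem zX_comm (x : D.X) : x * D.zX = D.zX * x := Subtype.ext (mem_centralizer_singleton_iff.1 x.2)

theorem zX_sq : D.zX * D.zX = 1 := Subtype.ext D.z_sq

theorem zX_ne : D.zX ≠ 1 := fun h => D.z_ne (congrArg Subtype.val h)

theorem mem_ker {y : D.X} : y ∈ D.π.ker ↔ D.π y = 1 := MonoidHom.mem_ker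

theorem ker_comm {y y' : D.X} (h : D.π y = 1) (h' : D.π y' = 1) : y * y' = y' * y :=
  D.comm y y' h' (by rw [h]; decide +kernel)

theorem ker_odd {y : D.X} (h : D.π y = 1) : Odd (orderOf y) := by
  rw [← Subgroup.orderOf_mk y (D.mem_ker.2 h)]
  exact D.odd.of_dvd_nat (orderOf_dvd_natCard _)

theorem ker_two {y : D.X} (h : D.π y = 1) (h2 : y * y = 1) : y = 1 := by
  have hd : orderOf y ∣ 2 := orderOf_dvd_of_pow_eq_one (by rw [pow_two, h2])
  exact orderOf_eq_one_iff.1 (Nat.eq_one_of_dvd_coprimes (Nat.coprime_two_right.2 (D.ker_odd h)) dvd_rfl hd)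

theorem ker_pow {y : D.X} (h : D.π y = 1) : y ^ Nat.card D.π.ker = 1 := by
  have := congrArg Subtype.val (pow_card_eq_one' (x := (⟨y, D.mem_ker.2 h⟩ : D.π.ker)))
  simpa using this

/-- A square root in the kernel. -/
theorem ker_sqrt {y : D.X} (h : D.π y = 1) : ∃ v, D.π v = 1 ∧ v * v = y := by
  obtain ⟨m, hm⟩ := D.ker_odd h
  refine ⟨y ^ (m + 1), by rw [map_pow, h, one_pow], ?_⟩
  rw [← pow_add, show m + 1 + (m + 1) = orderOf y + 1 by omega, pow_succ, pow_orderOf_eq_one, one_mul]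

/-- Every lift of a reflection is an involution. -/
theorem lift_refl {x : D.X} (h : Invol (D.π x)) (hz : D.π x ≠ zk) : x * x = 1 := by
  have hdet := (invol_cases _ h).resolve_left hz
  have hk : D.π (x * x) = 1 := by rw [map_mul, h.1]
  have hi := D.inv x (x * x) hk hdet
  rw [← mul_assoc, mul_inv_cancel_right] at hi
  exact D.ker_two hk (by nth_rewrite 2 [hi]; exact mul_inv_cancel _)

/-- The only involution above the central one. -/
theorem lift_zk {x : D.X} (h : D.π x = zk) (h2 : x * x = 1) : x = D.zX := by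
  have hk : D.π (x * D.zX) = 1 := by rw [map_mul, h, D.π_zX]; decide +kernel
  have := D.ker_two hk (by
    rw [show x * D.zX * (x * D.zX) = x * (D.zX * x) * D.zX by group, ← D.zX_comm x, ← mul_assoc, h2, one_mul,
      D.zX_sq])
  rw [mul_eq_one_iff_eq_inv, inv_eq_of_mul_eq_one_right D.zX_sq] at this
  exact this

theorem isConj_refl {x : D.X} (h : Invol (D.π x)) (hz : D.π x ≠ zk) : IsConj D.z (x : G) :=
  D.one x (D.lift_refl h hz) h.2

theorem invol_of_isConj {x : G} (h : IsConj D.z x) : x * x = 1 ∧ x ≠ 1 := by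
  obtain ⟨g, rfl⟩ := isConj_iff.1 h
  exact ⟨by rw [show g * D.z * g⁻¹ * (g * D.z * g⁻¹) = g * (D.z * D.z) * g⁻¹ by group, D.z_sq, mul_one,
    mul_inv_cancel], fun e => D.z_ne (conj_eq_one_iff.1 e)⟩

theorem card_X : Nat.card D.X = 48 * Nat.card D.π.ker := by
  rw [← D.π.ker.card_mul_index, Subgroup.index_ker, MonoidHom.range_eq_top.2 D.surj, card_top,
    Nat.card_eq_fintype_card (α := K48), card48, mul_comm]

/-- A fibre has as many elements as the kernel. -/
noncomputable def fibreEquiv (k : K48) : D.π.ker ≃ {x : D.X // D.π x = k} where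
  toFun y := ⟨(D.surj k).choose * (y : D.X), by rw [map_mul, (D.surj k).choose_spec, D.mem_ker.1 y.2, mul_one]⟩
  invFun x := ⟨(D.surj k).choose⁻¹ * (x : D.X), D.mem_ker.2 (by
    rw [map_mul, map_inv, (D.surj k).choose_spec, x.2, inv_mul_cancel])⟩
  left_inv y := Subtype.ext (inv_mul_cancel_left _ _)
  right_inv x := Subtype.ext (mul_inv_cancel_left _ _)

theorem card_lift (P : K48 → Prop) [DecidablePred P] :
    Nat.card {x : D.X // P (D.π x)} = Nat.card D.π.ker * (Finset.univ.filter P).card := by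
  have e : {x : D.X // P (D.π x)} ≃ {k : K48 // P k} × D.π.ker :=
    (Equiv.sigmaSubtypeFiberEquivSubtype D.π (p := fun x => P (D.π x)) (q := P) fun _ => Iff.rfl).symm.trans
      ((Equiv.sigmaCongrRight fun k : {k : K48 // P k} => (D.fibreEquiv k.1).symm).trans (Equiv.sigmaEquivProd _ _))
  rw [Nat.card_congr e, Nat.card_prod, Nat.card_eq_fintype_card (α := {k : K48 // P k}), Fintype.card_subtype, mul_comm]

/-- A lift of two-power order. -/
theorem exists_lift {k : K48} (hk : k ^ 8 = 1) : ∃ x : D.X, D.π x = k ∧ ∃ j, orderOf (x : G) = 2 ^ j := by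
  obtain ⟨x, rfl⟩ := D.surj k
  set o := Nat.card D.π.ker with ho
  refine ⟨x ^ (o * o), ?_, ?_⟩
  · rw [map_pow, pow_eq_pow_mod _ hk]
    have h2 := Nat.odd_iff.1 D.odd
    rw [← ho] at h2
    have h8 : o * o % 8 = 1 := by
      rw [Nat.mul_mod]
      rcases (show o % 8 = 1 ∨ o % 8 = 3 ∨ o % 8 = 5 ∨ o % 8 = 7 by omega) with h | h | h | h <;> rw [h]
    rw [h8, pow_one]
  · have h1 : (x ^ 8) ^ o = 1 := D.ker_pow (by rw [map_pow, hk])
    have h2 : ((x ^ (o * o) : D.X) : G) ^ 2 ^ 3 = 1 := by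
      rw [← Subgroup.coe_pow, ← pow_mul, show o * o * 2 ^ 3 = 8 * o * o by ring, pow_mul, pow_mul, h1, one_pow]
      rfl
    obtain ⟨j, -, hj⟩ := (Nat.dvd_prime_pow Nat.prime_two).1 (orderOf_dvd_of_pow_eq_one h2)
    exact ⟨j, hj⟩

/-- The section is a trivial intersection set. -/
theorem ti {x x' : D.X} {g : G} (hx : InSec (D.π x)) (hx' : InSec (D.π x'))
    (h : g * (x : G) * g⁻¹ = (x' : G)) : g ∈ D.X := by
  obtain ⟨n, hn⟩ := sec_pow _ hx
  set o := Nat.card D.π.ker with ho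
  have h1 : D.π (x ^ (n : ℕ) * D.zX) = 1 := by rw [map_mul, map_pow, hn, D.π_zX]; decide +kernel
  have h2 := D.ker_pow h1
  rw [Commute.mul_pow (D.zX_comm _ : Commute (x ^ (n : ℕ)) D.zX), ← pow_mul] at h2
  have hzo : D.zX ^ o = D.zX := by
    obtain ⟨m, hm⟩ := D.odd
    rw [← ho] at hm
    rw [hm, pow_succ, pow_mul, pow_two, D.zX_sq, one_pow, one_mul]
  rw [← ho, hzo] at h2
  have hxz : x ^ ((n : ℕ) * o) = D.zX :=
    (eq_inv_of_mul_eq_one_left h2).trans (inv_eq_of_mul_eq_one_right D.zX_sq)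
  set v := x' ^ ((n : ℕ) * o) with hv
  have e : g * D.z * g⁻¹ = (v : G) := by
    rw [hv, Subgroup.coe_pow, ← h, conj_pow, ← Subgroup.coe_pow, hxz]; rfl
  obtain ⟨hv2, hv1⟩ := D.invol_of_isConj (isConj_iff.2 ⟨g, e⟩)
  have hv2' : v * v = 1 := Subtype.ext hv2
  have hπ1 : D.π v ≠ 1 := fun e1 => hv1 (by rw [D.ker_two e1 hv2', OneMemClass.coe_one])
  have hπz : D.π v = zk := by
    rw [hv, map_pow] at hπ1 ⊢
    exact zk_pow_nat hx' hπ1 (by rw [← map_pow, ← map_mul, ← hv, hv2', map_one])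
  rw [D.lift_zk hπz hv2'] at e
  exact mem_centralizer_singleton_iff.2 (mul_inv_eq_iff_eq_mul.1 e)

/-- The pairs of conjugates of the involution with a product in the section. -/
theorem pairs {c : D.X} (hc : InSec (D.π c)) :
    Nat.card {p : G × G // IsConj D.z p.1 ∧ IsConj D.z p.2 ∧ p.1 * p.2 = (c : G)} =
      Nat.card D.π.ker * npairs (D.π c) := by
  rw [npairs, ← D.card_lift (fun k => Invol k ∧ Invol (k⁻¹ * D.π c))]
  refine (Nat.card_congr (Equiv.ofBijective
    (fun j : {x : D.X // Invol (D.π x) ∧ Invol ((D.π x)⁻¹ * D.π c)} =>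
      (⟨((j.1 : G), (j.1 : G)⁻¹ * c), ?_⟩ :
        {p : G × G // IsConj D.z p.1 ∧ IsConj D.z p.2 ∧ p.1 * p.2 = (c : G)})) ⟨?_, ?_⟩)).symm
  · obtain ⟨h1, h2⟩ := j.2
    obtain ⟨n1, n2⟩ := pair_refl _ _ hc h1 h2
    refine ⟨D.isConj_refl h1 n1, ?_, mul_inv_cancel_left _ _⟩
    have := D.isConj_refl (x := j.1⁻¹ * c) (by rwa [map_mul, map_inv]) (by rwa [map_mul, map_inv])
    simpa using this
  · intro v w h
    exact Subtype.ext (Subtype.ext (congrArg (fun p => p.1.1) h))
  · rintro ⟨⟨x, y⟩, h1, h2, h3⟩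
    dsimp only at h1 h2 h3
    obtain ⟨hx, hx1⟩ := D.invol_of_isConj h1
    obtain ⟨hy, hy1⟩ := D.invol_of_isConj h2
    have hconj : x * (c : G) * x⁻¹ = ((c⁻¹ : D.X) : G) := by
      rw [Subgroup.coe_inv, ← h3, mul_inv_rev]
      calc x * (x * y) * x⁻¹ = (x * x) * y * x⁻¹ := by group
        _ = y⁻¹ * (y * y) * x⁻¹ := by rw [hx]; group
        _ = y⁻¹ * x⁻¹ := by rw [hy]; group
    have hcinv : InSec (D.π c⁻¹) := by
      rw [map_inv]; exact (by decide +kernel : ∀ c, InSec c → InSec c⁻¹) _ hc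
    set j : D.X := ⟨x, D.ti hc hcinv hconj⟩
    obtain rfl : y = x⁻¹ * c := eq_inv_mul_iff_mul_eq.2 h3
    have hinvol : ∀ a : D.X, (a : G) * a = 1 → (a : G) ≠ 1 → Invol (D.π a) := fun a ha ha1 =>
      ⟨by rw [← map_mul, show a * a = 1 from Subtype.ext ha, map_one],
        fun e => ha1 (by rw [D.ker_two e (Subtype.ext ha), OneMemClass.coe_one])⟩
    refine ⟨⟨j, hinvol j hx hx1, ?_⟩, rfl⟩
    have := hinvol (j⁻¹ * c) hy hy1
    rwa [map_mul, map_inv] at this

end CoreSetup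

end Cfsg.Lib.SubdegThree
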