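import Cfsg.Agent.SubdegThree.SdBase
import Cfsg.Agent.S3277

/-!
The quaternion subgroup is normal in the centraliser of the central involution.
-/

set_option autoImplicit false
set_option linter.style.haveILetI false
set_option linter.unusedSectionVars false

namespace Cfsg.Lib.SubdegThree

open Subgroup

universe u

variable {G : Type u} [Group G] [Finite G]

namespace SdSit

variable (D : SdSit G)

/-- The centraliser. -/
abbrev X : Subgroup G := centralizer ({D.z} : Set G)

theorem mem_X {x : G} : x ∈ D.X ↔ x * D.z = D.z * x := mem_centralizer_singleton_iff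

theorem S_le_X : (D.S : Subgroup G) ≤ D.X := fun _ hx => D.mem_X.2 (D.z_central D.S.2 D.hPS hx)

theorem Q_le_X : D.Q ≤ D.X := D.Q_le_S.trans D.S_le_X

/-- An element fixing the four-group and the central involution lies in `P`. -/
theorem mem_P_of_fix {x : G} (hz : x ∈ D.X) (ht : x * D.t * x⁻¹ = D.t ∨ x * D.t * x⁻¹ = D.z * D.t) : x ∈ D.P := by
  have hz' := D.mem_X.1 hz
  have ht' : x * D.t * x⁻¹ = 1 ∨ x * D.t * x⁻¹ = D.z ∨ x * D.t * x⁻¹ = D.t ∨ x * D.t * x⁻¹ = D.z * D.t :=
    ht.elim (fun h => Or.inr (Or.inr (Or.inl h))) (fun h => Or.inr (Or.inr (Or.inr h)))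
  obtain ⟨k, rfl⟩ := D.mem_range_of (Or.inr (Or.inl (mul_inv_eq_iff_eq_mul.2 hz'))) ht'
  exact D.mem_P.2 (D.inj (by rw [map_mul, map_mul]; exact hz'))

theorem w_not_fix : ¬ (D.w * D.t * D.w⁻¹ = D.t ∨ D.w * D.t * D.w⁻¹ = D.z * D.t) := by
  intro h
  have hP := D.mem_P_of_fix (D.S_le_X D.hwS) h
  obtain ⟨k, hk⟩ := D.P_le hP
  have h1 : k * pa = pa * k := D.mem_P.1 (hk.symm ▸ hP)
  have h2 : k * k = pa := D.inj (by rw [map_mul, hk]; exact D.hww)
  have h3 : k * pe * k⁻¹ = pe⁻¹ := D.inj (by rw [map_mul, map_mul, map_inv, hk, map_inv]; exact D.hwe)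
  exact (by decide +kernel : ∀ k : Equiv.Perm (Fin 4), k * pa = pa * k → k * k = pa → k * pe * k⁻¹ = pe⁻¹ → False)
    k h1 h2 h3

theorem P_cases {x : G} (hx : x ∈ D.P) : x = 1 ∨ x = D.z ∨ x = D.t ∨ x = D.z * D.t ∨ x = D.e ∨ x = D.z * D.e ∨
    x = D.e * D.t ∨ x = D.z * (D.e * D.t) := by
  obtain ⟨k, rfl⟩ := D.P_le hx
  rcases (by decide +kernel : ∀ k : Equiv.Perm (Fin 4), k * pa = pa * k → k = 1 ∨ k = pa ∨ k = pb ∨ k = pa * pb ∨
    k = pe ∨ k = pa * pe ∨ k = pe * pb ∨ k = pa * (pe * pb)) k (D.mem_P.1 hx) with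
    rfl | rfl | rfl | rfl | rfl | rfl | rfl | rfl <;> simp only [map_one, map_mul] <;> tauto

theorem P_le_X : D.P ≤ D.X := D.hPS.trans D.S_le_X

set_option maxHeartbeats 1000000 in
/-- The quaternion subgroup is normal in the centraliser. -/
theorem Q_normal : D.X ≤ normalizer (D.Q : Set G) := by
  classical
  haveI : Fact (Nat.Prime 2) := ⟨Nat.prime_two⟩
  obtain ⟨θ, hθz, hθQ, ⟨k3, hθ3⟩, hθe, hθe'⟩ := D.exists_theta
  let zX : D.X := ⟨D.z, D.mem_X.2 rfl⟩
  let tX : D.X := ⟨D.t, D.P_le_X D.t_mem_P⟩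
  let eX : D.X := ⟨D.e, D.P_le_X D.e_mem_P⟩
  let wX : D.X := ⟨D.w, D.S_le_X D.hwS⟩
  let θX : D.X := ⟨θ, D.mem_X.2 hθz⟩
  set N0 := zpowers zX with hN0
  have hzc : ∀ a : D.X, a * zX = zX * a := fun a => Subtype.ext (D.mem_X.1 a.2)
  have hz2 : zX * zX = 1 := Subtype.ext D.z_sq
  have hzord : orderOf zX = 2 := orderOf_eq_prime (by rw [pow_two, hz2]) fun h => D.z_ne (congrArg Subtype.val h)
  haveI : N0.Normal := ⟨fun a ha g => by
    obtain ⟨i, rfl⟩ := mem_zpowers_iff.1 ha
    rw [(Commute.zpow_right (hzc g) i).eq, mul_inv_cancel_right]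
    exact ha⟩
  have hN0mem : ∀ a, a ∈ N0 → a = 1 ∨ a = zX := by
    intro a ha
    obtain ⟨i, rfl⟩ := mem_zpowers_iff.1 ha
    rw [← zpow_mod_orderOf, hzord]
    rcases Int.emod_two_eq_zero_or_one i with h | h <;> rw [show i % ((2 : ℕ) : ℤ) = i % 2 from rfl, h]
    · exact Or.inl (zpow_zero _)
    · exact Or.inr (zpow_one _)
  set mk := QuotientGroup.mk' N0 with hmk
  have hmk_eq : ∀ a b : D.X, mk a = mk b → (a : G) = b ∨ (a : G) = D.z * b := by
    intro a b h
    rcases hN0mem _ (QuotientGroup.eq.1 h.symm) with e | e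
    · exact Or.inl (congrArg Subtype.val (inv_mul_eq_one.1 e)).symm
    · refine Or.inr ?_
      rw [inv_mul_eq_iff_eq_mul, hzc] at e
      exact congrArg Subtype.val e
  have hmkz : ∀ a b : D.X, (a : G) = D.z * b → mk a = mk b := by
    intro a b h
    rw [show a = zX * b from Subtype.ext h, map_mul, show mk zX = 1 from (QuotientGroup.eq_one_iff _).2 (mem_zpowers _),
      one_mul]
  set P' := D.P.subgroupOf D.X with hP'
  set Pb := P'.map mk with hPb
  have hzP' : zX ∈ P' := mem_subgroupOf.2 D.z_mem_P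
  have htP' : tX ∈ P' := mem_subgroupOf.2 D.t_mem_P
  have heP' : eX ∈ P' := mem_subgroupOf.2 D.e_mem_P
  have hcentle : ∀ a : D.X, mk a * mk tX = mk tX * mk a → a ∈ P' := by
    intro a ha
    have h := hmk_eq (a * tX * a⁻¹) tX (by rw [map_mul, map_mul, map_inv, ha, mul_inv_cancel_right])
    exact mem_subgroupOf.2 (D.mem_P_of_fix a.2 h)
  have hPV : ∀ a ∈ P', mk a * mk tX = mk tX * mk a := by
    intro a ha
    have h : (a : G) * D.t * (a : G)⁻¹ = D.t ∨ (a : G) * D.t * (a : G)⁻¹ = D.z * D.t := by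
      obtain ⟨k, hk⟩ := D.P_le (mem_subgroupOf.1 ha)
      have hk' := D.mem_P.1 (hk.symm ▸ mem_subgroupOf.1 ha : D.ι k ∈ D.P)
      rw [← hk]
      rcases (by decide +kernel : ∀ k : Equiv.Perm (Fin 4), k * pa = pa * k →
        k * pb * k⁻¹ = pb ∨ k * pb * k⁻¹ = pa * pb) k hk' with e | e
      · exact Or.inl (by rw [← map_inv, ← map_mul, ← map_mul, e])
      · exact Or.inr (by rw [← map_inv, ← map_mul, ← map_mul, e, map_mul])
    have h' : mk (a * tX * a⁻¹) = mk tX := by
      rcases h with e | e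
      · rw [show a * tX * a⁻¹ = tX from Subtype.ext e]
      · exact hmkz _ _ e
    rwa [map_mul, map_mul, map_inv, mul_inv_eq_iff_eq_mul] at h'
  have hcent : centralizer ({mk tX} : Set (D.X ⧸ N0)) = Pb := by
    ext q
    obtain ⟨a, rfl⟩ := QuotientGroup.mk'_surjective N0 q
    rw [mem_centralizer_singleton_iff]
    exact ⟨fun h => ⟨a, hcentle a h, rfl⟩, fun ⟨b, hb, hab⟩ => by rw [← hab]; exact hPV b hb⟩
  have hNcard : Nat.card N0 = 2 := by rw [hN0, Nat.card_zpowers, hzord]
  have hPbcard : Nat.card Pb = 4 := by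
    have h1 := (mk.comp P'.subtype).ker.card_mul_index
    rw [index_ker, MonoidHom.range_comp, range_subtype, Nat.card_congr (subgroupOfEquivOfLe D.P_le_X).toEquiv,
      D.card_P] at h1
    have h2 : Nat.card (mk.comp P'.subtype).ker = 2 := by
      rw [← hNcard]
      refine Nat.card_congr
        ⟨fun a => ⟨(a.1 : D.X), (QuotientGroup.eq_one_iff _).1 a.2⟩,
         fun a => ⟨⟨a.1, zpowers_le.2 hzP' a.2⟩, (QuotientGroup.eq_one_iff _).2 a.2⟩,
         fun a => rfl, fun a => rfl⟩
    rw [h2] at h1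
    change 2 * Nat.card Pb = 8 at h1
    omega
  have hPbe : ∀ c ∈ Pb, c ^ 2 = 1 := by
    rintro _ ⟨a, ha, rfl⟩
    rw [← map_pow]
    refine (QuotientGroup.eq_one_iff _).2 ?_
    obtain ⟨k, hk⟩ := D.P_le (mem_subgroupOf.1 ha)
    have hk' := D.mem_P.1 (hk.symm ▸ mem_subgroupOf.1 ha : D.ι k ∈ D.P)
    rcases (by decide +kernel : ∀ k : Equiv.Perm (Fin 4), k * pa = pa * k → k * k = 1 ∨ k * k = pa) k hk' with e | e
    · rw [show a ^ 2 = 1 from Subtype.ext (by rw [Subgroup.coe_pow, pow_two, ← hk, ← map_mul, e, map_one]; rfl)]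
      exact one_mem _
    · rw [show a ^ 2 = zX from Subtype.ext (by rw [Subgroup.coe_pow, pow_two, ← hk, ← map_mul, e])]
      exact mem_zpowers _
  have htord : orderOf (mk tX) = 2 := orderOf_eq_prime (hPbe _ ⟨tX, htP', rfl⟩) fun h => by
    rcases hN0mem _ ((QuotientGroup.eq_one_iff tX).1 h) with e | e
    · exact D.t_ne (congrArg Subtype.val e)
    · exact D.t_ne_z (congrArg Subtype.val e)
  -- the size of the quotient
  have hKcard : Nat.card D.X = 2 * Nat.card (D.X ⧸ N0) := by rw [← hNcard, mul_comm, ← card_eq_card_quotient_mul_card_subgroup]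
  have h16 : Nat.card (D.S : Subgroup G) ∣ Nat.card D.X := card_dvd_of_le D.S_le_X
  obtain ⟨j, hj, hj4⟩ : ∃ j, Nat.card (D.S : Subgroup G) = 2 ^ j ∧ 4 ≤ j := by
    obtain ⟨j, hj⟩ := D.S.2.exists_card_eq
    refine ⟨j, hj, ?_⟩
    by_contra h
    have := D.h16
    rw [hj] at this
    interval_cases j <;> omega
  have h8 : 8 ∣ Nat.card (D.X ⧸ N0) := by
    have : 2 * 8 ∣ 2 * Nat.card (D.X ⧸ N0) := by
      rw [← hKcard]; exact ((pow_dvd_pow 2 hj4).trans (hj ▸ dvd_rfl : 2 ^ j ∣ _)).trans h16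
    exact Nat.dvd_of_mul_dvd_mul_left two_pos this
  have hθfix : ¬ (θ * D.e * θ⁻¹ = D.e ∨ θ * D.e * θ⁻¹ = D.z * D.e) := by
    rintro (h | h)
    · exact hθe h
    · refine hθe' (h.trans ?_)
      rw [eq_inv_iff_mul_eq_one, mul_assoc, D.e_sq, D.z_sq]
  have hθQ' : ∀ q ∈ D.Q, θ * q * θ⁻¹ ∈ D.Q := fun q hq => (mem_normalizer_iff.1 hθQ q).1 hq
  -- no normal two-complement
  have hnc : ¬ Cfsg.HasNormalPComplement 2 (D.X ⧸ N0) := by
    rintro ⟨T, N, hN, hcomp⟩
    haveI := hN
    obtain ⟨i, hi⟩ := T.2.exists_card_eq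
    have hNodd : Odd (Nat.card N) := by
      rw [← hcomp.index_eq_card, Nat.odd_iff]
      have := T.not_dvd_index
      omega
    have hidx : N.index = 2 ^ i := hcomp.symm.index_eq_card.trans hi
    have hθN : mk θX ∈ N := by
      have h1 : orderOf ((mk θX : D.X ⧸ N0) : (D.X ⧸ N0) ⧸ N) ∣ 2 ^ i := by
        rw [← hidx, Subgroup.index_eq_card]; exact orderOf_dvd_natCard _
      have h2 : orderOf ((mk θX : D.X ⧸ N0) : (D.X ⧸ N0) ⧸ N) ∣ 3 ^ k3 := by
        rw [← hθ3, ← Subgroup.orderOf_mk θ θX.2]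
        exact orderOf_map_dvd ((QuotientGroup.mk' N).comp mk) θX
      exact (QuotientGroup.eq_one_iff _).1 (orderOf_eq_one_iff.1
        (Nat.eq_one_of_dvd_coprimes ((Nat.Coprime.pow k3 i (by decide : Nat.Coprime 3 2))) h2 h1))
    have hcm : mk (eX * θX * eX⁻¹ * θX⁻¹) ∈ N := by
      rw [map_mul, map_mul, map_mul, map_inv, map_inv]
      exact mul_mem (hN.conj_mem _ hθN _) (inv_mem hθN)
    have hq : D.e * θ * D.e⁻¹ * θ⁻¹ ∈ D.Q := by
      rw [show D.e * θ * D.e⁻¹ * θ⁻¹ = D.e * (θ * D.e⁻¹ * θ⁻¹) by group]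
      exact mul_mem D.e_mem_Q (hθQ' _ (inv_mem D.e_mem_Q))
    have hone : mk (eX * θX * eX⁻¹ * θX⁻¹) = 1 := by
      have h1 : orderOf (mk (eX * θX * eX⁻¹ * θX⁻¹)) ∣ 2 ^ j := by
        refine (orderOf_map_dvd mk _).trans ?_
        rw [← hj, ← Subgroup.orderOf_coe]
        exact Subgroup.orderOf_dvd_natCard _ (D.Q_le_S hq)
      have h2 : Odd (orderOf (mk (eX * θX * eX⁻¹ * θX⁻¹))) := by
        rw [← Subgroup.orderOf_mk _ hcm]; exact hNodd.of_dvd_nat (orderOf_dvd_natCard _)
      exact orderOf_eq_one_iff.1 (Nat.eq_one_of_dvd_coprimes ((Nat.coprime_two_right.2 h2).pow_right j) dvd_rfl h1)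
    rcases hN0mem _ ((QuotientGroup.eq_one_iff _).1 hone) with e | e
    · refine hθfix (Or.inl ?_)
      have e' : D.e * θ * D.e⁻¹ * θ⁻¹ = 1 := congrArg Subtype.val e
      rw [mul_inv_eq_one, mul_inv_eq_iff_eq_mul] at e'
      rw [← e', mul_inv_cancel_right]
    · refine hθfix (Or.inr ?_)
      have e' : D.e * θ * D.e⁻¹ * θ⁻¹ = D.z := congrArg Subtype.val e
      rw [mul_inv_eq_iff_eq_mul, mul_inv_eq_iff_eq_mul] at e'
      calc θ * D.e * θ⁻¹ = D.z * (D.z * θ * D.e) * θ⁻¹ := by rw [← mul_assoc, ← mul_assoc, D.z_sq, one_mul]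
        _ = D.z * D.e := by rw [← e']; group
  -- no central involution
  have hne2 : ∀ E : Subgroup (D.X ⧸ N0), E.Normal → Nat.card E ≠ 2 := by
    intro E hE hE2
    haveI : Nontrivial E := Finite.one_lt_card_iff_nontrivial.1 (by rw [hE2]; norm_num)
    obtain ⟨⟨a, ha⟩, ha1⟩ := exists_ne (1 : E)
    have hcen : ∀ g : D.X ⧸ N0, g * a * g⁻¹ = a := by
      intro g
      obtain ⟨b, hb, hbu⟩ := Nat.card_eq_two_iff' (⟨1, one_mem E⟩ : E) |>.1 hE2
      have e1 : (⟨a, ha⟩ : E) = b := hbu _ ha1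
      have e2 : (⟨g * a * g⁻¹, hE.conj_mem a ha g⟩ : E) = b := hbu _ (fun h => ha1 (Subtype.ext (by
        have h' : g * a * g⁻¹ = 1 := congrArg Subtype.val h
        exact conj_eq_one_iff.1 h')))
      exact congrArg Subtype.val (e2.trans e1.symm)
    have haP : a ∈ Pb := by
      rw [← hcent, mem_centralizer_singleton_iff]
      exact (mul_inv_eq_iff_eq_mul.1 (hcen (mk tX))).symm
    obtain ⟨p, hp, rfl⟩ := haP
    have hfix : ∀ g : D.X, (g : G) * p * (g : G)⁻¹ = p ∨ (g : G) * p * (g : G)⁻¹ = D.z * p := fun g =>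
      hmk_eq (g * p * g⁻¹) p (by rw [map_mul, map_mul, map_inv]; exact hcen (mk g))
    have hz_out : mk p ≠ 1 := fun h => ha1 (Subtype.ext h)
    have hzz : ∀ g v : G, g ∈ D.X → g * (D.z * v) * g⁻¹ = D.z * (g * v * g⁻¹) := fun g v hg => by
      rw [← mul_assoc g, D.mem_X.1 hg]; group
    have hzt : ∀ v : G, D.z * (D.z * v) = v := fun v => by rw [← mul_assoc, D.z_sq, one_mul]
    rcases D.P_cases (mem_subgroupOf.1 hp) with h | h | h | h | h | h | h | h
    · exact hz_out (by rw [show p = 1 from Subtype.ext h, map_one])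
    · exact hz_out ((QuotientGroup.eq_one_iff _).2 (by rw [show p = zX from Subtype.ext h]; exact mem_zpowers _))
    · have e : mk p = mk tX := by rw [show p = tX from Subtype.ext h]
      have htop : Pb = ⊤ := by
        rw [← hcent, eq_top_iff]
        intro g _
        rw [mem_centralizer_singleton_iff, ← e]
        exact mul_inv_eq_iff_eq_mul.1 (hcen g)
      rw [htop, card_top] at hPbcard
      omega
    · have e : mk p = mk tX := hmkz _ _ h
      have htop : Pb = ⊤ := by
        rw [← hcent, eq_top_iff]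
        intro g _
        rw [mem_centralizer_singleton_iff, ← e]
        exact mul_inv_eq_iff_eq_mul.1 (hcen g)
      rw [htop, card_top] at hPbcard
      omega
    · have := hfix θX; rw [h] at this; exact hθfix this
    · have := hfix θX
      rw [h, hzz θ _ θX.2, mul_left_cancel_iff, hzt] at this
      exact hθfix (this.imp id fun e => mul_left_cancel (a := D.z) (e.trans (hzt D.e).symm))
    all_goals
      refine D.w_not_fix ?_
      have hw := hfix wX
      have key : D.w * D.t * D.w⁻¹ = D.e * (D.w * (D.e * D.t) * D.w⁻¹) := by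
        rw [show D.w * (D.e * D.t) * D.w⁻¹ = D.w * D.e * D.w⁻¹ * (D.w * D.t * D.w⁻¹) by group, D.hwe,
          mul_inv_cancel_left]
      have hw' : D.w * (D.e * D.t) * D.w⁻¹ = D.e * D.t ∨ D.w * (D.e * D.t) * D.w⁻¹ = D.z * (D.e * D.t) := by
        rw [h] at hw
        first
          | exact hw
          | (rw [hzz _ _ wX.2, mul_left_cancel_iff, mul_left_cancel_iff] at hw; exact hw)
      rw [key]
      rcases hw' with e | e <;> rw [e]
      · right; rw [← mul_assoc, D.e_sq]
      · left; rw [← mul_assoc, D.e_z, mul_assoc, ← mul_assoc D.e, D.e_sq, hzt]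
  -- a normal subgroup of order four is the quaternion subgroup
  by_contra hgoal
  have hne4 : ∀ E : Subgroup (D.X ⧸ N0), E.Normal → Cfsg.IsElementaryAbelian 2 E → Nat.card E ≠ 4 := by
    intro E hE hEab hE4
    have hsq : ∀ a ∈ E, a * a = 1 := fun a ha => by rw [← pow_two]; exact hEab.2 a ha
    haveI := hEab.1
    have hcomm : ∀ a ∈ E, ∀ b ∈ E, a * b = b * a := fun a ha b hb =>
      congrArg Subtype.val (mul_comm' (⟨a, ha⟩ : E) ⟨b, hb⟩)
    set τ := mk tX with hτ
    have hτ2 : τ * τ = 1 := by rw [← pow_two]; exact hPbe _ ⟨tX, htP', rfl⟩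
    have heE : mk eX ∈ E := by
      by_cases hall : ∀ b ∈ E, b * τ = τ * b
      · have hle : E ≤ Pb := fun b hb => by
          rw [← hcent]; exact mem_centralizer_singleton_iff.2 (hall b hb)
        rw [Subgroup.eq_of_le_of_card_ge hle (by rw [hPbcard, hE4])]
        exact ⟨eX, heP', rfl⟩
      push Not at hall
      obtain ⟨b, hb, hbτ⟩ := hall
      set c := b * (τ * b * τ⁻¹) with hc
      have hb' : τ * b * τ⁻¹ ∈ E := hE.conj_mem b hb τ
      have hcE : c ∈ E := mul_mem hb hb'
      have hcfix : c * τ = τ * c := by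
        refine (mul_inv_eq_iff_eq_mul.1 ?_).symm
        rw [hc, show τ * (b * (τ * b * τ⁻¹)) * τ⁻¹ = τ * b * τ⁻¹ * (τ * τ) * b * (τ * τ)⁻¹ by group, hτ2, inv_one,
          mul_one, mul_one]
        exact hcomm _ hb' _ hb
      obtain ⟨β, rfl⟩ := QuotientGroup.mk'_surjective N0 b
      have hcm : c = mk (β * (tX * β * tX⁻¹)) := by rw [map_mul, map_mul, map_mul, map_inv]
      have hp : β * (tX * β * tX⁻¹) ∈ P' := hcentle _ (by rw [← hcm]; exact hcfix)
      have hc1 : c ≠ 1 := by
        intro h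
        refine hbτ ?_
        have h2 : τ * mk β * τ⁻¹ = mk β :=
          (eq_inv_of_mul_eq_one_right h).trans (inv_eq_of_mul_eq_one_right (hsq _ hb))
        exact (mul_inv_eq_iff_eq_mul.1 h2).symm
      rw [hcm] at hc1 hcE
      generalize hpe : β * (tX * β * tX⁻¹) = p at hp hc1 hcE hcm
      have htinv : tX⁻¹ = tX := inv_eq_of_mul_eq_one_right (Subtype.ext D.t_sq)
      have hp' : p = (β * tX) * (β * tX) := by rw [← hpe, htinv]; group
      rcases D.P_cases (mem_subgroupOf.1 hp) with h | h | h | h | h | h | h | h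
      · exact absurd (by rw [show p = 1 from Subtype.ext h, map_one]) hc1
      · exact absurd ((QuotientGroup.eq_one_iff _).2 (by rw [show p = zX from Subtype.ext h]; exact mem_zpowers _)) hc1
      · exfalso
        have e : mk p = τ := by rw [show p = tX from Subtype.ext h]
        refine hbτ ?_
        have h2 : mk (β * tX) * τ = τ * mk (β * tX) := by
          rw [← e, hp']; simp only [map_mul]; group
        rw [map_mul, mul_assoc, hτ2, mul_one, ← mul_assoc] at h2
        calc mk β * τ = (τ * mk β * τ) * τ := by rw [← h2]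
          _ = τ * mk β := by rw [mul_assoc, hτ2, mul_one]
      · exfalso
        have e : mk p = τ := hmkz _ _ h
        refine hbτ ?_
        have h2 : mk (β * tX) * τ = τ * mk (β * tX) := by
          rw [← e, hp']; simp only [map_mul]; group
        rw [map_mul, mul_assoc, hτ2, mul_one, ← mul_assoc] at h2
        calc mk β * τ = (τ * mk β * τ) * τ := by rw [← h2]
          _ = τ * mk β := by rw [mul_assoc, hτ2, mul_one]
      · rwa [show p = eX from Subtype.ext h] at hcE
      · rwa [show mk p = mk eX from hmkz _ _ h] at hcE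
      all_goals
        exfalso
        have hpm : mk p = mk eX * τ := by
          rw [hτ, ← map_mul]
          first
            | rw [show p = eX * tX from Subtype.ext h]
            | exact hmkz _ _ h
        have h2 : mk (β⁻¹ * tX * β) = mk eX := by
          have h3 : mk β⁻¹ = mk β := by rw [map_inv]; exact inv_eq_of_mul_eq_one_right (hsq _ hb)
          have h4 : mk (β * tX * β) * τ = mk eX * τ := by
            rw [← hpm, ← hcm, hc, map_mul, map_mul, ← hτ, show τ⁻¹ = τ from inv_eq_of_mul_eq_one_right hτ2]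
            group
            rfl
          rw [map_mul, map_mul, h3, ← map_mul, ← map_mul]
          exact mul_right_cancel h4
        have hsq1 : (β⁻¹ * tX * β : D.X) * (β⁻¹ * tX * β) = 1 := by
          rw [show β⁻¹ * tX * β * (β⁻¹ * tX * β) = β⁻¹ * (tX * tX) * β by group,
            show tX * tX = 1 from Subtype.ext D.t_sq, mul_one, inv_mul_cancel]
        have hsq2 := congrArg Subtype.val hsq1
        rcases hmk_eq _ _ h2 with e | e <;> rw [Subgroup.coe_mul, e] at hsq2
        · exact D.z_ne (D.e_sq.symm.trans hsq2)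
        · refine D.z_ne (D.e_sq.symm.trans (Eq.trans ?_ hsq2))
          rw [mul_assoc D.z, ← mul_assoc D.e, D.e_z, mul_assoc D.z D.e, ← mul_assoc D.z, D.z_sq, one_mul]
    -- the preimage is the quaternion subgroup
    set E' := E.comap mk with hE'
    have hE'card : Nat.card E' = 8 := by
      have h1 := E'.card_mul_index
      rw [hE', index_comap_of_surjective _ (QuotientGroup.mk'_surjective N0), hKcard, ← E.card_mul_index, hE4,
        ← mul_assoc] at h1
      exact Nat.eq_of_mul_eq_mul_right (Nat.pos_of_ne_zero index_ne_zero_of_finite) h1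
    haveI hE'n : E'.Normal := hE.comap mk
    have he' : eX ∈ E' := heE
    have hf' : θX * eX * θX⁻¹ ∈ E' := hE'n.conj_mem _ he' θX
    obtain ⟨y, hy⟩ := hθQ' _ D.e_mem_Q
    set M := (E'.map D.X.subtype).comap D.qh with hM
    have h1M : QuaternionGroup.a 1 ∈ M := ⟨eX, he', D.qh_a.symm⟩
    have hyM : y ∈ M := ⟨_, hf', hy.symm⟩
    have hpowM : ∀ i : ZMod (2 * 2), QuaternionGroup.a i ∈ M := fun i => by
      have := pow_mem h1M i.val
      rwa [QuaternionGroup.a_one_pow, ZMod.natCast_zmod_val] at this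
    obtain ⟨i, rfl⟩ : ∃ i, y = QuaternionGroup.xa i := by
      rcases y with i | i
      · exfalso
        refine hθfix ?_
        have hsq : θ * D.e * θ⁻¹ * (θ * D.e * θ⁻¹) = D.z := by
          rw [show θ * D.e * θ⁻¹ * (θ * D.e * θ⁻¹) = θ * (D.e * D.e) * θ⁻¹ by group, D.e_sq, hθz,
            mul_inv_cancel_right]
        have hi : (QuaternionGroup.a i * QuaternionGroup.a i : QuaternionGroup 2) = QuaternionGroup.a 2 :=
          D.qh_inj (by rw [map_mul, hy, hsq, D.qh_z])
        rw [← hy]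
        rcases (by decide : ∀ i : ZMod (2 * 2), (QuaternionGroup.a i * QuaternionGroup.a i : QuaternionGroup 2) =
          QuaternionGroup.a 2 → (QuaternionGroup.a i : QuaternionGroup 2) = QuaternionGroup.a 1 ∨
          (QuaternionGroup.a i : QuaternionGroup 2) = QuaternionGroup.a 2 * QuaternionGroup.a 1) i hi with e | e <;>
          rw [e]
        · exact Or.inl D.qh_a
        · exact Or.inr (by rw [map_mul, D.qh_z, D.qh_a])
      · exact ⟨i, rfl⟩
    have hQle : D.Q ≤ E'.map D.X.subtype := by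
      rintro _ ⟨x, rfl⟩
      show x ∈ M
      rcases x with l | l
      · exact hpowM l
      · have := mul_mem hyM (hpowM (l - i))
        rwa [QuaternionGroup.xa_mul_a, add_sub_cancel] at this
    have hQ8 : Nat.card D.Q = 8 := by
      rw [Q, ← Nat.card_congr (MonoidHom.ofInjective D.qh_inj).toEquiv, Nat.card_eq_fintype_card,
        QuaternionGroup.card]
    have heq : D.Q = E'.map D.X.subtype := Subgroup.eq_of_le_of_card_ge hQle (by
      rw [card_map_of_injective D.X.subtype_injective, hE'card, hQ8])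
    refine hgoal fun g hg => ?_
    rw [heq]
    refine le_normalizer_map D.X.subtype ⟨⟨g, hg⟩, ?_, rfl⟩
    rw [normalizer_eq_top]; exact mem_top _
  obtain ⟨f⟩ := Cfsg.Agent.S3277.result (mk tX) htord (by rw [hcent, hPbcard]) (fun c hc => hPbe c (hcent ▸ hc)) hnc
    (fun E hE hEab => ⟨hne2 E hE, hne4 E hE hEab⟩)
  rw [Nat.card_congr f.toEquiv, Nat.card_eq_fintype_card, show Fintype.card ↥(alternatingGroup (Fin 5)) = 60 by
    decide +kernel] at h8
  omega

end SdSit

end Cfsg.Lib.SubdegThree
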