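import Cfsg.Agent.SubdegThree.Basic
import Cfsg.Agent.SubdegThree.DihFinal
import Cfsg.Agent.SubdegThree.Psl
import Cfsg.Agent.S5892
import Cfsg.Agent.Classical.Misc.SmallPSL
import Cfsg.Agent.Classical.Misc.PSLBounds

/-!
Stabiliser `S₄`: the group is simple, and the dihedral case.
-/

set_option autoImplicit false
set_option linter.style.haveILetI false
set_option linter.unusedSectionVars false
set_option synthInstance.maxSize 1024

namespace Cfsg.Lib.SubdegThree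

open Subgroup

universe u

theorem perm_four_odd_trivial {N : Subgroup (Equiv.Perm (Fin 4))} [N.Normal] (hN : Odd (Nat.card N)) : N = ⊥ := by
  haveI : Fact (Nat.Prime 2) := ⟨Nat.prime_two⟩
  refine (Subgroup.eq_bot_iff_forall _).2 fun k hk => ?_
  have h3 : k ^ 3 = 1 := by
    have ho : Odd (orderOf k) := odd_orderOf_of_mem hN hk
    obtain ⟨n, hn⟩ := ho
    have h := pow_orderOf_eq_one k
    exact (by decide +kernel : ∀ k : Equiv.Perm (Fin 4), ∀ n : Fin 13, k ^ (2 * (n : ℕ) + 1) = 1 → k ^ 3 = 1) k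
      ⟨n, by
        have hle : orderOf k ≤ 24 := Nat.le_of_dvd (by norm_num)
          ((orderOf_dvd_natCard k).trans (by rw [Nat.card_perm, Nat.card_fin]; rfl))
        omega⟩ (hn ▸ h)
  by_contra hk1
  obtain ⟨h1, h2⟩ := (by decide +kernel : ∀ k : Equiv.Perm (Fin 4), k ^ 3 = 1 → k ≠ 1 →
    InV (k * (pa * k⁻¹ * pa⁻¹)) ∧ k * (pa * k⁻¹ * pa⁻¹) ≠ 1) k h3 hk1
  have hmem : k * (pa * k⁻¹ * pa⁻¹) ∈ N := mul_mem hk (Subgroup.Normal.conj_mem inferInstance _ (inv_mem hk) pa)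
  refine h2 (eq_one_of_odd_of_two (odd_orderOf_of_mem hN hmem) ?_)
  exact (by decide +kernel : ∀ a : Equiv.Perm (Fin 4), InV a → a * a = 1) _ h1

theorem perm_four_normal {N : Subgroup (Equiv.Perm (Fin 4))} [N.Normal] (hN : N ≠ ⊥) : pa ∈ N ∧ pb ∈ N := by
  obtain ⟨⟨k, hk⟩, hk1⟩ := Subgroup.ne_bot_iff_exists_ne_one.1 hN
  have hk1 : k ≠ 1 := fun h => hk1 (Subtype.ext h)
  have hcomm : ∀ a, k * (a * k⁻¹ * a⁻¹) ∈ N := fun a =>
    mul_mem hk (Subgroup.Normal.conj_mem inferInstance _ (inv_mem hk) a)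
  obtain ⟨v, hvN, hvV, hv1⟩ : ∃ v, v ∈ N ∧ InV v ∧ v ≠ 1 := by
    rcases (by decide +kernel : ∀ k : Equiv.Perm (Fin 4), k ≠ 1 → InV k ∨
      (InV (k * (pa * k⁻¹ * pa⁻¹)) ∧ k * (pa * k⁻¹ * pa⁻¹) ≠ 1) ∨
      (InV (k * (pb * k⁻¹ * pb⁻¹)) ∧ k * (pb * k⁻¹ * pb⁻¹) ≠ 1)) k hk1 with h | ⟨h1, h2⟩ | ⟨h1, h2⟩
    · exact ⟨k, hk, h, hk1⟩
    · exact ⟨_, hcomm pa, h1, h2⟩
    · exact ⟨_, hcomm pb, h1, h2⟩
  obtain ⟨⟨a, ha⟩, ⟨b, hb⟩⟩ := (by decide +kernel : ∀ v : Equiv.Perm (Fin 4), InV v → v ≠ 1 →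
    (∃ a, a * v * a⁻¹ = pa) ∧ (∃ b, b * v * b⁻¹ = pb)) v hvV hv1
  exact ⟨ha ▸ Subgroup.Normal.conj_mem inferInstance _ hvN a, hb ▸ Subgroup.Normal.conj_mem inferInstance _ hvN b⟩

variable {G : Type u} [Group G] [Finite G] {A : Subgroup G}

/-- The stabiliser `S₄`: a simple group with a larger Sylow two-subgroup. -/
theorem Prim.sym_setup (h : Prim A) (e : A ≃* Equiv.Perm (Fin 4)) {P : Subgroup G} (hPA : P ≤ A)
    (hrel : P.relIndex A = 3) (hP : IsPGroup 2 P) {g : G} (hg : g ∉ A) (hgP : ∀ x, g * x * g⁻¹ ∈ P ↔ x ∈ P) :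
    ∃ D : Sym4 G, D.ι.range = A ∧ IsSimpleGroup G ∧
      (∀ R : Subgroup G, Odd (Nat.card R) → D.ι.range ≤ normalizer (R : Set G) → R = ⊥) ∧
      ∃ S : Sylow 2 G, D.P ≤ (S : Subgroup G) ∧ 16 ≤ Nat.card (S : Subgroup G) := by
  classical
  haveI : Fact (Nat.Prime 2) := ⟨Nat.prime_two⟩
  set ι : Equiv.Perm (Fin 4) →* G := A.subtype.comp e.symm.toMonoidHom with hι
  have hinj : Function.Injective ι := A.subtype_injective.comp e.symm.injective
  have hrange : ι.range = A := by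
    rw [hι, MonoidHom.range_comp, MonoidHom.range_eq_top.2 e.symm.surjective, ← MonoidHom.range_eq_map,
      range_subtype]
  -- the four-group
  set E : Subgroup G := (closure ({pa, pb} : Set (Equiv.Perm (Fin 4)))).map ι with hE
  have hEA : E ≤ A := (map_le_range _ _).trans hrange.le
  have hEmem : ∀ k, InV k → ι k ∈ E := by
    intro k hk
    refine mem_map_of_mem _ ?_
    rcases hk with rfl | rfl | rfl | rfl
    exacts [one_mem _, subset_closure (Or.inl rfl), subset_closure (Or.inr rfl),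
      mul_mem (subset_closure (Or.inl rfl)) (subset_closure (Or.inr rfl))]
  have hEne : E ≠ ⊥ := fun h0 => by
    have h1 := hEmem pa (Or.inr (Or.inl rfl))
    rw [h0, mem_bot, ← map_one ι] at h1
    exact absurd (hinj h1) (by decide +kernel)
  have hEnorm : A ≤ normalizer (E : Set G) := by
    rw [← hrange]
    rintro _ ⟨a, rfl⟩
    refine mem_normalizer_iff_map_conj_eq.2 (Subgroup.eq_of_le_of_card_ge ?_
      (Nat.card_congr (E.equivMapOfInjective _ (MulAut.conj (ι a)).injective).toEquiv).le)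
    rw [hE, map_map, MonoidHom.map_closure, closure_le]
    rintro _ ⟨k, hk, rfl⟩
    show ι a * ι k * (ι a)⁻¹ ∈ E
    rw [← map_inv, ← map_mul, ← map_mul]
    refine hEmem _ ((by decide +kernel : ∀ a k : Equiv.Perm (Fin 4), InV k → InV (a * k * a⁻¹)) a k ?_)
    rcases hk with rfl | rfl
    exacts [Or.inr (Or.inl rfl), Or.inr (Or.inr (Or.inl rfl))]
  have hNE := h.normalizer_eq hEne hEA hEnorm
  let D : Sym4 G :=
    { ι := ι
      inj := hinj
      nv := fun x hx => by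
        rw [hrange, ← hNE]
        refine mem_normalizer_iff_map_conj_eq.2 (Subgroup.eq_of_le_of_card_ge ?_
          (Nat.card_congr (E.equivMapOfInjective _ (MulAut.conj x).injective).toEquiv).le)
        rw [hE, map_map, MonoidHom.map_closure, closure_le]
        rintro _ ⟨k, hk, rfl⟩
        obtain ⟨k', hk', e'⟩ := hx k (by
          rcases hk with rfl | rfl
          exacts [Or.inr (Or.inl rfl), Or.inr (Or.inr (Or.inl rfl))])
        show x * ι k * x⁻¹ ∈ E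
        rw [e']
        exact hEmem _ hk' }
  have hDA : D.ι.range = A := hrange
  have hVA : ∀ {x : G}, (x = 1 ∨ x = D.z ∨ x = D.t ∨ x = D.z * D.t) → x ∈ A := fun hx => by
    obtain ⟨k, -, rfl⟩ := D.four_cases hx
    exact hDA ▸ ⟨k, rfl⟩
  -- no odd invariant subgroups
  have hla : ∀ R : Subgroup G, Odd (Nat.card R) → D.ι.range ≤ normalizer (R : Set G) → R = ⊥ := by
    intro R hR hn
    refine h.eq_bot_of_odd_invariant (fun N hNA hAN hN => ?_) hR (hDA ▸ hn)
    have hNr : N ≤ ι.range := hrange ▸ hNA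
    haveI : (N.comap ι).Normal := ⟨fun n hn a => by
      show ι (a * n * a⁻¹) ∈ N
      rw [map_mul, map_mul, map_inv]
      exact (mem_normalizer_iff.1 (hAN (hrange ▸ ⟨a, rfl⟩)) _).1 hn⟩
    have hb := perm_four_odd_trivial (N := N.comap ι) (hN.of_dvd_nat (by
      rw [← card_map_of_injective hinj, map_comap_eq, inf_eq_right.2 hNr]))
    rw [← map_comap_eq_self (f := ι) hNr, hb, Subgroup.map_bot]
  -- replace `P` by the standard Sylow subgroup
  have hPA' : D.P ≤ A := D.P_le.trans hDA.le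
  obtain ⟨g₁, hg₁, hgP₁⟩ : ∃ g₁, g₁ ∉ A ∧ ∀ x, g₁ * x * g₁⁻¹ ∈ D.P ↔ x ∈ D.P := by
    have hcA : Nat.card A = 24 := by
      rw [Nat.card_congr e.toEquiv, Nat.card_perm, Nat.card_fin]; rfl
    have hcP : Nat.card P = 8 := by
      have h1 := Subgroup.relIndex_mul_relIndex ⊥ _ _ (bot_le (a := P)) hPA
      simp only [Subgroup.relIndex_bot_left] at h1
      rw [hrel, hcA] at h1
      omega
    have hnd : ∀ {Q : Subgroup G}, Q ≤ A → Nat.card Q = 8 → ¬ 2 ∣ (Q.subgroupOf A).index := by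
      intro Q hQ hc h2
      have h1 := (Q.subgroupOf A).card_mul_index
      rw [Nat.card_congr (subgroupOfEquivOfLe hQ).toEquiv, hc, hcA] at h1
      omega
    let S₁ : Sylow 2 A := (hP.of_equiv (subgroupOfEquivOfLe hPA).symm).toSylow (hnd hPA hcP)
    let S₂ : Sylow 2 A := (D.P_isPGroup.of_equiv (subgroupOfEquivOfLe hPA').symm).toSylow (hnd hPA' D.card_P)
    obtain ⟨a, ha⟩ := MulAction.exists_smul_eq A S₁ S₂
    have hiff : ∀ x, (a : G) * x * (a : G)⁻¹ ∈ D.P ↔ x ∈ P := by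
      intro x
      constructor
      · intro hx
        have hxA : (a : G) * x * (a : G)⁻¹ ∈ A := hPA' hx
        have h1 : (⟨_, hxA⟩ : A) ∈ (S₂ : Subgroup A) := hx
        rw [← ha, Sylow.coe_subgroup_smul] at h1
        obtain ⟨y, hy, hya⟩ := h1
        have h2 : (a : G) * (y : G) * (a : G)⁻¹ = (a : G) * x * (a : G)⁻¹ := congrArg Subtype.val hya
        rw [← mul_left_cancel (mul_right_cancel h2)]
        exact hy
      · intro hx
        have h1 : a * ⟨x, hPA hx⟩ * a⁻¹ ∈ (a • S₁ : Sylow 2 A) := by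
          rw [← SetLike.mem_coe, Sylow.coe_smul]
          exact ⟨⟨x, hPA hx⟩, hx, rfl⟩
        rw [ha] at h1
        exact h1
    refine ⟨(a : G) * g * (a : G)⁻¹, fun hc => hg ?_, fun x => ?_⟩
    · have := A.mul_mem (A.mul_mem (A.inv_mem a.2) hc) a.2
      simpa [mul_assoc] using this
    · rw [show (a : G) * g * (a : G)⁻¹ * x * ((a : G) * g * (a : G)⁻¹)⁻¹ =
        (a : G) * (g * ((a : G)⁻¹ * x * (a : G)) * g⁻¹) * (a : G)⁻¹ by group, hiff, hgP, ← hiff,
        show (a : G) * ((a : G)⁻¹ * x * (a : G)) * (a : G)⁻¹ = x by group]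
  -- the action of `g₁` on `P`
  have hzfix : g₁ * D.z * g₁⁻¹ = D.z := by
    have hw : g₁ * D.z * g₁⁻¹ ∈ D.P := (hgP₁ _).2 D.z_mem_P
    obtain ⟨k, hk⟩ := D.P_le hw
    have hcen : ∀ a, a ∈ D.P → g₁ * D.z * g₁⁻¹ * a = a * (g₁ * D.z * g₁⁻¹) := by
      intro a ha
      have h1 : g₁⁻¹ * a * g₁ ∈ D.P := (hgP₁ _).1 (by
        rwa [show g₁ * (g₁⁻¹ * a * g₁) * g₁⁻¹ = a by group])
      obtain ⟨j, hj⟩ := D.P_le h1
      have hjz : j * pa = pa * j := D.mem_P.1 (hj ▸ h1)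
      have := commute_conj g₁ (show D.z * (g₁⁻¹ * a * g₁) = g₁⁻¹ * a * g₁ * D.z by
        rw [← hj, ← map_mul, ← map_mul, hjz])
      rwa [show g₁ * (g₁⁻¹ * a * g₁) * g₁⁻¹ = a by group] at this
    have hk1 : k ≠ 1 := fun e0 => by
      rw [e0, map_one] at hk
      exact D.z_ne (conj_eq_one_iff.1 hk.symm)
    have hk' : k = pa := (by decide +kernel : ∀ k : Equiv.Perm (Fin 4), k ≠ 1 → k * pa = pa * k →
        k * pb = pb * k → k * pe = pe * k → k = pa) k hk1 (D.mem_P.1 (hk ▸ hw))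
        (D.inj (by rw [map_mul, map_mul, hk]; exact hcen _ D.t_mem_P))
        (D.inj (by rw [map_mul, map_mul, hk]; exact hcen _ D.e_mem_P))
    rw [← hk, hk']
  have hgt : ¬ (g₁ * D.t * g₁⁻¹ = 1 ∨ g₁ * D.t * g₁⁻¹ = D.z ∨ g₁ * D.t * g₁⁻¹ = D.t ∨
      g₁ * D.t * g₁⁻¹ = D.z * D.t) := fun ht => hg₁ (hDA ▸ D.mem_range_of (Or.inr (Or.inl hzfix)) ht)
  have hg2 : g₁ * g₁ ∈ D.P := by
    obtain ⟨k, hk⟩ := D.P_le ((hgP₁ _).2 D.t_mem_P)
    obtain ⟨j, hj⟩ := D.P_le ((hgP₁ _).2 D.e_mem_P)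
    have hkP := D.mem_P.1 (hk ▸ (hgP₁ _).2 D.t_mem_P)
    have hjP := D.mem_P.1 (hj ▸ (hgP₁ _).2 D.e_mem_P)
    have hk2 : k * k = 1 := D.inj (by
      rw [map_mul, hk, show g₁ * D.t * g₁⁻¹ * (g₁ * D.t * g₁⁻¹) = g₁ * (D.t * D.t) * g₁⁻¹ by group, D.t_sq,
        map_one]; group)
    have hj2 : j * j = pa := D.inj (by
      rw [map_mul, hj, show g₁ * D.e * g₁⁻¹ * (g₁ * D.e * g₁⁻¹) = g₁ * (D.e * D.e) * g₁⁻¹ by group, D.e_sq,
        hzfix])
    have hkV : ¬ InV k := fun hV => hgt (hk ▸ D.of_inV hV)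
    have hcase : k = pe * pb ∨ k = pe * pa * pb :=
      (by decide +kernel : ∀ k : Equiv.Perm (Fin 4), k * pa = pa * k → k * k = 1 → ¬ InV k →
        k = pe * pb ∨ k = pe * pa * pb) k hkP hk2 hkV
    obtain ⟨-, hV⟩ := (by decide +kernel : ∀ k j : Equiv.Perm (Fin 4), (k = pe * pb ∨ k = pe * pa * pb) →
      j * pa = pa * j → j * j = pa → (InV (j * k) ∧ InV (j * pa * k))) k j hcase hjP hj2 |>
        fun hjk => (⟨trivial, hjk⟩ : True ∧ _)
    have h2t : g₁ * g₁ * D.t * (g₁ * g₁)⁻¹ ∈ D.V := by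
      rw [show g₁ * g₁ * D.t * (g₁ * g₁)⁻¹ = g₁ * (g₁ * D.t * g₁⁻¹) * g₁⁻¹ by group, ← hk]
      rcases hcase with hk' | hk'
      · refine ⟨j * k, hV.1, ?_⟩
        have h3 : g₁ * D.ι k * g₁⁻¹ = g₁ * D.e * g₁⁻¹ * (g₁ * D.t * g₁⁻¹) := by
          rw [hk', map_mul]; group
        rw [map_mul, h3, ← hj, ← hk]
      · refine ⟨j * pa * k, hV.2, ?_⟩
        have h3 : g₁ * D.ι k * g₁⁻¹ = g₁ * D.e * g₁⁻¹ * (g₁ * D.z * g₁⁻¹) * (g₁ * D.t * g₁⁻¹) := by
          rw [hk', map_mul, map_mul]; group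
        rw [map_mul, map_mul, h3, hzfix, ← hj, ← hk]
    have hA2 : g₁ * g₁ ∈ D.ι.range := D.mem_range_of (Or.inr (Or.inl (by
      rw [show g₁ * g₁ * D.z * (g₁ * g₁)⁻¹ = g₁ * (g₁ * D.z * g₁⁻¹) * g₁⁻¹ by group, hzfix, hzfix])))
      (D.mem_V.1 h2t)
    obtain ⟨m, hm⟩ := hA2
    rw [← hm]
    refine D.mem_P.2 (D.inj ?_)
    rw [map_mul, map_mul, hm, mul_assoc]
    calc g₁ * (g₁ * D.z) = g₁ * (g₁ * D.z * g₁⁻¹) * g₁ := by group
      _ = g₁ * D.z * g₁⁻¹ * (g₁ * g₁) := by rw [hzfix]; conv_rhs => rw [← hzfix]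
                                            group
      _ = D.z * (g₁ * g₁) := by rw [hzfix]
  -- the group is simple
  have hsimple : IsSimpleGroup G := by
    haveI : Nontrivial G := by
      by_contra hn
      rw [not_nontrivial_iff_subsingleton] at hn
      exact h.insol inferInstance
    refine ⟨fun N hN => or_iff_not_imp_left.2 fun hNne => ?_⟩
    haveI := hN
    have hVle : D.V ≤ A := fun x hx => hVA (D.mem_V.1 hx)
    have hCV : centralizer (D.V : Set G) ≤ A := fun x hx => hVA (D.cent_four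
      (mem_centralizer_iff.1 hx D.z (D.mem_V.2 (Or.inr (Or.inl rfl)))).symm
      (mem_centralizer_iff.1 hx D.t (D.mem_V.2 (Or.inr (Or.inr (Or.inl rfl))))).symm)
    have hne := h.inf_ne_bot hVle (IsPGroup.of_card (n := 2) (by rw [D.card_V]; rfl)) hCV N hNne
    haveI : (N.comap ι).Normal := inferInstance
    obtain ⟨hza, htb⟩ := perm_four_normal (N := N.comap ι) (fun hb => hne ((Subgroup.eq_bot_iff_forall _).2
      fun x hx => by
        obtain ⟨k, rfl⟩ := (hrange ▸ hx.2 : x ∈ ι.range)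
        rw [show k = 1 from mem_bot.1 (hb ▸ (hx.1 : k ∈ N.comap ι)), map_one]))
    have hzN : D.z ∈ N := hza
    have htN : D.t ∈ N := htb
    by_cases heN : D.e ∈ N
    · have hdN : D.d ∈ N := by
        obtain ⟨a, b, hab⟩ := (by decide +kernel : ∃ a b : Equiv.Perm (Fin 4),
          pd = a * pe * a⁻¹ * (b * pe * b⁻¹)) 
        show D.ι pd ∈ N
        rw [hab, map_mul, map_mul, map_mul, map_mul, map_mul, map_inv, map_inv]
        exact mul_mem (hN.conj_mem _ heN _) (hN.conj_mem _ heN _)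
      have hAN : A ≤ N := by
        rw [← hDA]
        rintro _ ⟨k, rfl⟩
        obtain ⟨v, hv, i, j, rfl⟩ := (by decide +kernel : ∀ k : Equiv.Perm (Fin 4), ∃ v, InV v ∧ ∃ i : Fin 3,
          ∃ j : Fin 2, k = v * pd ^ (i : ℕ) * pe ^ (j : ℕ)) k
        rw [map_mul, map_mul, map_pow, map_pow]
        refine mul_mem (mul_mem ?_ (pow_mem hdN _)) (pow_mem heN _)
        rcases D.of_inV hv with q | q | q | q <;> rw [q]
        exacts [one_mem _, hzN, htN, mul_mem hzN htN]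
      rcases eq_or_lt_of_le hAN with e0 | hlt
      · exact absurd (h.core N e0.ge hN) hNne
      · exact h.coatom.2 N hlt
    · exfalso
      refine hgt ?_
      obtain ⟨k, hk⟩ := D.P_le ((hgP₁ _).2 D.t_mem_P)
      have hkN : D.ι k ∈ N := hk ▸ hN.conj_mem _ htN _
      have hkP := D.mem_P.1 (hk ▸ (hgP₁ _).2 D.t_mem_P)
      rw [← hk]
      refine D.of_inV (by_contra fun hkV => heN ?_)
      obtain ⟨v, hv, e'⟩ := (by decide +kernel : ∀ k : Equiv.Perm (Fin 4), k * pa = pa * k → ¬ InV k →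
        ∃ v, InV v ∧ k * v = pe) k hkP hkV
      show D.ι pe ∈ N
      rw [← e', map_mul]
      refine mul_mem hkN ?_
      rcases D.of_inV hv with q | q | q | q <;> rw [q]
      exacts [one_mem _, hzN, htN, mul_mem hzN htN]
  -- a larger two-group
  have hgn : zpowers g₁ ≤ normalizer (D.P : Set G) :=
    zpowers_le.2 (mem_normalizer_iff.2 fun x => (hgP₁ x).symm)
  have hgp : IsPGroup 2 (zpowers g₁) := by
    obtain ⟨r, hr⟩ := D.P_isPGroup ⟨g₁ * g₁, hg2⟩
    have h1 : g₁ ^ 2 ^ (r + 1) = 1 := by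
      rw [pow_succ', pow_mul, pow_two]
      exact congrArg Subtype.val hr
    obtain ⟨j, -, hj⟩ := (Nat.dvd_prime_pow Nat.prime_two).1 (orderOf_dvd_of_pow_eq_one h1)
    exact IsPGroup.of_card (n := j) (by rw [Nat.card_zpowers, hj])
  have hT : IsPGroup 2 (zpowers g₁ ⊔ D.P : Subgroup G) :=
    IsPGroup.to_sup_of_normal_right' hgp D.P_isPGroup hgn
  obtain ⟨S, hS⟩ := hT.exists_le_sylow
  refine ⟨D, hDA, hsimple, hla, S, le_sup_right.trans hS, ?_⟩
  obtain ⟨k, hk⟩ := S.2.exists_card_eq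
  have h8 : 8 < Nat.card (S : Subgroup G) := by
    refine lt_of_le_of_ne (D.card_P ▸ Nat.le_of_dvd Nat.card_pos (card_dvd_of_le (le_sup_right.trans hS))) ?_
    intro he
    have heq := Subgroup.eq_of_le_of_card_ge (le_sup_right.trans hS) (by rw [D.card_P]; exact he.ge)
    exact hg₁ (hPA' (heq.ge (hS (mem_sup_left (mem_zpowers _)))))
  rw [hk] at h8 ⊢
  calc 16 = 2 ^ 4 := rfl
    _ ≤ 2 ^ k := Nat.pow_le_pow_right two_pos (by
      by_contra h4
      have : 2 ^ k ≤ 2 ^ 3 := Nat.pow_le_pow_right two_pos (by omega)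
      omega)

/-- The dihedral case of the stabiliser `S₄`. -/
theorem Sym4.psl_of_dihedral (h : Prim A) (D : Sym4 G) (hA : D.ι.range = A) (hsimple : IsSimpleGroup G)
    (hla : ∀ R : Subgroup G, Odd (Nat.card R) → D.ι.range ≤ normalizer (R : Set G) → R = ⊥)
    (S : Sylow 2 G) (hPS : D.P ≤ (S : Subgroup G)) (h16 : 16 ≤ Nat.card (S : Subgroup G))
    (hd : ∃ n : ℕ, Nonempty ((S : Subgroup G) ≃* DihedralGroup n)) :
    ∃ p : ℕ, p.Prime ∧ (p % 16 = 1 ∨ p % 16 = 15) ∧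
      Nonempty (G ≃* Matrix.ProjectiveSpecialLinearGroup (Fin 2) (ZMod p)) := by
  classical
  obtain ⟨n, ⟨eS⟩⟩ := hd
  obtain ⟨T, -⟩ := D.exists_dihSit hsimple hla S hPS h16 n eS
  obtain ⟨F, _, _, hodd, ⟨eG⟩⟩ := T.exists_psl
  obtain ⟨p, hpc⟩ := CharP.exists F
  obtain ⟨r, hp, hr⟩ := FiniteField.card F p
  haveI := Fact.mk hp
  set q := Fintype.card F with hq
  have hcG : Nat.gcd 2 (q - 1) * Nat.card G = q * (q ^ 2 - 1) := by
    rw [Nat.card_congr eG.toEquiv]; exact Cfsg.Lib.Classical.SmallPSL.card_psl rfl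
  have hgcd : Nat.gcd 2 (q - 1) = 2 := by
    obtain ⟨m, hm⟩ := hodd
    rw [hm, show 2 * m + 1 - 1 = 2 * m by omega, Nat.gcd_mul_right_right]
  rw [hgcd] at hcG
  have h16G : 16 ∣ Nat.card G := by
    obtain ⟨k, hk⟩ := S.2.exists_card_eq
    refine dvd_trans ?_ (card_subgroup_dvd_card (S : Subgroup G))
    rw [hk] at h16 ⊢
    refine pow_dvd_pow 2 (m := 4) (n := k) ?_
    by_contra h4
    have : 2 ^ k ≤ 2 ^ 3 := Nat.pow_le_pow_right two_pos (by omega)
    omega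
  have hq5 : 5 ≤ q := by
    by_contra hlt
    obtain ⟨m, hm⟩ := hodd
    obtain ⟨j, hj⟩ := h16G
    have := Nat.card_pos (α := G)
    have : q = 1 ∨ q = 3 := by omega
    rcases this with e0 | e0 <;> rw [e0] at hcG <;> norm_num at hcG <;> omega
  have hcA : Nat.card A = 24 := hA ▸ D.card_range
  set M := A.map eG.toMonoidHom with hM
  have hMc : IsCoatom M := by
    refine ⟨fun e0 => h.coatom.1 ?_, fun M' hM' => ?_⟩
    · refine Subgroup.map_injective (f := eG.toMonoidHom) eG.injective ?_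
      rw [← hM, e0, Subgroup.map_top_of_surjective _ eG.surjective]
    · have hlt : A < M'.comap eG.toMonoidHom := by
        refine lt_of_le_of_ne (map_le_iff_le_comap.1 hM'.le) fun e0 => hM'.ne ?_
        rw [hM, e0, map_comap_eq_self_of_surjective eG.surjective]
      rw [← map_comap_eq_self_of_surjective (f := eG.toMonoidHom) eG.surjective M', h.coatom.2 _ hlt,
        Subgroup.map_top_of_surjective _ eG.surjective]
  have eM : A ≃* M := A.equivMapOfInjective _ eG.injective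
  have hcM : Nat.card M = 24 := by rw [← Nat.card_congr eM.toEquiv, hcA]
  have eP : Equiv.Perm (Fin 4) ≃* M :=
    (MonoidHom.ofInjective D.inj).trans ((MulEquiv.subgroupCongr hA).trans eM)
  have hnd : ∀ k : ℕ, Nonempty (M ≃* DihedralGroup k) → False := by
    rintro k ⟨f⟩
    have hk : 2 * k = 24 := by rw [← DihedralGroup.nat_card, ← Nat.card_congr f.toEquiv, hcM]
    obtain rfl : k = 12 := by omega
    have h12 : orderOf (eP.symm (f.symm (DihedralGroup.r 1))) = 12 := by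
      rw [MulEquiv.orderOf_eq, MulEquiv.orderOf_eq, DihedralGroup.orderOf_r_one]
    rcases (by decide +kernel : ∀ k : Equiv.Perm (Fin 4), k ^ 4 = 1 ∨ k ^ 3 = 1)
      (eP.symm (f.symm (DihedralGroup.r 1))) with e0 | e0
    all_goals
      have := orderOf_dvd_of_pow_eq_one e0
      rw [h12] at this
      omega
  rcases Cfsg.Agent.S5892.result (F := F) p hodd hq5 M hMc with
    h1 | ⟨-, k, -, hk⟩ | ⟨-, -, k, -, hk⟩ | ⟨F₀, i₁, i₂, hq0, ⟨f⟩⟩ | ⟨F₀, i₁, i₂, r', -, hr', hq0, ⟨f⟩⟩ |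
      ⟨-, -, ⟨f⟩⟩ | ⟨-, -, -, ⟨f⟩⟩ | ⟨hqp, h8, -⟩
  · rw [hcM, ← hq] at h1
    have : q ≤ 8 := by
      by_contra hlt
      have := Nat.mul_le_mul (show 9 ≤ q by omega) (show 8 ≤ q - 1 by omega)
      omega
    interval_cases q <;> omega
  · exact (hnd k hk).elim
  · exact (hnd k hk).elim
  · exfalso
    have h2 : Fintype.card F₀ * (Fintype.card F₀ ^ 2 - 1) = 24 := by
      rw [← Cfsg.Lib.Classical.PSLBounds.card_pgl_two, ← Nat.card_congr f.toEquiv, hcM]
    have h3 : Fintype.card F₀ = 3 := by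
      have : Fintype.card F₀ < 4 := by
        by_contra hlt
        have h15 : 15 ≤ Fintype.card F₀ ^ 2 - 1 := by
          have := Nat.pow_le_pow_left (show 4 ≤ Fintype.card F₀ by omega) 2
          omega
        have := Nat.mul_le_mul (show 4 ≤ Fintype.card F₀ by omega) h15
        omega
      clear hcG hq0
      generalize hc : Fintype.card F₀ = c at h2 this ⊢
      interval_cases c <;> simp at h2 ⊢
    rw [h3] at hq0
    rw [← hq] at hq0
    rw [hq0] at hcG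
    norm_num at hcG
    obtain ⟨j, hj⟩ := h16G
    omega
  · exfalso
    have ho : Odd (Fintype.card F₀) := by
      rw [hq, hq0] at hodd
      exact (Nat.odd_pow_iff (Odd.pos hr').ne').1 hodd
    have h2 := Cfsg.Lib.Classical.SmallPSL.card_psl (F := F₀) rfl
    rw [← Nat.card_congr f.toEquiv, hcM] at h2
    obtain ⟨m, hm⟩ := ho
    rw [hm, show 2 * m + 1 - 1 = 2 * m by omega, Nat.gcd_mul_right_right] at h2
    have : m ≤ 1 := by
      by_contra hlt
      have h15 : 24 ≤ (2 * m + 1) ^ 2 - 1 := by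
        have := Nat.pow_le_pow_left (show 5 ≤ 2 * m + 1 by omega) 2
        omega
      have := Nat.mul_le_mul (show 5 ≤ 2 * m + 1 by omega) h15
      omega
    interval_cases m <;> simp at h2
  · exfalso
    have h2 := Nat.card_congr f.toEquiv
    rw [hcM, nat_card_alternatingGroup, Nat.card_fin] at h2
    norm_num [Nat.factorial] at h2
  · exfalso
    have h2 := Nat.card_congr f.toEquiv
    rw [hcM, nat_card_alternatingGroup, Nat.card_fin] at h2
    norm_num [Nat.factorial] at h2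
  · rw [← hq] at hqp
    refine ⟨p, hp, ?_, psl_zmod hp (hq ▸ hqp) eG⟩
    rw [hqp] at hcG
    obtain ⟨j, hj⟩ := h16G
    rw [hj] at hcG
    have h32 : 32 ∣ p * (p ^ 2 - 1) := ⟨j, by rw [← hcG]; ring⟩
    have hcop : Nat.Coprime 32 p := by
      rw [show (32 : ℕ) = 2 ^ 5 by norm_num]
      exact ((Nat.coprime_primes Nat.prime_two hp).2 (by omega)).pow_left 5
    have h32' := hcop.dvd_of_dvd_mul_left h32
    have hkey : ∀ a : ℕ, a < 32 → a % 2 = 1 → (a * a) % 32 = 1 → a % 16 = 1 ∨ a % 16 = 15 := by decide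
    have hp1 : 1 ≤ p ^ 2 := Nat.one_le_pow _ _ hp.pos
    have hm : (p * p) % 32 = 1 := by rw [← pow_two]; omega
    rw [Nat.mul_mod] at hm
    have := hkey (p % 32) (Nat.mod_lt _ (by norm_num)) (by omega) hm
    omega

end Cfsg.Lib.SubdegThree
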