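import Cfsg.Agent.SubdegThree.TwoGroups
import Mathlib.GroupTheory.Nilpotent

/-!
A subgroup `S₄` that is the normaliser of its self-centralising four-group.
-/

set_option autoImplicit false
set_option linter.style.haveILetI false

namespace Cfsg.Lib.SubdegThree

open Subgroup

/-- The first double transposition. -/
def pa : Equiv.Perm (Fin 4) := Equiv.swap 0 1 * Equiv.swap 2 3

/-- The second double transposition. -/
def pb : Equiv.Perm (Fin 4) := Equiv.swap 0 2 * Equiv.swap 1 3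

/-- An element of order three permuting the double transpositions. -/
def pd : Equiv.Perm (Fin 4) := Equiv.swap 1 2 * Equiv.swap 2 3

/-- An element of order four with square the first double transposition. -/
def pe : Equiv.Perm (Fin 4) := Equiv.swap 0 2 * Equiv.swap 2 1 * Equiv.swap 1 3

/-- The four-group. -/
abbrev InV (k : Equiv.Perm (Fin 4)) : Prop := k = 1 ∨ k = pa ∨ k = pb ∨ k = pa * pb

theorem perm_facts : pa * pa = 1 ∧ pb * pb = 1 ∧ pb * pa = pa * pb ∧ pd * pa * pd⁻¹ = pb ∧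
    pd * pb * pd⁻¹ = pa * pb ∧ pd * (pa * pb) * pd⁻¹ = pa ∧ pe * pe = pa ∧ pe * pb * pe⁻¹ = pa * pb ∧
    pd ^ 3 = 1 ∧ pd ≠ 1 := by decide +kernel

universe u

/-- The situation. -/
structure Sym4 (G : Type u) [Group G] where
  ι : Equiv.Perm (Fin 4) →* G
  inj : Function.Injective ι
  nv : ∀ x : G, (∀ k, InV k → ∃ k', InV k' ∧ x * ι k * x⁻¹ = ι k') → x ∈ ι.range

namespace Sym4

variable {G : Type u} [Group G] (D : Sym4 G)

/-- The first involution. -/
abbrev z : G := D.ι pa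
/-- The second involution. -/
abbrev t : G := D.ι pb
/-- The element of order three. -/
abbrev d : G := D.ι pd
/-- The element of order four. -/
abbrev e : G := D.ι pe

theorem z_sq : D.z * D.z = 1 := by rw [← map_mul, perm_facts.1, map_one]
theorem t_sq : D.t * D.t = 1 := by rw [← map_mul, perm_facts.2.1, map_one]
theorem t_z : D.t * D.z = D.z * D.t := by rw [← map_mul, perm_facts.2.2.1, map_mul]
theorem d_z : D.d * D.z * D.d⁻¹ = D.t := by rw [← map_inv, ← map_mul, ← map_mul, perm_facts.2.2.2.1]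
theorem d_t : D.d * D.t * D.d⁻¹ = D.z * D.t := by
  rw [← map_inv, ← map_mul, ← map_mul, perm_facts.2.2.2.2.1, map_mul]
theorem d_zt : D.d * (D.z * D.t) * D.d⁻¹ = D.z := by
  rw [← map_mul, ← map_inv, ← map_mul, ← map_mul, perm_facts.2.2.2.2.2.1]
theorem e_sq : D.e * D.e = D.z := by rw [← map_mul, perm_facts.2.2.2.2.2.2.1]
theorem e_t : D.e * D.t * D.e⁻¹ = D.z * D.t := by
  rw [← map_inv, ← map_mul, ← map_mul, perm_facts.2.2.2.2.2.2.2.1, map_mul]
theorem e_z : D.e * D.z = D.z * D.e := by rw [← D.e_sq, mul_assoc]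
theorem z_ne : D.z ≠ 1 := fun h => absurd (D.inj (h.trans (map_one _).symm)) (by decide +kernel)
theorem t_ne : D.t ≠ 1 := fun h => absurd (D.inj (h.trans (map_one _).symm)) (by decide +kernel)
theorem t_ne_z : D.t ≠ D.z := fun h => absurd (D.inj h) (by decide +kernel)
theorem zt_ne_z : D.z * D.t ≠ D.z := fun h => D.t_ne (mul_eq_left.1 h)
theorem zt_ne_t : D.z * D.t ≠ D.t := fun h => D.z_ne (mul_eq_right.1 h)

theorem order_z : orderOf D.z = 2 := orderOf_eq_prime (by rw [pow_two, z_sq]) D.z_ne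
theorem order_t : orderOf D.t = 2 := orderOf_eq_prime (by rw [pow_two, t_sq]) D.t_ne

/-- Membership in the four-group. -/
theorem four_cases {x : G} (h : x = 1 ∨ x = D.z ∨ x = D.t ∨ x = D.z * D.t) : ∃ k, InV k ∧ D.ι k = x := by
  rcases h with rfl | rfl | rfl | rfl
  exacts [⟨1, Or.inl rfl, map_one _⟩, ⟨pa, Or.inr (Or.inl rfl), rfl⟩, ⟨pb, Or.inr (Or.inr (Or.inl rfl)), rfl⟩,
    ⟨pa * pb, Or.inr (Or.inr (Or.inr rfl)), map_mul _ _ _⟩]

theorem of_inV {k : Equiv.Perm (Fin 4)} (h : InV k) :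
    D.ι k = 1 ∨ D.ι k = D.z ∨ D.ι k = D.t ∨ D.ι k = D.z * D.t := by
  rcases h with rfl | rfl | rfl | rfl
  exacts [Or.inl (map_one _), Or.inr (Or.inl rfl), Or.inr (Or.inr (Or.inl rfl)),
    Or.inr (Or.inr (Or.inr (map_mul _ _ _)))]

/-- An element mapping the two generators into the four-group lies in the subgroup. -/
theorem mem_range_of {x : G} (hz : x * D.z * x⁻¹ = 1 ∨ x * D.z * x⁻¹ = D.z ∨ x * D.z * x⁻¹ = D.t ∨
      x * D.z * x⁻¹ = D.z * D.t)
    (ht : x * D.t * x⁻¹ = 1 ∨ x * D.t * x⁻¹ = D.z ∨ x * D.t * x⁻¹ = D.t ∨ x * D.t * x⁻¹ = D.z * D.t) :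
    x ∈ D.ι.range := by
  obtain ⟨a, ha, ha'⟩ := D.four_cases hz
  obtain ⟨b, hb, hb'⟩ := D.four_cases ht
  refine D.nv x fun k hk => ?_
  rcases hk with rfl | rfl | rfl | rfl
  · exact ⟨1, Or.inl rfl, by simp⟩
  · exact ⟨a, ha, ha'.symm⟩
  · exact ⟨b, hb, hb'.symm⟩
  · refine ⟨a * b, (by decide +kernel : ∀ a b : Equiv.Perm (Fin 4), InV a → InV b → InV (a * b)) a b ha hb, ?_⟩
    rw [map_mul, map_mul, ha', hb']
    group

/-- The four-group is self-centralising. -/
theorem cent_four {x : G} (hz : x * D.z = D.z * x) (ht : x * D.t = D.t * x) :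
    x = 1 ∨ x = D.z ∨ x = D.t ∨ x = D.z * D.t := by
  obtain ⟨k, rfl⟩ := D.mem_range_of (Or.inr (Or.inl (mul_inv_eq_iff_eq_mul.2 hz)))
    (Or.inr (Or.inr (Or.inl (mul_inv_eq_iff_eq_mul.2 ht))))
  have h1 : k * pa = pa * k := D.inj (by rw [map_mul, map_mul]; exact hz)
  have h2 : k * pb = pb * k := D.inj (by rw [map_mul, map_mul]; exact ht)
  exact D.of_inV ((by decide +kernel : ∀ k : Equiv.Perm (Fin 4), k * pa = pa * k → k * pb = pb * k → InV k) k h1 h2)

/-- The Sylow subgroup centralising the first involution. -/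
def P : Subgroup G := (centralizer ({pa} : Set (Equiv.Perm (Fin 4)))).map D.ι

theorem P_le : D.P ≤ D.ι.range := map_le_range _ _

theorem mem_P {k : Equiv.Perm (Fin 4)} : D.ι k ∈ D.P ↔ k * pa = pa * k := by
  rw [P, mem_map_iff_mem D.inj, mem_centralizer_singleton_iff]

theorem card_P : Nat.card D.P = 8 := by
  rw [P, ← Nat.card_congr (equivMapOfInjective _ D.ι D.inj).toEquiv,
    Nat.card_congr (Equiv.subtypeEquivRight (q := fun k => k * pa = pa * k)
      fun k => mem_centralizer_singleton_iff), Nat.card_eq_fintype_card, Fintype.card_subtype]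
  decide +kernel

theorem four_mem_P {k : Equiv.Perm (Fin 4)} (h : InV k) : D.ι k ∈ D.P :=
  D.mem_P.2 ((by decide +kernel : ∀ k : Equiv.Perm (Fin 4), InV k → k * pa = pa * k) k h)

theorem z_mem_P : D.z ∈ D.P := D.four_mem_P (Or.inr (Or.inl rfl))
theorem t_mem_P : D.t ∈ D.P := D.four_mem_P (Or.inr (Or.inr (Or.inl rfl)))
theorem e_mem_P : D.e ∈ D.P := D.mem_P.2 (by decide +kernel)
theorem P_isPGroup : IsPGroup 2 D.P := IsPGroup.of_card (n := 3) (by rw [D.card_P]; rfl)

variable [Finite G]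

theorem card_range : Nat.card D.ι.range = 24 := by
  rw [← Nat.card_congr (MonoidHom.ofInjective D.inj).toEquiv, Nat.card_perm, Nat.card_fin]; rfl

/-- A two-group above `P` meets the subgroup in `P`. -/
theorem inf_range {T : Subgroup G} (hT : IsPGroup 2 T) (hP : D.P ≤ T) {x : G} (hx : x ∈ T)
    (hxA : x ∈ D.ι.range) : x ∈ D.P := by
  haveI : Fact (Nat.Prime 2) := ⟨Nat.prime_two⟩
  have hle : D.P ≤ T ⊓ D.ι.range := le_inf hP D.P_le
  obtain ⟨k, hk⟩ := (hT.to_le (inf_le_left : T ⊓ D.ι.range ≤ T)).exists_card_eq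
  have hd : 2 ^ k ∣ 24 := by rw [← hk, ← D.card_range]; exact card_dvd_of_le inf_le_right
  have h := Subgroup.eq_of_le_of_card_ge hle (by
    rw [hk, D.card_P]
    by_contra hlt
    exact absurd ((pow_dvd_pow 2 (show 4 ≤ k by
      by_contra h4; interval_cases k <;> simp at hlt)).trans hd) (by norm_num))
  rw [h]
  exact ⟨hx, hxA⟩

/-- In a two-group above `P` the second involution has centraliser the four-group. -/
theorem cent_t {T : Subgroup G} (hT : IsPGroup 2 T) (hP : D.P ≤ T) {x : G} (hx : x ∈ T) (hc : x * D.t = D.t * x) :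
    x = 1 ∨ x = D.z ∨ x = D.t ∨ x = D.z * D.t := by
  haveI : Fact (Nat.Prime 2) := ⟨Nat.prime_two⟩
  set V : Subgroup G := D.P ⊓ centralizer ({D.t} : Set G)
  set C : Subgroup G := T ⊓ centralizer ({D.t} : Set G)
  have hVC : V ≤ C := inf_le_inf_right _ hP
  have hV : ∀ y ∈ V, y = 1 ∨ y = D.z ∨ y = D.t ∨ y = D.z * D.t := by
    rintro y ⟨hy1, hy2⟩
    obtain ⟨k, rfl⟩ := D.P_le hy1
    refine D.cent_four ?_ (mem_centralizer_singleton_iff.1 hy2)
    rw [← map_mul, D.mem_P.1 hy1, map_mul]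
  have hzV : D.z ∈ V := ⟨D.z_mem_P, mem_centralizer_singleton_iff.2 D.t_z.symm⟩
  have htV : D.t ∈ V := ⟨D.t_mem_P, mem_centralizer_singleton_iff.2 rfl⟩
  have heq : V.subgroupOf C = ⊤ := by
    by_contra hne
    haveI := (hT.to_le (inf_le_left : C ≤ T)).isNilpotent
    have hlt := Group.normalizerCondition_of_isNilpotent (V.subgroupOf C) (lt_top_iff_ne_top.2 hne)
    obtain ⟨n, hn, hnV⟩ := SetLike.exists_of_lt hlt
    refine hnV (mem_subgroupOf.2 ⟨?_, n.2.2⟩)
    have hmap : ∀ y ∈ V, (n : G) * y * (n : G)⁻¹ = 1 ∨ (n : G) * y * (n : G)⁻¹ = D.z ∨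
        (n : G) * y * (n : G)⁻¹ = D.t ∨ (n : G) * y * (n : G)⁻¹ = D.z * D.t := fun y hy =>
      hV _ (mem_subgroupOf.1 ((mem_normalizer_iff.1 hn ⟨y, hVC hy⟩).1 (mem_subgroupOf.2 hy)))
    exact D.inf_range hT hP n.2.1 (D.mem_range_of (hmap _ hzV) (hmap _ htV))
  exact hV x (mem_subgroupOf.1 (heq ▸ mem_top (⟨x, hx, mem_centralizer_singleton_iff.2 hc⟩ : C)))

/-- The first involution is central in a two-group above `P`. -/
theorem z_central {T : Subgroup G} (hT : IsPGroup 2 T) (hP : D.P ≤ T) {x : G} (hx : x ∈ T) :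
    x * D.z = D.z * x := by
  haveI : Fact (Nat.Prime 2) := ⟨Nat.prime_two⟩
  haveI : Nontrivial T := ⟨⟨⟨D.z, hP D.z_mem_P⟩, 1, fun h => D.z_ne (congrArg Subtype.val h)⟩⟩
  haveI := hT.center_nontrivial
  obtain ⟨⟨y, hy⟩, hy1⟩ := exists_ne (1 : center T)
  have hc : ∀ w ∈ T, w * (y : G) = y * w := fun w hw =>
    congrArg Subtype.val (mem_center_iff.1 hy ⟨w, hw⟩)
  have hy4 := D.cent_t hT hP y.2 (hc _ (hP D.t_mem_P)).symm
  have hey := hc _ (hP D.e_mem_P)
  have hyz : (y : G) = D.z := by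
    rcases hy4 with h | h | h | h
    · exact absurd (Subtype.ext (Subtype.ext h)) hy1
    · exact h
    · rw [h] at hey
      exact absurd (mul_inv_eq_iff_eq_mul.2 hey) (by rw [D.e_t]; exact D.zt_ne_t)
    · exfalso
      rw [h] at hey
      have h2 : D.e * (D.z * D.t) * D.e⁻¹ = D.t := by
        rw [show D.e * (D.z * D.t) * D.e⁻¹ = D.e * D.z * D.e⁻¹ * (D.e * D.t * D.e⁻¹) by group, D.e_t, D.e_z,
          mul_inv_cancel_right, ← mul_assoc, D.z_sq, one_mul]
      exact D.zt_ne_t ((mul_inv_eq_iff_eq_mul.2 hey).symm.trans h2)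
  rw [← hyz]
  exact hc x hx

/-- A two-group of order at least sixteen above `P` is dihedral or quasi-dihedral. -/
theorem dih_or_semi {T : Subgroup G} (hT : IsPGroup 2 T) (hP : D.P ≤ T) (h : 4 < Nat.card T) :
    (∃ n : ℕ, Nonempty (T ≃* DihedralGroup n)) ∨ Cfsg.IsQuasiDihedral T := by
  refine dihedral_or_semi T hT (hP D.t_mem_P) D.order_t h ?_
  have e : (T ⊓ centralizer ({D.t} : Set G) : Subgroup G) = D.P ⊓ centralizer ({D.t} : Set G) := by
    refine le_antisymm (fun x hx => ⟨?_, hx.2⟩) (inf_le_inf_right _ hP)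
    obtain ⟨k, hk, rfl⟩ := D.four_cases (D.cent_t hT hP hx.1 (mem_centralizer_singleton_iff.1 hx.2))
    exact D.four_mem_P hk
  rw [e]
  have : ∀ x : G, x ∈ D.P ⊓ centralizer ({D.t} : Set G) ↔ x ∈ (centralizer ({pa, pb} : Set _)).map D.ι := by
    intro x
    constructor
    · rintro ⟨⟨k, hk, rfl⟩, hx⟩
      refine ⟨k, mem_centralizer_iff.2 ?_, rfl⟩
      rintro g (rfl | rfl)
      · exact (mem_centralizer_singleton_iff.1 hk).symm
      · exact D.inj (by rw [map_mul, map_mul]; exact (mem_centralizer_singleton_iff.1 hx).symm)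
    · rintro ⟨k, hk, rfl⟩
      exact ⟨D.mem_P.2 (mem_centralizer_iff.1 hk pa (Or.inl rfl)).symm, mem_centralizer_singleton_iff.2 (by
        rw [← map_mul, ← map_mul, (mem_centralizer_iff.1 hk pb (Or.inr rfl))])⟩
  rw [SetLike.ext this, ← Nat.card_congr (equivMapOfInjective _ D.ι D.inj).toEquiv,
    Nat.card_congr (Equiv.subtypeEquivRight (q := fun k => k * pa = pa * k ∧ k * pb = pb * k)
      fun k => by rw [mem_centralizer_iff]; simp [eq_comm]), Nat.card_eq_fintype_card, Fintype.card_subtype]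
  decide +kernel

end Sym4

end Cfsg.Lib.SubdegThree
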