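import Cfsg.Agent.SubdegThree.Basic
import Cfsg.Agent.SubdegThree.SymFour

/-!
The stabiliser `S₄ × C₂`: coordinates.
-/

set_option autoImplicit false
set_option linter.style.haveILetI false
set_option linter.unusedSectionVars false

namespace Cfsg.Lib.SubdegThree

open Subgroup

/-- The model of the stabiliser. -/
abbrev K2 : Type := Equiv.Perm (Fin 4) × Multiplicative (ZMod 2)

/-- The generator of the second factor. -/
abbrev c2 : Multiplicative (ZMod 2) := Multiplicative.ofAdd 1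

/-- The sign in the second factor. -/
def sgnBit (k : Equiv.Perm (Fin 4)) : Multiplicative (ZMod 2) := if Equiv.Perm.sign k = 1 then 1 else c2

theorem sgnBit_mul : ∀ a b, sgnBit (a * b) = sgnBit a * sgnBit b := by decide +kernel

/-- The automorphism exchanging the two complements of the second factor. -/
def twist : K2 →* K2 :=
  MonoidHom.mk' (fun p => (p.1, sgnBit p.1 * p.2)) fun p q => by
    refine Prod.ext rfl ?_
    show sgnBit (p.1 * q.1) * (p.2 * q.2) = sgnBit p.1 * p.2 * (sgnBit q.1 * q.2)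
    rw [sgnBit_mul, mul_mul_mul_comm]

theorem twist_twist : ∀ p, twist (twist p) = p := by decide +kernel

theorem c2_cases : ∀ a : Multiplicative (ZMod 2), a = 1 ∨ a = c2 := by decide

universe u

/-- The stabiliser `S₄ × C₂` with the element normalising its Sylow subgroup. -/
structure TimesSit {G : Type u} [Group G] (A : Subgroup G) where
  j : K2 →* G
  jinj : Function.Injective j
  hjA : j.range = A
  prim : Prim A
  g : G
  hg : g ∉ A
  hgP : ∀ x, g * x * g⁻¹ ∈ (centralizer ({(pa, 1)} : Set K2)).map j ↔ x ∈ (centralizer ({(pa, 1)} : Set K2)).map j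
  hgz : g * j (pa, 1) * g⁻¹ = j (pa, 1)
  hgw : g * j (1, c2) * g⁻¹ = j (pa, 1) * j (1, c2)
  hgt : g * j (pb, 1) * g⁻¹ = j (pe * pb, 1) ∨ g * j (pb, 1) * g⁻¹ = j (pa * (pe * pb), 1)

variable {G : Type u} [Group G] [Finite G] {A : Subgroup G}

theorem mem_map_center {j : K2 →* G} {x : G} :
    x ∈ (centralizer ({(pa, 1)} : Set K2)).map j ↔ ∃ p : K2, p.1 * pa = pa * p.1 ∧ j p = x := by
  constructor
  · rintro ⟨p, hp, rfl⟩
    exact ⟨p, congrArg Prod.fst (mem_centralizer_singleton_iff.1 hp), rfl⟩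
  · rintro ⟨p, hp, rfl⟩
    exact ⟨p, mem_centralizer_singleton_iff.2 (Prod.ext hp (mul_comm _ _)), rfl⟩

theorem card_center_K2 : Nat.card (centralizer ({(pa, 1)} : Set K2)) = 16 := by
  rw [Nat.card_congr (Equiv.subtypeEquivRight (q := fun p : K2 => p * (pa, 1) = (pa, 1) * p)
    fun p => mem_centralizer_singleton_iff), Nat.card_eq_fintype_card, Fintype.card_subtype]
  decide +kernel

/-- The normaliser of the four-group is the stabiliser. -/
theorem Prim.normalizer_four (h : Prim A) {j : K2 →* G} (hinj : Function.Injective j) (hA : j.range = A) {x : G}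
    (hz : ∃ k a, InV k ∧ x * j (pa, 1) * x⁻¹ = j (k, a)) (ht : ∃ k a, InV k ∧ x * j (pb, 1) * x⁻¹ = j (k, a))
    (hw : ∃ k a, InV k ∧ x * j (1, c2) * x⁻¹ = j (k, a)) : x ∈ A := by
  set E : Subgroup G := (closure ({(pa, 1), (pb, 1), (1, c2)} : Set K2)).map j with hE
  have hEmem : ∀ k a, InV k → j (k, a) ∈ E := by
    intro k a hk
    refine mem_map_of_mem _ ?_
    rw [show ((k, a) : K2) = (k, 1) * (1, a) from Prod.ext (mul_one k).symm (one_mul a).symm]
    refine mul_mem ?_ ?_
    · rcases hk with rfl | rfl | rfl | rfl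
      · exact one_mem _
      · exact subset_closure (Or.inl rfl)
      · exact subset_closure (Or.inr (Or.inl rfl))
      · rw [show ((pa * pb, 1) : K2) = (pa, 1) * (pb, 1) from rfl]
        exact mul_mem (subset_closure (Or.inl rfl)) (subset_closure (Or.inr (Or.inl rfl)))
    · rcases c2_cases a with rfl | rfl
      · exact one_mem _
      · exact subset_closure (Or.inr (Or.inr rfl))
  have hEA : E ≤ A := (map_le_range _ _).trans hA.le
  have hEne : E ≠ ⊥ := fun h0 => by
    have h1 := hEmem pa 1 (Or.inr (Or.inl rfl))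
    rw [h0, mem_bot, ← map_one j] at h1
    exact absurd (hinj h1) (by decide +kernel)
  have hEnorm : A ≤ normalizer (E : Set G) := by
    rw [← hA]
    rintro _ ⟨a, rfl⟩
    refine mem_normalizer_iff_map_conj_eq.2 (Subgroup.eq_of_le_of_card_ge ?_
      (Nat.card_congr (E.equivMapOfInjective _ (MulAut.conj (j a)).injective).toEquiv).le)
    rw [hE, map_map, MonoidHom.map_closure, closure_le]
    rintro _ ⟨k, hk, rfl⟩
    show j a * j k * (j a)⁻¹ ∈ E
    rw [← map_inv, ← map_mul, ← map_mul]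
    have hkV : InV k.1 := by
      rcases hk with rfl | rfl | rfl
      exacts [Or.inr (Or.inl rfl), Or.inr (Or.inr (Or.inl rfl)), Or.inl rfl]
    exact hEmem _ _ ((by decide +kernel : ∀ a k : Equiv.Perm (Fin 4), InV k → InV (a * k * a⁻¹)) a.1 k.1 hkV)
  rw [← h.normalizer_eq hEne hEA hEnorm]
  refine mem_normalizer_iff_map_conj_eq.2 (Subgroup.eq_of_le_of_card_ge ?_
    (Nat.card_congr (E.equivMapOfInjective _ (MulAut.conj x).injective).toEquiv).le)
  rw [hE, map_map, MonoidHom.map_closure, closure_le]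
  rintro _ ⟨k, hk, rfl⟩
  rcases hk with rfl | rfl | rfl
  · obtain ⟨k, a, hk, e⟩ := hz
    show x * _ * x⁻¹ ∈ E
    rw [e]; exact hEmem k a hk
  · obtain ⟨k, a, hk, e⟩ := ht
    show x * _ * x⁻¹ ∈ E
    rw [e]; exact hEmem k a hk
  · obtain ⟨k, a, hk, e⟩ := hw
    show x * _ * x⁻¹ ∈ E
    rw [e]; exact hEmem k a hk

/-- The stabiliser `S₄ × C₂` has the standard coordinates. -/
theorem Prim.exists_timesSit (h : Prim A) (e : A ≃* K2) {P : Subgroup G} (hPA : P ≤ A) (hrel : P.relIndex A = 3)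
    (hP : IsPGroup 2 P) {g : G} (hg : g ∉ A) (hgP : ∀ x, g * x * g⁻¹ ∈ P ↔ x ∈ P) : Nonempty (TimesSit A) := by
  classical
  set j : K2 →* G := A.subtype.comp e.symm.toMonoidHom with hj
  have hinj : Function.Injective j := A.subtype_injective.comp e.symm.injective
  have hrange : j.range = A := by
    rw [hj, MonoidHom.range_comp, MonoidHom.range_eq_top.2 e.symm.surjective, ← MonoidHom.range_eq_map,
      range_subtype]
  set P2 : Subgroup G := (centralizer ({(pa, 1)} : Set K2)).map j with hP2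
  have hP2A : P2 ≤ A := (map_le_range _ _).trans hrange.le
  have hcP2 : Nat.card P2 = 16 := by rw [hP2, card_map_of_injective hinj, card_center_K2]
  have hP2p : IsPGroup 2 P2 := IsPGroup.of_card (n := 4) (by rw [hcP2]; rfl)
  -- move the normalising element to the standard Sylow subgroup
  obtain ⟨g₁, hg₁, hgP₁⟩ : ∃ g₁, g₁ ∉ A ∧ ∀ x, g₁ * x * g₁⁻¹ ∈ P2 ↔ x ∈ P2 := by
    have hcA : Nat.card A = 48 := by
      rw [Nat.card_congr e.toEquiv, Nat.card_prod, Nat.card_perm, Nat.card_fin,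
        Nat.card_congr Multiplicative.toAdd, Nat.card_zmod]; rfl
    have hcP : Nat.card P = 16 := by
      have h1 := Subgroup.relIndex_mul_relIndex ⊥ _ _ (bot_le (a := P)) hPA
      simp only [Subgroup.relIndex_bot_left] at h1
      rw [hrel, hcA] at h1
      omega
    have hnd : ∀ {Q : Subgroup G}, Q ≤ A → Nat.card Q = 16 → ¬ 2 ∣ (Q.subgroupOf A).index := by
      intro Q hQ hc h2
      have h1 := (Q.subgroupOf A).card_mul_index
      rw [Nat.card_congr (subgroupOfEquivOfLe hQ).toEquiv, hc, hcA] at h1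
      omega
    let S₁ : Sylow 2 A := (hP.of_equiv (subgroupOfEquivOfLe hPA).symm).toSylow (hnd hPA hcP)
    let S₂ : Sylow 2 A := (hP2p.of_equiv (subgroupOfEquivOfLe hP2A).symm).toSylow (hnd hP2A hcP2)
    obtain ⟨a, ha⟩ := MulAction.exists_smul_eq A S₁ S₂
    have hiff : ∀ x, (a : G) * x * (a : G)⁻¹ ∈ P2 ↔ x ∈ P := by
      intro x
      constructor
      · intro hx
        have hxA : (a : G) * x * (a : G)⁻¹ ∈ A := hP2A hx
        have h1 : (⟨_, hxA⟩ : A) ∈ (S₂ : Subgroup A) := hx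
        rw [← ha, Sylow.coe_subgroup_smul] at h1
        obtain ⟨y, hy, hya⟩ := h1
        have h2 : (a : G) * (y : G) * (a : G)⁻¹ = (a : G) * x * (a : G)⁻¹ := congrArg Subtype.val hya
        rw [← mul_left_cancel (mul_right_cancel h2)]
        exact hy
      · intro hx
        have h1 : a * ⟨x, hPA hx⟩ * a⁻¹ ∈ (a • S₁ : Sylow 2 A) := by
          rw [← SetLike.mem_coe, Sylow.coe_smul]
          exact ⟨⟨x, hPA hx⟩, hx, rfl⟩
        rw [ha] at h1
        exact h1
    refine ⟨(a : G) * g * (a : G)⁻¹, fun hc => hg ?_, fun x => ?_⟩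
    · have := A.mul_mem (A.mul_mem (A.inv_mem a.2) hc) a.2
      simpa [mul_assoc] using this
    · rw [show (a : G) * g * (a : G)⁻¹ * x * ((a : G) * g * (a : G)⁻¹)⁻¹ =
        (a : G) * (g * ((a : G)⁻¹ * x * (a : G)) * g⁻¹) * (a : G)⁻¹ by group, hiff, hgP, ← hiff,
        show (a : G) * ((a : G)⁻¹ * x * (a : G)) * (a : G)⁻¹ = x by group]
  have himg : ∀ p : K2, p.1 * pa = pa * p.1 → ∃ q : K2, q.1 * pa = pa * q.1 ∧ j q = g₁ * j p * g₁⁻¹ :=
    fun p hp => mem_map_center.1 ((hgP₁ _).2 (mem_map_center.2 ⟨p, hp, rfl⟩))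
  have hz : g₁ * j (pa, 1) * g₁⁻¹ = j (pa, 1) := by
    obtain ⟨q, hq, hqe⟩ := himg (pe, 1) (by decide +kernel)
    have hpe2 : ((pe, 1) : K2) * (pe, 1) = (pa, 1) := by decide +kernel
    have h2 : j (q * q) = g₁ * j (pa, 1) * g₁⁻¹ := by
      rw [map_mul, hqe, ← hpe2, map_mul]; group
    rcases (by decide +kernel : ∀ q : K2, q.1 * pa = pa * q.1 → q * q = 1 ∨ q * q = (pa, 1)) q hq with e1 | e1
    · rw [e1, map_one] at h2
      exact absurd (hinj ((conj_eq_one_iff.1 h2.symm).trans (map_one j).symm)) (by decide +kernel)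
    · rw [← h2, e1]
  have hw : g₁ * j (1, c2) * g₁⁻¹ = j (pa, 1) * j (1, c2) := by
    obtain ⟨q, hq, hqe⟩ := himg (1, c2) (by decide +kernel)
    have hcen : ∀ p : K2, p.1 * pa = pa * p.1 → q * p = p * q := by
      intro p hp
      obtain ⟨r, hr, hre⟩ := mem_map_center.1 ((hgP₁ (g₁⁻¹ * j p * g₁)).1 (by
        rw [show g₁ * (g₁⁻¹ * j p * g₁) * g₁⁻¹ = j p by group]; exact mem_map_center.2 ⟨p, hp, rfl⟩))
      refine hinj ?_
      rw [map_mul, map_mul, hqe, show j p = g₁ * j r * g₁⁻¹ by rw [hre]; group]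
      have hc : ((1, c2) : K2) * r = r * (1, c2) := Prod.ext (by simp) (mul_comm _ _)
      calc g₁ * j (1, c2) * g₁⁻¹ * (g₁ * j r * g₁⁻¹) = g₁ * (j (1, c2) * j r) * g₁⁻¹ := by group
        _ = g₁ * (j r * j (1, c2)) * g₁⁻¹ := by rw [← map_mul, hc, map_mul]
        _ = _ := by group
    rcases (by decide +kernel : ∀ q : K2, q * (pe, 1) = (pe, 1) * q → q * (pb, 1) = (pb, 1) * q →
        q = 1 ∨ q = (pa, 1) ∨ q = (1, c2) ∨ q = (pa, 1) * (1, c2)) q (hcen _ (by decide +kernel))
        (hcen _ (by decide +kernel)) with rfl | rfl | rfl | rfl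
    · rw [map_one] at hqe
      exact absurd (hinj ((conj_eq_one_iff.1 hqe.symm).trans (map_one j).symm)) (by decide +kernel)
    · rw [← hz] at hqe
      exact absurd (hinj (mul_left_cancel (mul_right_cancel hqe))) (by decide +kernel)
    · exfalso
      refine hg₁ ?_
      rw [← h.centralizer_eq (x := j (1, c2)) (hrange ▸ ⟨_, rfl⟩)
        (fun e0 => absurd (hinj (e0.trans (map_one j).symm)) (by decide +kernel)) (fun y hy => by
          obtain ⟨p, rfl⟩ := (hrange ▸ hy : y ∈ j.range)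
          rw [← map_mul, ← map_mul, show p * (1, c2) = (1, c2) * p from Prod.ext (by simp) (mul_comm _ _)])]
      exact mem_centralizer_singleton_iff.2 (mul_inv_eq_iff_eq_mul.1 hqe.symm)
    · rw [← hqe, map_mul]
  obtain ⟨q, hq, hqe⟩ := himg (pb, 1) (by decide +kernel)
  have hqV : ¬ InV q.1 := fun hV => hg₁ (h.normalizer_four hinj hrange
    ⟨pa, 1, Or.inr (Or.inl rfl), hz⟩ ⟨q.1, q.2, hV, hqe.symm⟩
    ⟨pa, c2, Or.inr (Or.inl rfl), by rw [hw, ← map_mul, Prod.mk_mul_mk, mul_one, one_mul]⟩)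
  have hq2 : q * q = 1 := hinj (by
    have hpb2 : ((pb, 1) : K2) * (pb, 1) = 1 := by decide +kernel
    rw [map_mul, hqe, map_one,
      show g₁ * j (pb, 1) * g₁⁻¹ * (g₁ * j (pb, 1) * g₁⁻¹) = g₁ * (j (pb, 1) * j (pb, 1)) * g₁⁻¹ by group,
      ← map_mul, hpb2, map_one, mul_one, mul_inv_cancel])
  have hcase := (by decide +kernel : ∀ q : K2, q.1 * pa = pa * q.1 → q * q = 1 → ¬ InV q.1 →
    q = (pe * pb, 1) ∨ q = (pa * (pe * pb), 1) ∨ q = (pe * pb, c2) ∨ q = (pa * (pe * pb), c2)) q hq hq2 hqV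
  rcases hcase with rfl | rfl | rfl | rfl
  · exact ⟨⟨j, hinj, hrange, h, g₁, hg₁, hgP₁, hz, hw, Or.inl hqe.symm⟩⟩
  · exact ⟨⟨j, hinj, hrange, h, g₁, hg₁, hgP₁, hz, hw, Or.inr hqe.symm⟩⟩
  all_goals
    set j' := j.comp twist with hj'
    have hbij : Function.Bijective twist := Function.Involutive.bijective twist_twist
    have hinj' : Function.Injective j' := hinj.comp hbij.1
    have hrange' : j'.range = A := by
      rw [hj', MonoidHom.range_comp, MonoidHom.range_eq_top.2 hbij.2, ← MonoidHom.range_eq_map, hrange]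
    have hmap : (centralizer ({(pa, 1)} : Set K2)).map j' = P2 := by
      ext x
      rw [mem_map_center, hP2, mem_map_center]
      constructor
      · rintro ⟨p, hp, rfl⟩; exact ⟨twist p, hp, rfl⟩
      · rintro ⟨p, hp, rfl⟩; exact ⟨twist p, hp, by rw [hj', MonoidHom.comp_apply, twist_twist]⟩
    have ez : j' (pa, 1) = j (pa, 1) := congrArg j (by decide +kernel)
    have ew : j' (1, c2) = j (1, c2) := congrArg j (by decide +kernel)
    have et : j' (pb, 1) = j (pb, 1) := congrArg j (by decide +kernel)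
    refine ⟨⟨j', hinj', hrange', h, g₁, hg₁, by rw [hmap]; exact hgP₁, by rw [ez]; exact hz,
      by rw [ez, ew]; exact hw, ?_⟩⟩
    first
      | exact Or.inl (by rw [et, ← hqe]; exact congrArg j (by decide +kernel))
      | exact Or.inr (by rw [et, ← hqe]; exact congrArg j (by decide +kernel))

end Cfsg.Lib.SubdegThree
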