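import Cfsg.Agent.SubdegThree.TimesSylow
import Cfsg.Agent.SubdegThree.SymCase

/-!
The stabiliser `S₄ × C₂`: the subgroup of index two is simple and has the stabiliser `S₄`.
-/

set_option autoImplicit false
set_option linter.style.haveILetI false
set_option linter.unusedSectionVars false

namespace Cfsg.Lib.SubdegThree

open Subgroup

universe u

variable {G : Type u} [Group G] [Finite G] {A : Subgroup G}

/-- The subgroup of index two with its data. -/
structure TimesSub (D : TimesSit A) where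
  N : Subgroup G
  normal : N.Normal
  index : N.index = 2
  hw : D.w ∉ N
  simple : IsSimpleGroup N
  cent : centralizer (N : Set G) = ⊥
  T : Sym4 N
  hT : ∀ k, (T.ι k : G) = D.ι k
  hAN : ∀ x : N, (x : G) ∈ A → x ∈ T.ι.range
  S : Sylow 2 N
  hPS : T.P ≤ (S : Subgroup N)
  hS : Nat.card (S : Subgroup N) = 16

namespace TimesSit

variable (D : TimesSit A)

theorem cent_zpowers_w : centralizer ((zpowers D.w : Subgroup G) : Set G) ≤ A := fun _ hx =>
  D.mem_A_iff.2 (mem_centralizer_iff.1 hx D.w (mem_zpowers _)).symm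

theorem zpowers_w_p : IsPGroup 2 (zpowers D.w) :=
  IsPGroup.of_card (n := 1) (by
    rw [Nat.card_zpowers, orderOf_eq_prime (by rw [pow_two, D.w_sq]) D.w_ne, pow_one])

theorem exists_sub : Nonempty (TimesSub D) := by
  classical
  obtain ⟨N, hN, hN2, hwN, hAN⟩ := D.exists_index_two
  haveI := hN
  have hrN : D.ι.range ≤ N := fun x hx => (hAN.ge hx).2
  have hzN : D.ι pa ≠ 1 := fun e => absurd (D.ι_inj (e.trans (map_one D.ι).symm)) (by decide +kernel)
  have hNne : N ≠ ⊥ := fun e => hzN (mem_bot.1 (e ▸ hrN ⟨pa, rfl⟩))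
  obtain ⟨a, b, hparam⟩ := D.exists_param
  have hQ : zpowers D.w ≤ A := zpowers_le.2 (D.j_mem _)
  -- minimality
  have hmin : ∀ M : Subgroup G, M.Normal → M ≤ N → M ≠ ⊥ → M = N := by
    intro M hM hMN hMne
    haveI := hM
    have hne := D.prim.inf_ne_bot hQ D.zpowers_w_p D.cent_zpowers_w M hMne
    haveI : (M.comap D.ι).Normal := inferInstance
    obtain ⟨hza, htb⟩ := perm_four_normal (N := M.comap D.ι) (fun hb => hne ((Subgroup.eq_bot_iff_forall _).2
      fun x hx => by
        obtain ⟨k, rfl⟩ := hAN.le ⟨hx.2, hMN hx.1⟩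
        rw [show k = 1 from mem_bot.1 (hb ▸ (hx.1 : k ∈ M.comap D.ι)), map_one]))
    have hz : D.ι pa ∈ M := hza
    have ht : D.ι pb ∈ M := htb
    have he : D.ι pe ∈ M := by
      have h2 := hparam 0 1
      rw [pow_zero, one_mul, pow_one, sg, pow_zero, one_mul, pow_one] at h2
      have h3 : D.ι (pe ^ (1 + 2 * (a : ℕ)) * pb) ∈ M := h2 ▸ hM.conj_mem _ ht _
      rw [(by decide +kernel : ∀ a : Fin 2, pe = pa ^ (a : ℕ) * (pe ^ (1 + 2 * (a : ℕ)) * pb) * pb) a, map_mul,
        map_mul, map_pow]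
      exact mul_mem (mul_mem (pow_mem hz _) h3) ht
    have hd : D.ι pd ∈ M := by
      obtain ⟨c, c', hc⟩ := (by decide +kernel : ∃ a b : Equiv.Perm (Fin 4), pd = a * pe * a⁻¹ * (b * pe * b⁻¹))
      rw [hc, map_mul, map_mul, map_mul, map_mul, map_mul, map_inv, map_inv]
      exact mul_mem (hM.conj_mem _ he _) (hM.conj_mem _ he _)
    have hrM : D.ι.range ≤ M := by
      rintro _ ⟨k, rfl⟩
      obtain ⟨v, hv, i, l, rfl⟩ := (by decide +kernel : ∀ k : Equiv.Perm (Fin 4), ∃ v, InV v ∧ ∃ i : Fin 3,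
        ∃ l : Fin 2, k = v * pd ^ (i : ℕ) * pe ^ (l : ℕ)) k
      rw [map_mul, map_mul, map_pow, map_pow]
      refine mul_mem (mul_mem ?_ (pow_mem hd _)) (pow_mem he _)
      rcases hv with rfl | rfl | rfl | rfl
      · rw [map_one]; exact one_mem _
      · exact hz
      · exact ht
      · rw [map_mul]; exact mul_mem hz ht
    have hMA : ¬ M ≤ A := fun h => hMne (D.prim.core M h hM)
    have htop : A ⊔ M = ⊤ := D.prim.coatom.2 _ (lt_of_le_of_ne le_sup_left fun e => hMA (e ▸ le_sup_right))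
    refine le_antisymm hMN fun n hn => ?_
    obtain ⟨y, hy, m, hm, rfl⟩ := Subgroup.mem_sup_of_normal_right.1 (htop ▸ mem_top n : n ∈ A ⊔ M)
    refine mul_mem (hrM (hAN.le ⟨hy, ?_⟩)) hm
    simpa using mul_mem hn (inv_mem (hMN hm))
  have hgw : ∀ g, g ∉ N → g * D.w ∈ N := fun g hg =>
    (mul_mem_iff_of_index_two hN2).2 ⟨fun h => absurd h hg, fun h => absurd h hwN⟩
  -- simplicity
  have hsimple : IsSimpleGroup N := by
    haveI : Nontrivial N := (Subgroup.nontrivial_iff_ne_bot N).2 hNne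
    refine ⟨fun H hH => ?_⟩
    by_contra hH'
    push Not at hH'
    obtain ⟨hHb, hHt⟩ := hH'
    haveI := hH
    set K := H.map N.subtype with hK
    set K' := K.map (MulAut.conj D.w).toMonoidHom with hK'
    have hKN : K ≤ N := map_subtype_le _
    have hKc : ∀ n ∈ N, ∀ k ∈ K, n * k * n⁻¹ ∈ K := by
      rintro n hn _ ⟨k, hk, rfl⟩
      exact ⟨_, hH.conj_mem k hk ⟨n, hn⟩, rfl⟩
    have hwinv : D.w⁻¹ = D.w := inv_eq_of_mul_eq_one_right D.w_sq
    have hK'N : K' ≤ N := by
      rintro _ ⟨k, hk, rfl⟩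
      exact hN.conj_mem k (hKN hk) D.w
    have hsw : ∀ x ∈ K', D.w * x * D.w⁻¹ ∈ K := by
      rintro _ ⟨k, hk, rfl⟩
      show D.w * (D.w * k * D.w⁻¹) * D.w⁻¹ ∈ K
      rw [show D.w * (D.w * k * D.w⁻¹) * D.w⁻¹ = D.w * D.w * k * (D.w * D.w)⁻¹ by group, D.w_sq, one_mul, inv_one,
        mul_one]
      exact hk
    have hsw' : ∀ x ∈ K, D.w * x * D.w⁻¹ ∈ K' := fun x hx => ⟨x, hx, rfl⟩
    have hK'c : ∀ n ∈ N, ∀ k ∈ K', n * k * n⁻¹ ∈ K' := by
      rintro n hn _ ⟨k, hk, rfl⟩
      refine ⟨_, hKc _ (hN.conj_mem n hn D.w⁻¹) k hk, ?_⟩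
      show D.w * _ * D.w⁻¹ = n * (D.w * k * D.w⁻¹) * n⁻¹
      group
    have hout : ∀ g x : G, g * x * g⁻¹ = g * D.w * (D.w * x * D.w⁻¹) * (g * D.w)⁻¹ := fun g x => by
      rw [show g * D.w * (D.w * x * D.w⁻¹) * (g * D.w)⁻¹ = g * (D.w * D.w) * x * (g * (D.w * D.w))⁻¹ by group,
        D.w_sq, mul_one]
    haveI hI : (K ⊓ K').Normal := ⟨fun x hx g => by
      by_cases hg : g ∈ N
      · exact ⟨hKc g hg x hx.1, hK'c g hg x hx.2⟩
      · rw [hout g x]
        exact ⟨hKc _ (hgw g hg) _ (hsw x hx.2), hK'c _ (hgw g hg) _ (hsw' x hx.1)⟩⟩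
    by_cases hb : K ⊓ K' = ⊥
    swap
    · refine hHt (eq_top_iff.2 fun n _ => ?_)
      have := (hmin _ hI (inf_le_left.trans hKN) hb).ge n.2
      obtain ⟨m, hm, hmn⟩ := this.1
      exact Subtype.ext hmn ▸ hm
    have hcomm : ∀ x ∈ K, ∀ y ∈ K', Commute x y := by
      intro x hx y hy
      have h1 : x * y * x⁻¹ * y⁻¹ ∈ K ⊓ K' := by
        refine Subgroup.mem_inf.2 ⟨?_, mul_mem (hK'c x (hKN hx) y hy) (inv_mem hy)⟩
        rw [show x * y * x⁻¹ * y⁻¹ = x * (y * x⁻¹ * y⁻¹) by group]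
        exact mul_mem hx (hKc y (hK'N hy) _ (inv_mem hx))
      rw [hb, mem_bot] at h1
      exact commutatorElement_eq_one_iff_commute.1 h1
    let φ : K →* A :=
      MonoidHom.mk' (fun k => ⟨(k : G) * (D.w * (k : G) * D.w⁻¹), D.mem_A_iff.2 (by
          have hc := (hcomm _ k.2 _ (hsw' _ k.2)).eq
          symm
          calc D.w * ((k : G) * (D.w * (k : G) * D.w⁻¹))
              = D.w * (k : G) * D.w⁻¹ * (D.w * D.w * (k : G)) * D.w⁻¹ := by group
            _ = D.w * (k : G) * D.w⁻¹ * (k : G) * D.w := by rw [D.w_sq, one_mul, hwinv]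
            _ = _ := by rw [hc])⟩) fun x y => by
        refine Subtype.ext ?_
        show ((x * y : K) : G) * (D.w * ((x * y : K) : G) * D.w⁻¹) =
          (x : G) * (D.w * (x : G) * D.w⁻¹) * ((y : G) * (D.w * (y : G) * D.w⁻¹))
        rw [Subgroup.coe_mul]
        calc (x : G) * (y : G) * (D.w * ((x : G) * (y : G)) * D.w⁻¹)
            = (x : G) * ((y : G) * (D.w * (x : G) * D.w⁻¹)) * (D.w * (y : G) * D.w⁻¹) := by group
          _ = (x : G) * (D.w * (x : G) * D.w⁻¹ * (y : G)) * (D.w * (y : G) * D.w⁻¹) := by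
              rw [(hcomm _ y.2 _ (hsw' _ x.2)).eq]
          _ = _ := by group
    have hφ : Function.Injective φ := by
      refine (injective_iff_map_eq_one φ).2 fun k hk => Subtype.ext ?_
      have h1 : (k : G) * (D.w * (k : G) * D.w⁻¹) = 1 := congrArg Subtype.val hk
      have h2 : (k : G) ∈ K ⊓ K' := Subgroup.mem_inf.2 ⟨k.2, by
        rw [eq_inv_of_mul_eq_one_left h1]
        exact inv_mem (hsw' _ k.2)⟩
      rwa [hb, mem_bot] at h2
    haveI := D.prim.sol
    haveI hKs : Group.IsSolvable K := Group.isSolvable_of_isSolvable_injective (f := φ) hφ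
    haveI hK's : Group.IsSolvable K' := Group.isSolvable_of_surjective
      (f := (K.equivMapOfInjective _ (MulAut.conj D.w).injective).toMonoidHom) (MulEquiv.surjective _)
    haveI : Group.IsSolvable (K × K') := inferInstance
    set f := MonoidHom.noncommCoprod K.subtype K'.subtype (fun x y => hcomm _ x.2 _ y.2) with hf
    have hfr : f.range = K ⊔ K' := by
      refine le_antisymm ?_ (sup_le (fun k hk => ?_) fun k hk => ?_)
      · rintro _ ⟨⟨x, y⟩, rfl⟩
        exact mul_mem (mem_sup_left x.2) (mem_sup_right y.2)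
      · exact ⟨(⟨k, hk⟩, 1), mul_one k⟩
      · exact ⟨(1, ⟨k, hk⟩), one_mul k⟩
    haveI hMn : (K ⊔ K').Normal := ⟨fun x hx g => by
      have hle : (K ⊔ K').map (MulAut.conj g).toMonoidHom ≤ K ⊔ K' := by
        rw [Subgroup.map_sup]
        refine sup_le ?_ ?_
        · rintro _ ⟨k, hk, rfl⟩
          show g * k * g⁻¹ ∈ _
          by_cases hg : g ∈ N
          · exact mem_sup_left (hKc g hg k hk)
          · rw [hout g k]; exact mem_sup_right (hK'c _ (hgw g hg) _ (hsw' k hk))
        · rintro _ ⟨k, hk, rfl⟩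
          show g * k * g⁻¹ ∈ _
          by_cases hg : g ∈ N
          · exact mem_sup_right (hK'c g hg k hk)
          · rw [hout g k]; exact mem_sup_left (hKc _ (hgw g hg) _ (hsw k hk))
      exact hle ⟨x, hx, rfl⟩⟩
    have hs : Group.IsSolvable (K ⊔ K' : Subgroup G) := by
      rw [← hfr]
      exact Group.isSolvable_of_surjective (MonoidHom.rangeRestrict_surjective f)
    have h0 := D.prim.eq_bot_of_solvable (K ⊔ K') hs
    have hK0 : K = ⊥ := le_bot_iff.1 (h0 ▸ le_sup_left)
    exact hHb ((Subgroup.map_eq_bot_iff_of_injective _ N.subtype_injective).1 hK0)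
  -- trivial centraliser
  have hcent : centralizer (N : Set G) = ⊥ := by
    set C := centralizer (N : Set G) with hC
    haveI : C.Normal := ⟨fun x hx g => mem_centralizer_iff.2 fun n hn => by
      have h1 := mem_centralizer_iff.1 hx _ (hN.conj_mem n hn g⁻¹)
      calc n * (g * x * g⁻¹) = g * (g⁻¹ * n * g⁻¹⁻¹ * x) * g⁻¹ := by group
        _ = g * (x * (g⁻¹ * n * g⁻¹⁻¹)) * g⁻¹ := by rw [h1]
        _ = g * x * g⁻¹ * n := by group⟩
    by_contra hne
    have hne' := D.prim.inf_ne_bot hQ D.zpowers_w_p D.cent_zpowers_w C hne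
    refine hne' ((Subgroup.eq_bot_iff_forall _).2 fun x hx => ?_)
    obtain ⟨p, rfl⟩ := D.exists_j hx.2
    have hk : ∀ k, k * p.1 = p.1 * k := fun k => by
      have h := mem_centralizer_iff.1 hx.1 (D.ι k) (hrN ⟨k, rfl⟩)
      rw [ι_apply, ← map_mul, ← map_mul] at h
      exact congrArg Prod.fst (D.jinj h)
    have h1 : p.1 = 1 := (by decide +kernel : ∀ k : Equiv.Perm (Fin 4), pe * k = k * pe → pd * k = k * pd → k = 1)
      p.1 (hk _) (hk _)
    rcases D.j_cases p with e | e <;> rw [e, h1, map_one]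
    rw [one_mul]
    have hxw : D.j p = D.w := by rw [e, h1, map_one, one_mul]
    exfalso
    refine hNne (D.prim.core N (fun n hn => D.mem_A_iff.2 ?_) hN)
    rw [← hxw]
    exact mem_centralizer_iff.1 hx.1 n hn
  -- the four-group and its normaliser
  set V : Subgroup G := (closure ({pa, pb} : Set (Equiv.Perm (Fin 4)))).map D.ι with hV
  have hVmem : ∀ k, InV k → D.ι k ∈ V := by
    intro k hk
    refine mem_map_of_mem _ ?_
    rcases hk with rfl | rfl | rfl | rfl
    exacts [one_mem _, subset_closure (Or.inl rfl), subset_closure (Or.inr rfl),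
      mul_mem (subset_closure (Or.inl rfl)) (subset_closure (Or.inr rfl))]
  have hVA : V ≤ A := by rintro _ ⟨k, -, rfl⟩; exact D.ι_mem k
  have hVne : V ≠ ⊥ := fun h0 => hzN (mem_bot.1 (h0 ▸ hVmem pa (Or.inr (Or.inl rfl))))
  have hVn : A ≤ normalizer (V : Set G) := by
    intro x hx
    obtain ⟨p, rfl⟩ := D.exists_j hx
    refine mem_normalizer_iff_map_conj_eq.2 (Subgroup.eq_of_le_of_card_ge ?_
      (Nat.card_congr (V.equivMapOfInjective _ (MulAut.conj (D.j p)).injective).toEquiv).le)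
    rw [hV, map_map, MonoidHom.map_closure, closure_le]
    rintro _ ⟨k, hk, rfl⟩
    show D.j p * D.j (k, 1) * (D.j p)⁻¹ ∈ V
    have hk' : InV k := by
      rcases hk with rfl | rfl
      exacts [Or.inr (Or.inl rfl), Or.inr (Or.inr (Or.inl rfl))]
    rw [← map_inv, ← map_mul, ← map_mul, show p * ((k, 1) : K2) * p⁻¹ = (p.1 * k * p.1⁻¹, 1) from
      Prod.ext rfl (show p.2 * 1 * p.2⁻¹ = 1 by rw [mul_one, mul_inv_cancel])]
    exact hVmem _ ((by decide +kernel : ∀ a k : Equiv.Perm (Fin 4), InV k → InV (a * k * a⁻¹)) p.1 k hk')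
  have hNV := D.prim.normalizer_eq hVne hVA hVn
  let T : Sym4 N :=
    { ι := D.ι.codRestrict N fun k => hrN ⟨k, rfl⟩
      inj := fun x y h => D.ι_inj (congrArg Subtype.val h)
      nv := fun x hx => by
        have hxA : (x : G) ∈ A := by
          rw [← hNV]
          refine mem_normalizer_iff_map_conj_eq.2 (Subgroup.eq_of_le_of_card_ge ?_
            (Nat.card_congr (V.equivMapOfInjective _ (MulAut.conj (x : G)).injective).toEquiv).le)
          rw [hV, map_map, MonoidHom.map_closure, closure_le]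
          rintro _ ⟨k, hk, rfl⟩
          obtain ⟨k', hk', e⟩ := hx k (by
            rcases hk with rfl | rfl
            exacts [Or.inr (Or.inl rfl), Or.inr (Or.inr (Or.inl rfl))])
          have e' : (x : G) * D.ι k * (x : G)⁻¹ = D.ι k' := congrArg Subtype.val e
          show (x : G) * D.ι k * (x : G)⁻¹ ∈ V
          rw [e']; exact hVmem k' hk'
        obtain ⟨k, hk⟩ := hAN.le ⟨hxA, x.2⟩
        exact ⟨k, Subtype.ext hk⟩ }
  -- the Sylow subgroup
  obtain ⟨S, hPS, -, hS32, -⟩ := D.exists_sylow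
  have hcard : Nat.card ((S : Subgroup G).subgroupOf N) = 16 := by
    have h1 : (N.subgroupOf (S : Subgroup G)).index ∣ 2 := by
      have h := relIndex_dvd_index_of_normal N (S : Subgroup G)
      rw [hN2] at h; exact h
    have h2 : (N.subgroupOf (S : Subgroup G)).index ≠ 1 := fun e => hwN
      (subgroupOf_eq_top.1 (index_eq_one.1 e) (hPS D.w_mem_P2))
    have h3 := (N.subgroupOf (S : Subgroup G)).card_mul_index
    rw [((Nat.dvd_prime Nat.prime_two).1 h1).resolve_left h2, hS32] at h3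
    have e : ((S : Subgroup G).subgroupOf N) ≃ (N.subgroupOf (S : Subgroup G)) :=
      ⟨fun x => ⟨⟨x.1.1, x.2⟩, x.1.2⟩, fun x => ⟨⟨x.1.1, x.2⟩, x.1.2⟩, fun _ => rfl, fun _ => rfl⟩
    rw [Nat.card_congr e]; omega
  have hp : IsPGroup 2 ((S : Subgroup G).subgroupOf N) := IsPGroup.of_card (n := 4) (by rw [hcard]; rfl)
  have hidx : ¬ 2 ∣ ((S : Subgroup G).subgroupOf N).index := by
    haveI : Fact (Nat.Prime 2) := ⟨Nat.prime_two⟩
    intro h2
    refine S.not_dvd_index ?_
    have h3 := ((S : Subgroup G).subgroupOf N).card_mul_index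
    have h4 := N.card_mul_index
    have h5 := (S : Subgroup G).card_mul_index
    rw [hcard] at h3
    rw [hN2] at h4
    rw [hS32] at h5
    have : (S : Subgroup G).index = ((S : Subgroup G).subgroupOf N).index := by omega
    rw [this]; exact h2
  refine ⟨{ N := N, normal := hN, index := hN2, hw := hwN, simple := hsimple, cent := hcent, T := T
            hT := fun k => rfl
            hAN := fun x hx => by
              obtain ⟨k, hk⟩ := hAN.le ⟨hx, x.2⟩
              exact ⟨k, Subtype.ext hk⟩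
            S := hp.toSylow hidx
            hPS := ?_
            hS := by rw [IsPGroup.toSylow_coe]; exact hcard }⟩
  rw [IsPGroup.toSylow_coe]
  rintro _ ⟨k, hk, rfl⟩
  exact hPS (D.ι_mem_P2 (mem_centralizer_singleton_iff.1 hk))

end TimesSit

end Cfsg.Lib.SubdegThree
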