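import Cfsg.Agent.SubdegThree.TimesBase
import Cfsg.Agent.S0111
import Cfsg.Agent.Coprime.Basic
import Cfsg.Agent.Chars.Count

/-!
The stabiliser `S₄ × C₂`: the Sylow subgroup and the subgroup of index two.
-/

set_option autoImplicit false
set_option linter.style.haveILetI false
set_option linter.unusedSectionVars false

namespace Cfsg.Lib.SubdegThree

open Subgroup

/-- The image of `pe ^ i * pb ^ l` under the outer automorphism with parameters `a`, `b`. -/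
def sg (a b i l : ℕ) : Equiv.Perm (Fin 4) := (pe ^ (1 + 2 * b)) ^ i * (pe ^ (1 + 2 * a) * pb) ^ l

theorem no_outer_fixed : ∀ (a b : Fin 2) (i : Fin 4) (l : Fin 2),
    sg a b i l = pe ^ (i : ℕ) * pb ^ (l : ℕ) * pa →
    pe ^ (i : ℕ) * pb ^ (l : ℕ) * pb * (pe ^ (i : ℕ) * pb ^ (l : ℕ))⁻¹ = sg a b (1 + 2 * (a : ℕ)) 1 → False := by
  decide +kernel

theorem free_coset : ∀ (a b : Fin 2) (i : Fin 4) (l : Fin 2),
    sg a b i l = pe ^ (i : ℕ) * pb ^ (l : ℕ) →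
    pe ^ (i : ℕ) * pb ^ (l : ℕ) * pb * (pe ^ (i : ℕ) * pb ^ (l : ℕ))⁻¹ = sg a b (1 + 2 * (a : ℕ)) 1 →
    pe ^ (i : ℕ) * pb ^ (l : ℕ) * pe * (pe ^ (i : ℕ) * pb ^ (l : ℕ))⁻¹ = sg a b (1 + 2 * (b : ℕ)) 0 →
    (∀ (i' : Fin 4) (l' : Fin 2), pe ^ (i' : ℕ) * pb ^ (l' : ℕ) * sg a b i' l' * (pe ^ (i : ℕ) * pb ^ (l : ℕ)) ≠ 1) ∨
      ∀ (i' : Fin 4) (l' : Fin 2),
        pe ^ (i' : ℕ) * pb ^ (l' : ℕ) * sg a b i' l' * (pe ^ (i : ℕ) * pb ^ (l : ℕ) * pa) ≠ 1 := by
  decide +kernel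

theorem param : ∀ k : Equiv.Perm (Fin 4), k * pa = pa * k → ∃ (i : Fin 4) (l : Fin 2), k = pe ^ (i : ℕ) * pb ^ (l : ℕ) := by
  decide +kernel

theorem pa_commutes_sg : ∀ (a b : Fin 2) (i : Fin 4) (l : Fin 2), sg a b i l * pa = pa * sg a b i l := by decide +kernel

universe u

variable {G : Type u} [Group G] [Finite G] {A : Subgroup G}

namespace TimesSit

variable (D : TimesSit A)

/-- The complement `S₄`. -/
def ι : Equiv.Perm (Fin 4) →* G := D.j.comp (MonoidHom.inl _ _)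

theorem ι_inj : Function.Injective D.ι := fun a b h => congrArg Prod.fst (D.jinj h)

theorem ι_apply (k : Equiv.Perm (Fin 4)) : D.ι k = D.j (k, 1) := rfl

/-- The central involution of the stabiliser. -/
def w : G := D.j (1, c2)

theorem j_split (k : Equiv.Perm (Fin 4)) : D.j (k, c2) = D.ι k * D.w := by
  rw [ι_apply, w, ← map_mul, Prod.mk_mul_mk, mul_one, one_mul]

theorem j_cases (p : K2) : D.j p = D.ι p.1 ∨ D.j p = D.ι p.1 * D.w := by
  obtain ⟨k, a⟩ := p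
  rcases c2_cases a with rfl | rfl
  · exact Or.inl rfl
  · exact Or.inr (D.j_split k)

theorem w_comm (k : Equiv.Perm (Fin 4)) : D.ι k * D.w = D.w * D.ι k := by
  rw [ι_apply, w, ← map_mul, ← map_mul, Prod.mk_mul_mk, Prod.mk_mul_mk, mul_one, one_mul, one_mul, mul_one]

theorem w_sq : D.w * D.w = 1 := by
  rw [w, ← map_mul, (by decide +kernel : ((1, c2) : K2) * (1, c2) = 1), map_one]

theorem w_ne : D.w ≠ 1 := fun h => absurd (D.jinj (h.trans (map_one D.j).symm)) (by decide +kernel)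

theorem j_mem (p : K2) : D.j p ∈ A := D.hjA.le ⟨p, rfl⟩

theorem ι_mem (k : Equiv.Perm (Fin 4)) : D.ι k ∈ A := D.j_mem (k, 1)

theorem cent_w : centralizer ({D.w} : Set G) = A :=
  D.prim.centralizer_eq (D.j_mem _) D.w_ne fun y hy => by
    obtain ⟨p, rfl⟩ : y ∈ D.j.range := by rw [D.hjA]; exact hy
    rw [w, ← map_mul, ← map_mul, show p * ((1, c2) : K2) = (1, c2) * p from Prod.ext (by simp) (mul_comm _ _)]

theorem mem_A_iff {x : G} : x ∈ A ↔ x * D.w = D.w * x :=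
  (SetLike.ext_iff.1 D.cent_w x).symm.trans mem_centralizer_singleton_iff

theorem exists_j {x : G} (hx : x ∈ A) : ∃ p, D.j p = x := (SetLike.ext_iff.1 D.hjA x).2 hx

/-- The Sylow subgroup of the stabiliser. -/
def P2 : Subgroup G := (centralizer ({(pa, 1)} : Set K2)).map D.j

theorem mem_P2 {x : G} : x ∈ D.P2 ↔ ∃ p : K2, p.1 * pa = pa * p.1 ∧ D.j p = x := mem_map_center

theorem j_mem_P2 {p : K2} (h : p.1 * pa = pa * p.1) : D.j p ∈ D.P2 := D.mem_P2.2 ⟨p, h, rfl⟩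

theorem ι_mem_P2 {k : Equiv.Perm (Fin 4)} (h : k * pa = pa * k) : D.ι k ∈ D.P2 := D.j_mem_P2 (p := (k, 1)) h

theorem w_mem_P2 : D.w ∈ D.P2 := D.j_mem_P2 (p := (1, c2)) (by simp)

theorem card_P2 : Nat.card D.P2 = 16 := by rw [P2, card_map_of_injective D.jinj, card_center_K2]

theorem P2_p : IsPGroup 2 D.P2 := IsPGroup.of_card (n := 4) (by rw [D.card_P2]; rfl)

theorem P2_le : D.P2 ≤ A := (map_le_range _ _).trans D.hjA.le

theorem hgw' : D.g * D.w * D.g⁻¹ = D.ι pa * D.w := D.hgw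

theorem hgz' : D.g * D.ι pa * D.g⁻¹ = D.ι pa := D.hgz

theorem g_sq : D.g * D.g ∈ D.P2 := by
  have hA : D.g * D.g ∈ A := by
    rw [D.mem_A_iff, ← mul_inv_eq_iff_eq_mul]
    rw [show D.g * D.g * D.w * (D.g * D.g)⁻¹ = D.g * (D.g * D.w * D.g⁻¹) * D.g⁻¹ by group, D.hgw',
      show D.g * (D.ι pa * D.w) * D.g⁻¹ = D.g * D.ι pa * D.g⁻¹ * (D.g * D.w * D.g⁻¹) by group, D.hgw', D.hgz',
      ← mul_assoc, ← map_mul, perm_facts.1, map_one, one_mul]
  obtain ⟨p, hp⟩ := D.exists_j hA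
  refine D.mem_P2.2 ⟨p, ?_, hp⟩
  have h : D.j p * D.ι pa = D.ι pa * D.j p := by
    rw [hp]
    calc D.g * D.g * D.ι pa = D.g * (D.g * D.ι pa * D.g⁻¹) * D.g⁻¹ * (D.g * D.g) := by group
      _ = D.ι pa * (D.g * D.g) := by rw [D.hgz', D.hgz']
  rw [ι_apply, ← map_mul, ← map_mul] at h
  exact congrArg Prod.fst (D.jinj h)

/-- The action of the outer element on the complement's Sylow subgroup. -/
theorem exists_param : ∃ a b : Fin 2, ∀ (i l : ℕ),
    D.g * D.ι (pe ^ i * pb ^ l) * D.g⁻¹ = D.ι (sg a b i l) := by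
  obtain ⟨a, ha⟩ : ∃ a : Fin 2, D.g * D.ι pb * D.g⁻¹ = D.ι (pe ^ (1 + 2 * (a : ℕ)) * pb) := by
    rcases D.hgt with h | h
    · exact ⟨0, h.trans (congrArg D.j (by decide +kernel))⟩
    · exact ⟨1, h.trans (congrArg D.j (by decide +kernel))⟩
  obtain ⟨p, hp, hpe'⟩ := D.mem_P2.1 D.g_sq
  obtain ⟨b, hb⟩ : ∃ b : Fin 2, D.g * D.ι pe * D.g⁻¹ = D.ι (pe ^ (1 + 2 * (b : ℕ))) := by
    have h1 : D.g * D.ι (pe ^ (1 + 2 * (a : ℕ)) * pb) * D.g⁻¹ = D.ι (p.1 * pb * p.1⁻¹) := by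
      rw [← ha, show D.g * (D.g * D.ι pb * D.g⁻¹) * D.g⁻¹ = D.g * D.g * D.ι pb * (D.g * D.g)⁻¹ by group, ← hpe',
        ι_apply, ι_apply, ← map_inv, ← map_mul, ← map_mul]
      exact congrArg D.j (Prod.ext (by simp) (by simp [mul_comm]))
    obtain ⟨b, hb⟩ := (by decide +kernel : ∀ (a : Fin 2) (k : Equiv.Perm (Fin 4)), k * pa = pa * k →
      ∃ b : Fin 2, pa ^ (a : ℕ) * (k * pb * k⁻¹) * (pe ^ (1 + 2 * (a : ℕ)) * pb) = pe ^ (1 + 2 * (b : ℕ))) a p.1 hp
    refine ⟨b, ?_⟩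
    have he : pe = pa ^ (a : ℕ) * (pe ^ (1 + 2 * (a : ℕ)) * pb) * pb :=
      (by decide +kernel : ∀ a : Fin 2, pe = pa ^ (a : ℕ) * (pe ^ (1 + 2 * (a : ℕ)) * pb) * pb) a
    have hz : D.g * D.ι (pa ^ (a : ℕ)) * D.g⁻¹ = D.ι (pa ^ (a : ℕ)) := by
      rw [map_pow, ← conj_pow, D.hgz']
    conv_lhs => rw [he, map_mul, map_mul]
    rw [show D.g * (D.ι (pa ^ (a : ℕ)) * D.ι (pe ^ (1 + 2 * (a : ℕ)) * pb) * D.ι pb) * D.g⁻¹ =
      D.g * D.ι (pa ^ (a : ℕ)) * D.g⁻¹ * (D.g * D.ι (pe ^ (1 + 2 * (a : ℕ)) * pb) * D.g⁻¹) *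
        (D.g * D.ι pb * D.g⁻¹) by group, hz, h1, ha, ← map_mul, ← map_mul, hb]
  refine ⟨a, b, fun i l => ?_⟩
  rw [map_mul, map_pow, map_pow,
    show D.g * (D.ι pe ^ i * D.ι pb ^ l) * D.g⁻¹ = D.g * D.ι pe ^ i * D.g⁻¹ * (D.g * D.ι pb ^ l * D.g⁻¹) by group,
    ← conj_pow, ← conj_pow, ha, hb, sg]
  simp only [map_mul, map_pow]

/-- The Sylow two-subgroup has order thirty-two. -/
theorem exists_sylow : ∃ S : Sylow 2 G, D.P2 ≤ (S : Subgroup G) ∧ D.g ∈ (S : Subgroup G) ∧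
    Nat.card (S : Subgroup G) = 32 ∧ ∀ x ∈ (S : Subgroup G), x ∈ D.P2 ∨ ∃ p ∈ D.P2, x = p * D.g := by
  classical
  have hnorm : zpowers D.g ≤ normalizer (D.P2 : Set G) :=
    zpowers_le.2 (mem_normalizer_iff.2 fun x => (D.hgP x).symm)
  set T := D.P2 ⊔ zpowers D.g with hT
  have hdec : ∀ x ∈ T, x ∈ D.P2 ∨ ∃ p ∈ D.P2, x = p * D.g := by
    intro x hx
    obtain ⟨p, hp, y, hy, rfl⟩ := (Cfsg.Lib.Coprime.mem_sup_of_le_normalizer hnorm).1 hx
    obtain ⟨n, rfl⟩ := mem_zpowers_iff.1 hy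
    obtain ⟨m, rfl | rfl⟩ := Int.even_or_odd' n
    · left
      rw [zpow_mul, zpow_two]
      exact mul_mem hp (zpow_mem D.g_sq m)
    · right
      refine ⟨p * (D.g * D.g) ^ m, mul_mem hp (zpow_mem D.g_sq m), ?_⟩
      rw [zpow_add, zpow_one, zpow_mul, zpow_two, mul_assoc]
  have hgp : IsPGroup 2 (zpowers D.g) := by
    obtain ⟨r, hr⟩ := D.P2_p ⟨D.g * D.g, D.g_sq⟩
    have h1 : D.g ^ 2 ^ (r + 1) = 1 := by
      rw [pow_succ', pow_mul, pow_two]
      exact congrArg Subtype.val hr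
    obtain ⟨i, -, hi⟩ := (Nat.dvd_prime_pow Nat.prime_two).1 (orderOf_dvd_of_pow_eq_one h1)
    exact IsPGroup.of_card (n := i) (by rw [Nat.card_zpowers, hi])
  have hTp : IsPGroup 2 T := by
    rw [hT, sup_comm]; exact IsPGroup.to_sup_of_normal_right' hgp D.P2_p hnorm
  have hgT : D.g ∈ T := mem_sup_right (mem_zpowers _)
  have hgP2 : D.g ∉ D.P2 := fun h => D.hg (D.P2_le h)
  have hT32 : Nat.card T = 32 := by
    have hidx : (D.P2.subgroupOf T).index = 2 := by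
      rw [index_eq_two_iff]
      refine ⟨⟨D.g, hgT⟩, fun b => ?_⟩
      simp only [mem_subgroupOf, Subgroup.coe_mul]
      rcases hdec b b.2 with hb | ⟨p, hp, hb⟩
      · exact Or.inr ⟨hb, fun h => hgP2 (by simpa using mul_mem (inv_mem hb) h)⟩
      · refine Or.inl ⟨?_, fun h => hgP2 ?_⟩
        · rw [hb, mul_assoc]; exact mul_mem hp D.g_sq
        · rw [hb] at h; simpa using mul_mem (inv_mem hp) h
    have h := (D.P2.subgroupOf T).card_mul_index
    rw [hidx, Nat.card_congr (subgroupOfEquivOfLe le_sup_left).toEquiv, D.card_P2] at h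
    omega
  obtain ⟨S, hS⟩ := hTp.exists_le_sylow
  have hPS : D.P2 ≤ (S : Subgroup G) := le_sup_left.trans hS
  have hSA : ∀ x ∈ (S : Subgroup G), x ∈ A → x ∈ D.P2 := by
    have hle : D.P2 ≤ (S : Subgroup G) ⊓ A := le_inf hPS D.P2_le
    obtain ⟨k, hk⟩ := (S.2.to_le (inf_le_left : (S : Subgroup G) ⊓ A ≤ S)).exists_card_eq
    have hcA : Nat.card A = 48 := by
      rw [← D.hjA, ← Nat.card_congr (MonoidHom.ofInjective D.jinj).toEquiv, Nat.card_prod, Nat.card_perm, Nat.card_fin,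
        Nat.card_congr Multiplicative.toAdd, Nat.card_zmod]; rfl
    have hd : 2 ^ k ∣ 48 := by rw [← hk, ← hcA]; exact card_dvd_of_le inf_le_right
    have heq := Subgroup.eq_of_le_of_card_ge hle (by
      rw [hk, D.card_P2]
      have hk4 : k ≤ 4 := by
        by_contra h
        exact absurd ((pow_dvd_pow 2 (show 5 ≤ k by omega)).trans hd) (by norm_num)
      calc 2 ^ k ≤ 2 ^ 4 := Nat.pow_le_pow_right two_pos hk4
        _ = 16 := rfl)
    exact fun x hx hxA => heq.ge ⟨hx, hxA⟩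
  suffices hST : (S : Subgroup G) = T by
    exact ⟨S, hPS, hS hgT, hST ▸ hT32, fun x hx => hdec x (hST ▸ hx)⟩
  refine le_antisymm ?_ hS
  by_contra hnot
  haveI := S.2.isNilpotent
  obtain ⟨n, hn, hnT⟩ := SetLike.exists_of_lt (Group.normalizerCondition_of_isNilpotent (T.subgroupOf (S : Subgroup G))
    (lt_top_iff_ne_top.2 fun h => hnot (subgroupOf_eq_top.1 h)))
  refine hnT (mem_subgroupOf.2 ?_)
  have hconj : ∀ x ∈ T, (n : G) * x * (n : G)⁻¹ ∈ T := fun x hx =>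
    mem_subgroupOf.1 ((mem_normalizer_iff.1 hn ⟨x, hS hx⟩).1 (mem_subgroupOf.2 hx))
  have hconj' : ∀ x ∈ T, (n : G)⁻¹ * x * (n : G) ∈ T := fun x hx => by
    have h := mem_subgroupOf.1 ((mem_normalizer_iff.1 (inv_mem hn) ⟨x, hS hx⟩).1 (mem_subgroupOf.2 hx))
    simpa using h
  have hzT : D.ι pa ∈ T := mem_sup_left (D.ι_mem_P2 rfl)
  have hzP : ∀ p ∈ D.P2, p * D.ι pa = D.ι pa * p := fun p hp => by
    obtain ⟨q, hq, rfl⟩ := D.mem_P2.1 hp
    rw [ι_apply, ← map_mul, ← map_mul, show q * ((pa, 1) : K2) = (pa, 1) * q from Prod.ext hq (mul_comm _ _)]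
  have hzc : ∀ x ∈ T, x * D.ι pa = D.ι pa * x := by
    intro x hx
    rcases hdec x hx with h | ⟨p, hp, rfl⟩
    · exact hzP x h
    · rw [mul_assoc, mul_inv_eq_iff_eq_mul.1 D.hgz', ← mul_assoc, hzP p hp, mul_assoc]
  have hzn : (n : G) * D.ι pa * (n : G)⁻¹ = D.ι pa := by
    set y := (n : G) * D.ι pa * (n : G)⁻¹ with hy
    have hycent : ∀ x ∈ T, x * y = y * x := by
      intro x hx
      have h := hzc _ (hconj' x hx)
      calc x * y = (n : G) * ((n : G)⁻¹ * x * (n : G) * D.ι pa) * (n : G)⁻¹ := by rw [hy]; group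
        _ = (n : G) * (D.ι pa * ((n : G)⁻¹ * x * (n : G))) * (n : G)⁻¹ := by rw [h]
        _ = y * x := by rw [hy]; group
    have hyA : y ∈ A := by
      rw [D.mem_A_iff]
      exact (hycent _ (mem_sup_left D.w_mem_P2)).symm
    obtain ⟨⟨k, a⟩, hk, hky⟩ := D.mem_P2.1 (hSA _ (hS (hconj _ hzT)) hyA)
    have h1 := hycent _ (mem_sup_left (D.ι_mem_P2 (k := pe) (by decide +kernel)))
    have h2 := hycent _ (mem_sup_left (D.ι_mem_P2 (k := pb) (by decide +kernel)))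
    replace hky : D.j (k, a) = y := hky
    rw [← hky, ι_apply, ← map_mul, ← map_mul] at h1 h2
    have h1' : pe * k = k * pe := congrArg Prod.fst (D.jinj h1)
    have h2' : pb * k = k * pb := congrArg Prod.fst (D.jinj h2)
    have hk' : k = 1 ∨ k = pa :=
      (by decide +kernel : ∀ k : Equiv.Perm (Fin 4), pe * k = k * pe → pb * k = k * pb → k = 1 ∨ k = pa) k h1' h2'
    rcases c2_cases a with rfl | rfl
    · rcases hk' with rfl | rfl
      · have hy1 : y = 1 := hky.symm.trans (map_one D.j)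
        rw [hy, conj_eq_one_iff] at hy1
        exact absurd (D.ι_inj (hy1.trans (map_one D.ι).symm)) (by decide +kernel)
      · exact hky.symm
    · exfalso
      rw [D.j_split] at hky
      have hgy : D.g * y * D.g⁻¹ = y := mul_inv_eq_iff_eq_mul.2 (hycent _ hgT)
      rw [← hky, show D.g * (D.ι k * D.w) * D.g⁻¹ = D.g * D.ι k * D.g⁻¹ * (D.g * D.w * D.g⁻¹) by group, D.hgw',
        show D.g * D.ι k * D.g⁻¹ = D.ι k by
          rcases hk' with rfl | rfl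
          · rw [map_one, mul_one, mul_inv_cancel]
          · exact D.hgz', mul_left_cancel_iff, mul_eq_right] at hgy
      exact absurd (D.ι_inj (hgy.trans (map_one D.ι).symm)) (by decide +kernel)
  -- the image of `w`
  have hwx : ∀ x ∈ T, x * D.w * x⁻¹ = D.w ∨ x * D.w * x⁻¹ = D.ι pa * D.w := by
    intro x hx
    rcases hdec x hx with h | ⟨p, hp, rfl⟩
    · left; rw [mul_inv_eq_iff_eq_mul]; exact D.mem_A_iff.1 (D.P2_le h)
    · right
      have hpw : p * D.w * p⁻¹ = D.w := mul_inv_eq_iff_eq_mul.2 (D.mem_A_iff.1 (D.P2_le hp))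
      rw [show p * D.g * D.w * (p * D.g)⁻¹ = p * (D.g * D.w * D.g⁻¹) * p⁻¹ by group, D.hgw', ← mul_assoc p, hzP p hp,
        show D.ι pa * p * D.w * p⁻¹ = D.ι pa * (p * D.w * p⁻¹) by group, hpw]
  set v := (n : G) * D.w * (n : G)⁻¹ with hv
  have hvx : ∀ x ∈ T, x * v * x⁻¹ = v ∨ x * v * x⁻¹ = D.ι pa * v := by
    intro x hx
    have e : x * v * x⁻¹ = (n : G) * (((n : G)⁻¹ * x * (n : G)) * D.w * ((n : G)⁻¹ * x * (n : G))⁻¹) * (n : G)⁻¹ := by
      rw [hv]; group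
    rw [e]
    rcases hwx _ (hconj' x hx) with h | h <;> rw [h]
    · exact Or.inl hv.symm
    · right
      rw [show (n : G) * (D.ι pa * D.w) * (n : G)⁻¹ = (n : G) * D.ι pa * (n : G)⁻¹ * v by rw [hv]; group, hzn]
  have hvT : v ∈ T := hconj _ (mem_sup_left D.w_mem_P2)
  have hvv : v * v = 1 := by
    rw [hv, show (n : G) * D.w * (n : G)⁻¹ * ((n : G) * D.w * (n : G)⁻¹) = (n : G) * (D.w * D.w) * (n : G)⁻¹ by group,
      D.w_sq, mul_one, mul_inv_cancel]
  obtain ⟨a, b, hparam⟩ := D.exists_param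
  rcases hdec v hvT with hvP | ⟨p, hp, hvp⟩
  · obtain ⟨⟨k, c⟩, hk, hkv⟩ := D.mem_P2.1 hvP
    have hk2 : k * k = 1 := congrArg Prod.fst (D.jinj (show D.j ((k, c) * (k, c)) = D.j 1 by
      rw [map_mul, map_one, hkv, hvv]))
    obtain ⟨i, l, hil⟩ := param k hk
    have hgv : D.g * v * D.g⁻¹ = D.ι (sg a b i l) ∨ D.g * v * D.g⁻¹ = D.ι (sg a b i l) * (D.ι pa * D.w) := by
      rw [← hkv]
      rcases c2_cases c with rfl | rfl
      · left; rw [← ι_apply, hil, hparam]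
      · right
        rw [D.j_split, show D.g * (D.ι k * D.w) * D.g⁻¹ = D.g * D.ι k * D.g⁻¹ * (D.g * D.w * D.g⁻¹) by group, D.hgw',
          hil, hparam]
    have hk0 : sg a b i l = k ∨ sg a b i l = pa * k := by
      have hfst : ∀ (q q' : K2), D.j q = D.j q' → q.1 = q'.1 := fun q q' h => congrArg Prod.fst (D.jinj h)
      rcases hvx _ hgT with h | h <;> rcases hgv with e | e <;> rw [e, ← hkv, ι_apply] at h <;>
        (try simp only [w, ι_apply, ← map_mul, Prod.mk_mul_mk] at h) <;> have h' := hfst _ _ h <;>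
        (try simp only [mul_one, one_mul] at h')
      · exact Or.inl h'
      · refine Or.inr ?_
        have : sg a b i l = k * pa := by rw [← h', mul_assoc, perm_facts.1, mul_one]
        rw [this, hk]
      · exact Or.inr h'
      · refine Or.inl ?_
        have : sg a b i l = pa * k * pa := by rw [← h', mul_assoc, perm_facts.1, mul_one]
        rw [this, mul_assoc, hk, ← mul_assoc, perm_facts.1, one_mul]
    have hkz : k = 1 ∨ k = pa := by
      rw [hil] at hk2 hk0 ⊢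
      exact (by decide +kernel : ∀ (a b : Fin 2) (i : Fin 4) (l : Fin 2),
        pe ^ (i : ℕ) * pb ^ (l : ℕ) * (pe ^ (i : ℕ) * pb ^ (l : ℕ)) = 1 →
        (sg a b i l = pe ^ (i : ℕ) * pb ^ (l : ℕ) ∨ sg a b i l = pa * (pe ^ (i : ℕ) * pb ^ (l : ℕ))) →
        pe ^ (i : ℕ) * pb ^ (l : ℕ) = 1 ∨ pe ^ (i : ℕ) * pb ^ (l : ℕ) = pa) a b i l hk2 hk0
    have hnS : (n : G) ∈ (S : Subgroup G) := n.2
    rcases c2_cases c with rfl | rfl
    · exfalso
      rcases hkz with rfl | rfl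
      · exact D.w_ne (conj_eq_one_iff.1 ((hkv.symm.trans (map_one D.j)) : v = 1))
      · have : D.w = D.ι pa := mul_left_cancel (mul_right_cancel
          ((hkv.symm : v = D.ι pa).trans hzn.symm : (n : G) * D.w * (n : G)⁻¹ = (n : G) * D.ι pa * (n : G)⁻¹))
        exact absurd (D.jinj this) (by decide +kernel)
    · rw [D.j_split] at hkv
      rcases hkz with rfl | rfl
      · rw [map_one, one_mul] at hkv
        exact mem_sup_left (hSA _ hnS (D.mem_A_iff.2 (mul_inv_eq_iff_eq_mul.1 hkv.symm)))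
      · -- `g n` centralises `w`
        have hgn : D.g * (n : G) ∈ A := by
          rw [D.mem_A_iff, ← mul_inv_eq_iff_eq_mul,
            show D.g * (n : G) * D.w * (D.g * (n : G))⁻¹ = D.g * v * D.g⁻¹ by rw [hv]; group, ← hkv,
            show D.g * (D.ι pa * D.w) * D.g⁻¹ = D.g * D.ι pa * D.g⁻¹ * (D.g * D.w * D.g⁻¹) by group, D.hgw', D.hgz',
            ← mul_assoc, ← map_mul, perm_facts.1, map_one, one_mul]
        have := mul_mem (inv_mem hgT) (mem_sup_left (hSA _ (mul_mem (hS hgT) hnS) hgn) : D.g * (n : G) ∈ T)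
        rwa [inv_mul_cancel_left] at this
  · exfalso
    have ht : v * D.ι pb * v⁻¹ = D.ι pb ∨ v * D.ι pb * v⁻¹ = D.ι pa * D.ι pb := by
      have htT : D.ι pb ∈ T := mem_sup_left (D.ι_mem_P2 (by decide +kernel))
      rcases hvx _ htT with h | h
      · left
        rw [mul_inv_eq_iff_eq_mul] at h ⊢
        exact h.symm
      · right
        rw [mul_inv_eq_iff_eq_mul] at h ⊢
        rw [mul_assoc (D.ι pa), h, ← mul_assoc (D.ι pa), ← mul_assoc (D.ι pa), ← map_mul D.ι, perm_facts.1, map_one,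
          one_mul]
    obtain ⟨q, hq, rfl⟩ := D.mem_P2.1 hp
    have e : v * D.ι pb * v⁻¹ = D.ι (q.1 * (pe ^ (1 + 2 * (a : ℕ)) * pb) * q.1⁻¹) := by
      have h1 := hparam 0 1
      rw [pow_zero, one_mul, pow_one, sg, pow_zero, one_mul, pow_one] at h1
      rw [hvp, show D.j q * D.g * D.ι pb * (D.j q * D.g)⁻¹ = D.j q * (D.g * D.ι pb * D.g⁻¹) * (D.j q)⁻¹ by group, h1,
        ι_apply, ι_apply, ← map_inv, ← map_mul, ← map_mul]
      exact congrArg D.j (Prod.ext (by simp) (by simp [mul_comm]))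
    rw [e, ← map_mul] at ht
    exact (by decide +kernel : ∀ (a : Fin 2) (k : Equiv.Perm (Fin 4)), k * pa = pa * k →
      k * (pe ^ (1 + 2 * (a : ℕ)) * pb) * k⁻¹ = pb ∨ k * (pe ^ (1 + 2 * (a : ℕ)) * pb) * k⁻¹ = pa * pb → False)
      a q.1 hq (ht.imp (fun h => D.ι_inj h) fun h => D.ι_inj h)

/-- The subgroup of index two. -/
theorem exists_index_two : ∃ N : Subgroup G, N.Normal ∧ N.index = 2 ∧ D.w ∉ N ∧ A ⊓ N = D.ι.range := by
  classical
  obtain ⟨S, hPS, hgS, hS32, hdec⟩ := D.exists_sylow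
  obtain ⟨a, b, hparam⟩ := D.exists_param
  set Dd : Subgroup G := (centralizer ({pa} : Set (Equiv.Perm (Fin 4)))).map D.ι with hDd
  have hDmem : ∀ {k}, k * pa = pa * k → D.ι k ∈ Dd := fun hk =>
    mem_map_of_mem _ (mem_centralizer_singleton_iff.2 hk)
  have hDgen : ∀ (i : Fin 4) (l : Fin 2), D.ι (pe ^ (i : ℕ) * pb ^ (l : ℕ)) ∈ Dd := fun i l =>
    hDmem ((by decide +kernel : ∀ (i : Fin 4) (l : Fin 2),
      pe ^ (i : ℕ) * pb ^ (l : ℕ) * pa = pa * (pe ^ (i : ℕ) * pb ^ (l : ℕ))) i l)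
  have hDcases : ∀ x ∈ Dd, ∃ (i : Fin 4) (l : Fin 2), x = D.ι (pe ^ (i : ℕ) * pb ^ (l : ℕ)) := by
    rintro _ ⟨k, hk, rfl⟩
    obtain ⟨i, l, rfl⟩ := param k (mem_centralizer_singleton_iff.1 hk)
    exact ⟨i, l, rfl⟩
  have hPdec : ∀ x ∈ D.P2, x ∈ Dd ∨ x * D.w ∈ Dd := by
    intro x hx
    obtain ⟨⟨k, c⟩, hk, rfl⟩ := D.mem_P2.1 hx
    rcases c2_cases c with rfl | rfl
    · exact Or.inl (hDmem hk)
    · right; rw [D.j_split, mul_assoc, D.w_sq, mul_one]; exact hDmem hk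
  -- the square of the outer element lies in the complement
  obtain ⟨k0, hk0, hk0e⟩ : ∃ k0, k0 * pa = pa * k0 ∧ D.ι k0 = D.g * D.g := by
    obtain ⟨⟨k, c⟩, hk, hkc⟩ := D.mem_P2.1 D.g_sq
    rcases c2_cases c with rfl | rfl
    · exact ⟨k, hk, hkc⟩
    · exfalso
      obtain ⟨i, l, rfl⟩ := param k hk
      rw [D.j_split] at hkc
      have h1 : D.g * (D.g * D.g) * D.g⁻¹ = D.g * D.g := by group
      rw [← hkc, show D.g * (D.ι (pe ^ (i : ℕ) * pb ^ (l : ℕ)) * D.w) * D.g⁻¹ =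
        D.g * D.ι (pe ^ (i : ℕ) * pb ^ (l : ℕ)) * D.g⁻¹ * (D.g * D.w * D.g⁻¹) by group, hparam, D.hgw',
        ← mul_assoc, mul_left_inj, ← map_mul] at h1
      have hfix : sg a b i l = pe ^ (i : ℕ) * pb ^ (l : ℕ) * pa := by
        have := D.ι_inj h1
        rw [← this, mul_assoc, perm_facts.1, mul_one]
      refine no_outer_fixed a b i l hfix ?_
      have h2 := hparam 0 1
      rw [pow_zero, one_mul, pow_one, sg, pow_zero, one_mul, pow_one] at h2
      have h3 := hparam (1 + 2 * (a : ℕ)) 1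
      rw [pow_one, ← h2, show D.g * (D.g * D.ι pb * D.g⁻¹) * D.g⁻¹ = D.g * D.g * D.ι pb * (D.g * D.g)⁻¹ by group,
        ← hkc] at h3
      refine D.ι_inj ?_
      rw [← h3, map_mul, map_mul, map_inv, mul_inv_rev, mul_assoc _ D.w (D.ι pb), ← D.w_comm pb]
      group
  obtain ⟨i0, l0, hil⟩ := param k0 hk0
  subst hil
  have hc1 : sg a b i0 l0 = pe ^ (i0 : ℕ) * pb ^ (l0 : ℕ) := D.ι_inj (by rw [← hparam, hk0e]; group)
  have hconj : ∀ i l : ℕ, D.ι (pe ^ (i0 : ℕ) * pb ^ (l0 : ℕ) * (pe ^ i * pb ^ l) * (pe ^ (i0 : ℕ) * pb ^ (l0 : ℕ))⁻¹) =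
      D.g * D.ι (sg a b i l) * D.g⁻¹ := fun i l => by
    rw [map_mul, map_mul, map_inv, hk0e, ← hparam]; group
  have hc2 : pe ^ (i0 : ℕ) * pb ^ (l0 : ℕ) * pb * (pe ^ (i0 : ℕ) * pb ^ (l0 : ℕ))⁻¹ = sg a b (1 + 2 * (a : ℕ)) 1 := by
    refine D.ι_inj ?_
    have h := hconj 0 1
    rw [pow_zero, one_mul, pow_one] at h
    rw [h, ← hparam (1 + 2 * (a : ℕ)) 1, sg, pow_zero, one_mul, pow_one, pow_one]
  have hc3 : pe ^ (i0 : ℕ) * pb ^ (l0 : ℕ) * pe * (pe ^ (i0 : ℕ) * pb ^ (l0 : ℕ))⁻¹ = sg a b (1 + 2 * (b : ℕ)) 0 := by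
    refine D.ι_inj ?_
    have h := hconj 1 0
    rw [pow_one, pow_zero, mul_one] at h
    rw [h, ← hparam (1 + 2 * (b : ℕ)) 0, sg, pow_one, pow_zero, mul_one, pow_zero, mul_one]
  -- the coset without involutions
  obtain ⟨h, hh2, hhconj, hhS, hhP, hfree⟩ : ∃ h, h * h ∈ Dd ∧ (∀ x, h * x * h⁻¹ ∈ Dd ↔ x ∈ Dd) ∧
      h ∈ (S : Subgroup G) ∧ h ∉ D.P2 ∧ ∀ d ∈ Dd, d * h * (d * h) ≠ 1 := by
    have hσ : ∀ d ∈ Dd, D.g * d * D.g⁻¹ ∈ Dd := by
      intro d hd
      obtain ⟨i, l, rfl⟩ := hDcases d hd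
      rw [hparam]
      exact hDmem (pa_commutes_sg a b i l)
    have hσ' : ∀ x, D.g * x * D.g⁻¹ ∈ Dd ↔ x ∈ Dd := by
      intro x
      refine ⟨fun hx => ?_, hσ x⟩
      have h2 := hσ _ hx
      rw [show D.g * (D.g * x * D.g⁻¹) * D.g⁻¹ = D.g * D.g * x * (D.g * D.g)⁻¹ by group, ← hk0e] at h2
      have h3 := mul_mem (mul_mem (inv_mem (hDmem hk0)) h2) (hDmem hk0)
      rwa [show (D.ι (pe ^ (i0 : ℕ) * pb ^ (l0 : ℕ)))⁻¹ * (D.ι (pe ^ (i0 : ℕ) * pb ^ (l0 : ℕ)) * x *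
        (D.ι (pe ^ (i0 : ℕ) * pb ^ (l0 : ℕ)))⁻¹) * D.ι (pe ^ (i0 : ℕ) * pb ^ (l0 : ℕ)) = x by group] at h3
    have hgP : D.g ∉ D.P2 := fun h => D.hg (D.P2_le h)
    rcases free_coset a b i0 l0 hc1 hc2 hc3 with hf | hf
    · refine ⟨D.g, hk0e ▸ hDmem hk0, hσ', hgS, hgP, fun d hd h1 => ?_⟩
      obtain ⟨i, l, rfl⟩ := hDcases d hd
      refine hf i l (D.ι_inj ?_)
      rw [map_one, map_mul, map_mul, ← hparam, hk0e, ← h1]
      group
    · have hg2w : D.g * D.w * (D.g * D.w) = D.ι (pe ^ (i0 : ℕ) * pb ^ (l0 : ℕ) * pa) := by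
        rw [map_mul, hk0e, show D.g * D.w * (D.g * D.w) = D.g * D.w * D.g⁻¹ * (D.g * D.g) * D.w by group, D.hgw',
          ← hk0e]
        rw [mul_assoc (D.ι pa), ← D.w_comm, mul_assoc (D.ι pa), mul_assoc (D.ι _), D.w_sq, mul_one, ← map_mul,
          ← map_mul, hk0]
      refine ⟨D.g * D.w, hg2w ▸ hDmem ((by decide +kernel : ∀ k : Equiv.Perm (Fin 4), k * pa = pa * k →
        k * pa * pa = pa * (k * pa)) _ hk0), fun x => ?_, mul_mem hgS (hPS D.w_mem_P2),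
        fun h => hgP (by simpa using mul_mem h (inv_mem D.w_mem_P2)), fun d hd h1 => ?_⟩
      · rw [show D.g * D.w * x * (D.g * D.w)⁻¹ = D.g * (D.w * x * D.w⁻¹) * D.g⁻¹ by group, hσ']
        have hwd : ∀ y ∈ Dd, D.w * y * D.w⁻¹ = y := by
          rintro _ ⟨k, -, rfl⟩
          rw [← D.w_comm, mul_inv_cancel_right]
        exact ⟨fun hy => by
            have := hwd _ hy
            rw [show D.w * x * D.w⁻¹ = x from mul_left_cancel (mul_right_cancel this)] at hy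
            exact hy,
          fun hy => by rw [hwd x hy]; exact hy⟩
      · obtain ⟨i, l, rfl⟩ := hDcases d hd
        refine hf i l (D.ι_inj ?_)
        rw [map_one, map_mul, map_mul, ← hparam, ← hg2w, ← h1]
        set y := D.ι (pe ^ (i : ℕ) * pb ^ (l : ℕ)) with hy
        have hyw : D.w * y = y * D.w := (D.w_comm _).symm
        calc y * (D.g * y * D.g⁻¹) * (D.g * D.w * (D.g * D.w))
            = y * D.g * (y * D.w) * (D.g * D.w) := by group
          _ = y * D.g * (D.w * y) * (D.g * D.w) := by rw [hyw]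
          _ = _ := by group
  -- the maximal subgroup
  set M := Dd ⊔ zpowers h with hM
  have hhn : zpowers h ≤ normalizer (Dd : Set G) := zpowers_le.2 (mem_normalizer_iff.2 fun x => (hhconj x).symm)
  have hMdec : ∀ x ∈ M, x ∈ Dd ∨ ∃ d ∈ Dd, x = d * h := by
    intro x hx
    obtain ⟨p, hp, y, hy, rfl⟩ := (Cfsg.Lib.Coprime.mem_sup_of_le_normalizer hhn).1 hx
    obtain ⟨n, rfl⟩ := mem_zpowers_iff.1 hy
    obtain ⟨m, rfl | rfl⟩ := Int.even_or_odd' n
    · left; rw [zpow_mul, zpow_two]; exact mul_mem hp (zpow_mem hh2 m)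
    · right
      refine ⟨p * (h * h) ^ m, mul_mem hp (zpow_mem hh2 m), ?_⟩
      rw [zpow_add, zpow_one, zpow_mul, zpow_two, mul_assoc]
  have hDP : Dd ≤ D.P2 := by
    rintro _ ⟨k, hk, rfl⟩
    exact D.ι_mem_P2 (mem_centralizer_singleton_iff.1 hk)
  have hwD : D.w ∉ Dd := by
    rintro ⟨k, -, hk⟩
    exact (show (1 : Multiplicative (ZMod 2)) ≠ c2 by decide) (congrArg Prod.snd (D.jinj hk))
  have hwM : D.w ∉ M := by
    intro hw
    rcases hMdec _ hw with e | ⟨d, hd, e⟩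
    · exact hwD e
    · refine hhP ?_
      rw [eq_inv_mul_of_mul_eq e.symm]
      exact mul_mem (inv_mem (hDP hd)) D.w_mem_P2
  have hMS : M ≤ (S : Subgroup G) := sup_le (hDP.trans hPS) (zpowers_le.2 hhS)
  have hrel : M.relIndex (S : Subgroup G) = 2 := by
    show (M.subgroupOf (S : Subgroup G)).index = 2
    rw [index_eq_two_iff]
    refine ⟨⟨D.w, hPS D.w_mem_P2⟩, fun x => ?_⟩
    simp only [mem_subgroupOf, Subgroup.coe_mul]
    have hxor : ∀ y : G, y ∈ M → y * D.w ∉ M := fun y hy hyw => hwM (by simpa using mul_mem (inv_mem hy) hyw)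
    have hor : (x : G) ∈ M ∨ (x : G) * D.w ∈ M := by
      have hP : ∀ y ∈ D.P2, y ∈ M ∨ y * D.w ∈ M := fun y hy => (hPdec y hy).imp (fun e => mem_sup_left e) fun e => mem_sup_left e
      have hhg : ∀ y ∈ (S : Subgroup G), y ∈ D.P2 ∨ ∃ p ∈ D.P2, y = p * h := by
        intro y hy
        rcases hdec y hy with e | ⟨p, hp, e⟩
        · exact Or.inl e
        · right
          rcases hdec h hhS with e' | ⟨q, hq, e'⟩
          · exact absurd e' hhP
          · exact ⟨p * q⁻¹, mul_mem hp (inv_mem hq), by rw [e, e']; group⟩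
      rcases hhg x x.2 with e | ⟨p, hp, e⟩
      · exact hP _ e
      · rcases hP p hp with e' | e'
        · left; rw [e]; exact mul_mem e' (mem_sup_right (mem_zpowers _))
        · right
          have hwh : h * D.w * h⁻¹ = D.ι pa * D.w := by
            rcases hdec h hhS with e1 | ⟨q, hq, e1⟩
            · exact absurd e1 hhP
            · have hqw : q * D.w * q⁻¹ = D.w :=
                mul_inv_eq_iff_eq_mul.2 (D.mem_A_iff.1 (D.P2_le hq))
              obtain ⟨r, hr, hrq⟩ := D.mem_P2.1 hq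
              have hqz : q * D.ι pa * q⁻¹ = D.ι pa := by
                rw [← hrq, ι_apply, ← map_inv, ← map_mul, ← map_mul]
                exact congrArg D.j (Prod.ext (mul_inv_eq_iff_eq_mul.2 hr) (by simp [mul_comm]))
              rw [e1, show q * D.g * D.w * (q * D.g)⁻¹ = q * (D.g * D.w * D.g⁻¹) * q⁻¹ by group, D.hgw',
                show q * (D.ι pa * D.w) * q⁻¹ = q * D.ι pa * q⁻¹ * (q * D.w * q⁻¹) by group, hqz, hqw]
          rw [e, show p * h * D.w = p * (h * D.w * h⁻¹) * h by group, hwh, D.w_comm pa,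
            show p * (D.w * D.ι pa) * h = p * D.w * D.ι pa * h by group]
          exact mul_mem (mul_mem e' (mem_sup_left (hDmem rfl))) (mem_sup_right (mem_zpowers _))
    by_cases hx : (x : G) ∈ M
    · exact Or.inr ⟨hx, hxor _ hx⟩
    · exact Or.inl ⟨hor.resolve_left hx, hx⟩
  -- no conjugate of `w` lies in it
  have hzw : ¬ IsConj (D.ι pa) D.w := by
    intro hc
    have hcard : ∀ x : G, Nat.card {y : G // IsConj x y} * Nat.card (centralizer ({x} : Set G)) = Nat.card G :=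
      Cfsg.Lib.Chars.card_isConj_mul
    have he : Nat.card (centralizer ({D.ι pa} : Set G)) = Nat.card (centralizer ({D.w} : Set G)) := by
      have h1 := hcard (D.ι pa)
      have h2 := hcard D.w
      have : Nat.card {y : G // IsConj (D.ι pa) y} = Nat.card {y : G // IsConj D.w y} :=
        Nat.card_congr (Equiv.subtypeEquivRight fun y => ⟨fun h => hc.symm.trans h, fun h => hc.trans h⟩)
      rw [this] at h1
      exact Nat.eq_of_mul_eq_mul_left (Cfsg.Lib.Chars.card_isConj_pos D.w) (h1.trans h2.symm)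
    have hSC : (S : Subgroup G) ≤ centralizer ({D.ι pa} : Set G) := fun x hx => by
      rw [mem_centralizer_singleton_iff]
      have hP : ∀ p ∈ D.P2, p * D.ι pa = D.ι pa * p := fun p hp => by
        obtain ⟨q, hq, rfl⟩ := D.mem_P2.1 hp
        rw [ι_apply, ← map_mul, ← map_mul, show q * ((pa, 1) : K2) = (pa, 1) * q from Prod.ext hq (mul_comm _ _)]
      rcases hdec x hx with e | ⟨p, hp, rfl⟩
      · exact hP x e
      · rw [mul_assoc, mul_inv_eq_iff_eq_mul.1 D.hgz', ← mul_assoc, hP p hp, mul_assoc]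
    have := card_dvd_of_le hSC
    rw [hS32, he, D.cent_w, ← D.hjA, ← Nat.card_congr (MonoidHom.ofInjective D.jinj).toEquiv, Nat.card_prod,
      Nat.card_perm, Nat.card_fin, Nat.card_congr Multiplicative.toAdd, Nat.card_zmod] at this
    norm_num [Nat.factorial] at this
  have hconj_z : ∀ k : Equiv.Perm (Fin 4), k * pa = pa * k → k * k = 1 → k ≠ 1 → IsConj (D.ι pa) (D.ι k) := by
    intro k hk hk2 hk1
    have hV : ∀ v, InV v → v ≠ 1 → IsConj (D.ι pa) (D.ι v) := fun v hv hv1 => by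
      obtain ⟨c, hc⟩ := (by decide +kernel : ∀ v : Equiv.Perm (Fin 4), InV v → v ≠ 1 → ∃ c, c * pa * c⁻¹ = v) v hv hv1
      exact isConj_iff.2 ⟨D.ι c, by rw [← map_inv, ← map_mul, ← map_mul, hc]⟩
    by_cases hkV : InV k
    · exact hV k hkV hk1
    obtain ⟨v, hv, hv1, hvk⟩ := (by decide +kernel : ∀ (a b : Fin 2) (k : Equiv.Perm (Fin 4)), k * pa = pa * k →
      k * k = 1 → ¬ InV k → ∃ v, InV v ∧ v ≠ 1 ∧ ∃ l : Fin 4, ∃ m : Fin 2, v = pe ^ (l : ℕ) * pb ^ (m : ℕ) ∧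
        sg a b l m = k) a b k hk hk2 hkV
    obtain ⟨l, m, hlm, hsg⟩ := hvk
    refine (hV v hv hv1).trans (isConj_iff.2 ⟨D.g, ?_⟩)
    rw [hlm, hparam, hsg]
  obtain ⟨N, hN, hN2, hwN⟩ := (Cfsg.Agent.S0111.result S M hMS hrel D.w
    (orderOf_eq_prime (by rw [pow_two, D.w_sq]) D.w_ne) (hPS D.w_mem_P2) hwM).resolve_right (by
      rintro ⟨x, hx⟩
      have hxx : x * D.w * x⁻¹ * (x * D.w * x⁻¹) = 1 := by
        rw [show x * D.w * x⁻¹ * (x * D.w * x⁻¹) = x * (D.w * D.w) * x⁻¹ by group, D.w_sq, mul_one, mul_inv_cancel]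
      rcases hMdec _ hx with e | ⟨d, hd, e⟩
      · obtain ⟨k, hk, hke⟩ := e
        refine hzw ((hconj_z k (mem_centralizer_singleton_iff.1 hk) (D.ι_inj ?_) ?_).trans ?_)
        · rw [map_mul, map_one, hke, hxx]
        · intro h1
          rw [h1, map_one] at hke
          exact D.w_ne (conj_eq_one_iff.1 hke.symm)
        · exact (isConj_iff.2 ⟨x, hke.symm⟩).symm
      · exact hfree d hd (e ▸ hxx))
  refine ⟨N, hN, hN2, hwN, ?_⟩
  have hzN : D.ι pa ∈ N := by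
    rw [← perm_facts.2.2.2.2.2.2.1, map_mul, ← pow_two]
    exact Subgroup.sq_mem_of_index_two hN2 _
  have hdN : D.ι pd ∈ N := by
    rw [show pd = (pd * pd) ^ 2 by decide +kernel, map_pow]
    exact Subgroup.sq_mem_of_index_two hN2 _
  have htN : D.ι pb ∈ N := by
    rw [← perm_facts.2.2.2.1, map_mul, map_mul, map_inv]
    exact hN.conj_mem _ hzN _
  have heN : D.ι pe ∈ N := by
    have h2 := hparam 0 1
    rw [pow_zero, one_mul, pow_one, sg, pow_zero, one_mul, pow_one] at h2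
    have h3 : D.ι (pe ^ (1 + 2 * (a : ℕ)) * pb) ∈ N := h2 ▸ hN.conj_mem _ htN _
    rw [(by decide +kernel : ∀ a : Fin 2, pe = pa ^ (a : ℕ) * (pe ^ (1 + 2 * (a : ℕ)) * pb) * pb) a, map_mul, map_mul,
      map_pow]
    exact mul_mem (mul_mem (pow_mem hzN _) h3) htN
  have hrange : D.ι.range ≤ N := by
    rintro _ ⟨k, rfl⟩
    obtain ⟨v, hv, i, l, rfl⟩ := (by decide +kernel : ∀ k : Equiv.Perm (Fin 4), ∃ v, InV v ∧ ∃ i : Fin 3,
      ∃ l : Fin 2, k = v * pd ^ (i : ℕ) * pe ^ (l : ℕ)) k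
    rw [map_mul, map_mul, map_pow, map_pow]
    refine mul_mem (mul_mem ?_ (pow_mem hdN _)) (pow_mem heN _)
    rcases hv with rfl | rfl | rfl | rfl
    · rw [map_one]; exact one_mem _
    · exact hzN
    · exact htN
    · rw [map_mul]; exact mul_mem hzN htN
  refine le_antisymm (fun x hx => ?_) (le_inf (by rintro _ ⟨k, rfl⟩; exact D.ι_mem k) hrange)
  obtain ⟨p, hp⟩ := D.exists_j hx.1
  rcases D.j_cases p with e | e
  · exact ⟨p.1, e.symm.trans hp⟩
  · exfalso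
    refine hwN ?_
    have h1 : D.ι p.1 * D.w ∈ N := by rw [← e, hp]; exact hx.2
    simpa using mul_mem (inv_mem (hrange ⟨p.1, rfl⟩)) h1

end TimesSit

end Cfsg.Lib.SubdegThree
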